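import Mathlib

/-!
# Counting orbits outside an invariant set, and the arithmetic of the index
-/

set_option autoImplicit false
set_option linter.all false

namespace CfsgLib.Perm.Trans.UnitThree.OSub

/-- orbits outside an invariant set -/
theorem card_of_orbits {K Q : Type*} [Group K] [MulAction K Q] [Finite Q] {S : Set Q}
    (hS : ∀ (k : K), ∀ x ∈ S, k • x ∈ S) {d : ℕ} (hd : ∀ x ∉ S, d ∣ Nat.card (MulAction.orbit K x)) :
    ∃ j : ℕ, Nat.card Q = Nat.card S + d * j := by
  classical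
  haveI : Fintype Q := Fintype.ofFinite Q
  haveI : Fintype (MulAction.orbitRel.Quotient K Q) := Fintype.ofFinite _
  let mk : Q → MulAction.orbitRel.Quotient K Q := Quotient.mk''
  let Tc : Finset Q := Finset.univ.filter fun x => x ∉ S
  have h1 : Nat.card Q = Nat.card S + Tc.card := by
    rw [Nat.card_eq_fintype_card, Nat.card_eq_fintype_card, ← Set.toFinset_card,
      show Tc = S.toFinsetᶜ from Finset.ext fun x => by simp [Tc], Finset.card_add_card_compl]
  have h2 : d ∣ Tc.card := by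
    rw [Finset.card_eq_sum_card_image mk Tc]
    refine Finset.dvd_sum fun o ho => ?_
    obtain ⟨x, hx, rfl⟩ := Finset.mem_image.1 ho
    have hxS : x ∉ S := (Finset.mem_filter.1 hx).2
    have heq : (Tc.filter fun y => mk y = mk x).card = Nat.card (MulAction.orbit K x) := by
      rw [Nat.card_eq_fintype_card, ← Set.toFinset_card]
      congr 1
      ext y
      simp only [Tc, mk, Finset.mem_filter, Finset.mem_univ, true_and, Set.mem_toFinset, Quotient.eq'',
        MulAction.orbitRel_apply]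
      refine ⟨And.right, fun h => ⟨fun hyS => ?_, h⟩⟩
      obtain ⟨k, hk⟩ := h
      exact hxS (by rw [← inv_smul_smul k x, show k • x = y from hk]; exact hS _ _ hyS)
    exact heq ▸ hd x hxS
  obtain ⟨j, hj⟩ := h2
  exact ⟨j, by rw [h1, hj]⟩

/-- the possible indices -/
theorem index_cases {q a d k N : ℕ} (hq : q = 2 * a + 1) (hq7 : 7 ≤ q) (hd : d = q * a)
    (hN : N = q + 1 + d * k) (hdvd : N ∣ (q + 1) * (q ^ 3 + 1)) : k = 0 ∨ k = 2 * (q + 1) := by
  obtain ⟨m, hm⟩ := hdvd
  have h2 : 2 * (d : ℤ) = (q : ℤ) ^ 2 - q := by rw [hd]; subst hq; push_cast; ring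
  have hm' : (((q : ℤ) + 1) + d * k) * m = ((q : ℤ) + 1) * (((q : ℤ) + 1) * (2 * d + 1)) := by
    have : ((((q + 1) * (q ^ 3 + 1) : ℕ)) : ℤ) = ((N * m : ℕ) : ℤ) := by rw [hm]
    rw [hN] at this
    push_cast at this
    rw [h2]
    linear_combination -this
  obtain ⟨e, he⟩ : ∃ e : ℤ, e = m - ((q : ℤ) + 1) := ⟨_, rfl⟩
  have hq' : (q : ℤ) = 2 * a + 1 := by rw [hq]; push_cast; ring
  have hd' : (d : ℤ) = q * a := by rw [hd]; push_cast; ring
  obtain ⟨c, hc⟩ : (d : ℤ) ∣ ((q : ℤ) + 1) * e :=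
    ⟨2 * ((q : ℤ) + 1) ^ 2 - k * m, by rw [he]; linear_combination hm'⟩
  rw [hd', hq'] at hc
  obtain ⟨i, hi⟩ : ∃ i : ℤ, 2 * e = d * i := ⟨c - 2 * a * c + 2 * e, by
    rw [hd', hq']
    linear_combination (1 - 2 * (a : ℤ)) * hc⟩
  have key : ((q : ℤ) + 1) * (2 * k + i) + k * i * d = 4 * ((q : ℤ) + 1) ^ 2 := by
    have hd0 : (d : ℤ) ≠ 0 := by
      rw [hd', hq']
      have : 3 ≤ a := by omega
      positivity
    refine mul_left_cancel₀ hd0 ?_
    linear_combination 2 * hm' - (((q : ℤ) + 1) + d * k) * hi + 2 * (((q : ℤ) + 1) + d * k) * he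
  by_cases hk : k = 0
  · exact Or.inl hk
  have ha3 : 3 ≤ (a : ℤ) := by omega
  have hk1 : 1 ≤ (k : ℤ) := by omega
  have hi0 : 0 ≤ i := by
    by_contra hneg
    push Not at hneg
    have h1 : (d : ℤ) * i ≤ -d := by nlinarith
    have h3 : 0 ≤ (m : ℤ) := Int.natCast_nonneg m
    rw [hd', hq'] at h1 hi
    nlinarith
  rcases hi0.lt_or_eq with hi1 | hi1
  swap
  · right
    rw [← hi1] at key
    simp only [mul_zero, zero_mul, add_zero] at key
    have h3 : ((q : ℤ) + 1) * (2 * k) = ((q : ℤ) + 1) * (4 * (q + 1)) := by linear_combination key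
    have h4 := mul_left_cancel₀ (by positivity) h3
    omega
  exfalso
  have hi1' : 1 ≤ i := hi1
  have hki : (q : ℤ) + 1 ≤ 2 * (k * i) := by
    refine Int.le_of_dvd (by nlinarith) ⟨8 * (q + 1) - 2 * (2 * k + i) - k * i * (q - 2), ?_⟩
    linear_combination 2 * key - (k : ℤ) * i * h2
  have hq17 : q ≤ 17 := by
    by_contra hbig
    push Not at hbig
    have h5 : ((q : ℤ) + 1) * (q * q - q) ≤ 4 * (k * i) * d := by nlinarith
    have h6 : ((q : ℤ) + 1) * (q * q - q) ≤ ((q : ℤ) + 1) * (16 * (q + 1)) := by nlinarith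
    have h7 : (q : ℤ) * q - q ≤ 16 * (q + 1) := le_of_mul_le_mul_left h6 (by positivity)
    have h8 : (18 : ℤ) ≤ q := by omega
    nlinarith
  have hkb : k ≤ 12 := by
    by_contra hbig
    push Not at hbig
    have h8 : (13 : ℤ) ≤ k := by omega
    have h9 : 13 * (d : ℤ) ≤ k * i * d := by
      have : (13 : ℤ) ≤ k * i := by nlinarith
      exact mul_le_mul_of_nonneg_right this (Int.natCast_nonneg d)
    have h10 : (q : ℤ) ≤ 17 := by omega
    rw [hd', hq'] at h9
    nlinarith
  subst hd hq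
  have ha8 : a ≤ 8 := by omega
  have ha3' : 3 ≤ a := by omega
  have hk1' : 1 ≤ k := by omega
  interval_cases a <;> interval_cases k <;> push_cast at key <;> omega

end CfsgLib.Perm.Trans.UnitThree.OSub
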