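import Cfsg.Agent.Lib.Perm.Trans.UnitThree.Plane
import Cfsg.Agent.Lib.Perm.Trans.ThreeDim.UnitaryTv

/-!
# Transvections in unitary groups of dimension three over fields of characteristic two

An involution is a transvection; two transvections of an irreducible group which are not conjugate have the same
centre.  A two-subgroup is bounded by the transvections at its fixed point, so a group of order divisible by a
large power of two contains a full transvection subgroup.
-/

set_option autoImplicit false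
set_option linter.all false

namespace CfsgLib.Perm.Trans.UnitThree

open scoped Matrix
open Matrix Cfsg.Geo CfsgLib.Perm.Asch CfsgLib.Perm.Trans CfsgLib.Perm.Trans.Unit

variable {F : Type*} [Field F] [Fintype F] [CharP F 2]
variable {σ : F ≃+* F} {f : (Fin 3 → F) → (Fin 3 → F) → F}

local notation "M3" => Matrix (Fin 3) (Fin 3) F
local notation "G3" => GL (Fin 3) F
local notation "V3" => Fin 3 → F

/-- the group contains the transvection with the given centre and coefficient -/
def TvAt (σ : F ≃+* F) (f : (Fin 3 → F) → (Fin 3 → F) → F) (M : Subgroup (GL (Fin 3) F)) (u : Fin 3 → F)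
    (c : F) : Prop :=
  σ c = c ∧ ∃ g ∈ M, ∀ x, (g : Matrix (Fin 3) (Fin 3) F) *ᵥ x = x + (c * f x u) • u

variable {M : Subgroup (GL (Fin 3) F)} (hf : IsUnitaryForm σ f)
theorem one_of_pow_two {x : F} {j : ℕ} (h : x ^ 2 ^ j = 1) : x = 1 := by
  induction j with
  | zero => simpa using h
  | succ j ih =>
    refine ih (CharTwo.add_eq_zero.1 ?_)
    rw [pow_succ, pow_mul] at h
    refine (pow_eq_zero_iff two_ne_zero).1 ?_
    rw [CharTwo.add_sq, h, one_pow, CharTwo.add_self_eq_zero]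

include hf

/-- an involution is a transvection -/
theorem involution_tv (hM : M ≤ isoU f) {g : G3} (hg : g ∈ M) (h2 : g * g = 1) (h1 : g ≠ 1) :
    ∃ (u : V3) (c : F), u ≠ 0 ∧ c ≠ 0 ∧ f u u = 0 ∧ TvAt σ f M u c ∧
      ∀ x, (g : M3) *ᵥ x = x + (c * f x u) • u := by
  have hiso := mem_isoU.1 (hM hg)
  have hgg : ∀ x, (g : M3) *ᵥ ((g : M3) *ᵥ x) = x := fun x => by
    rw [← gl_mul_mulVec, h2, Units.val_one, one_mulVec]
  have hsym : ∀ x y, f ((g : M3) *ᵥ x) y = f x ((g : M3) *ᵥ y) := fun x y => by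
    conv_lhs => rw [← hgg y]
    exact hiso _ _
  obtain ⟨x₀, hx₀⟩ : ∃ x, (g : M3) *ᵥ x + x ≠ 0 := by
    by_contra hcon
    push Not at hcon
    refine h1 (gl_ext_vec fun x => ?_)
    rw [Units.val_one, one_mulVec]
    exact CharTwo.add_eq_zero.1 (hcon x)
  obtain ⟨u, hu⟩ : ∃ u, u = (g : M3) *ᵥ x₀ + x₀ := ⟨_, rfl⟩
  rw [← hu] at hx₀
  have horth : ∀ x y, f ((g : M3) *ᵥ x + x) ((g : M3) *ᵥ y + y) = 0 := fun x y => by
    rw [hf.add_left, herm_add_right hf, herm_add_right hf, hiso, hsym]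
    linear_combination (f x y + f x ((g : M3) *ᵥ y)) * (CharTwo.two_eq_zero : (2 : F) = 0)
  have huu : f u u = 0 := hu ▸ horth _ _
  have hN : ∀ x, ∃ a : F, (g : M3) *ᵥ x + x = a • u := fun x => by
    obtain ⟨a, ha⟩ := Submodule.mem_span_singleton.1 (eq_smul_of_orth hf (by simp) hx₀ huu (horth x x) (hu ▸ horth _ _))
    exact ⟨a, ha.symm⟩
  choose φ hφ using hN
  obtain ⟨y, hy⟩ := (hf.nondegenerate u hx₀).2
  obtain ⟨p, -, -, hup, hpu⟩ := exists_partner hf (X := ⊤) Submodule.mem_top huu (y := y) Submodule.mem_top hy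
  have hφx : ∀ x, φ x = σ (φ p) * f x u := fun x => by
    have e : f ((g : M3) *ᵥ x + x) p = f x ((g : M3) *ᵥ p + p) := by rw [hf.add_left, herm_add_right hf, hsym]
    rw [hφ, hφ, hf.smul_left, herm_smul_right hf, hup, mul_one] at e
    exact e
  have hc : σ (σ (φ p)) = σ (φ p) := by
    have := hφx p
    rw [hpu, mul_one] at this
    rw [hf.involutive]
    exact this
  have hact : ∀ x, (g : M3) *ᵥ x = x + (σ (φ p) * f x u) • u := fun x => by
    rw [← hφx, ← hφ, add_comm ((g : M3) *ᵥ x), ← add_assoc]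
    rw [show x + x = 0 from funext fun i => CharTwo.add_self_eq_zero _, zero_add]
  refine ⟨u, σ (φ p), hx₀, fun h0 => ?_, huu, ⟨hc, g, hg, hact⟩, hact⟩
  refine h1 (gl_ext_vec fun x => ?_)
  rw [hact, h0, zero_mul, zero_smul, add_zero, Units.val_one, one_mulVec]

/-- commuting transvections have the same centre -/
theorem orth_of_comm {g h : G3} {u v : V3} {c d : F} (hu : u ≠ 0) (huu : f u u = 0) (hc : c ≠ 0) (hd : d ≠ 0)
    (hg : ∀ x, (g : M3) *ᵥ x = x + (c * f x u) • u) (hh : ∀ x, (h : M3) *ᵥ x = x + (d * f x v) • v)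
    (hcomm : g * h = h * g) : f u v = 0 := by
  by_contra huv
  obtain ⟨x, hx⟩ := (hf.nondegenerate u hu).1
  have e : (g : M3) *ᵥ ((h : M3) *ᵥ x) = (h : M3) *ᵥ ((g : M3) *ᵥ x) := by
    rw [← gl_mul_mulVec, hcomm, gl_mul_mulVec]
  rw [hg, hh, hh, hg] at e
  have e' := congrArg (fun w => f w u) e
  simp only [hf.add_left, hf.smul_left, huu, mul_zero, add_zero] at e'
  have hvu : f v u ≠ 0 := fun h0 => huv (herm_swap_zero hf h0)
  have : d * (c * f x u * f u v) * f v u = 0 := by linear_combination -e'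
  simp [hd, hc, hx, huv, hvu] at this

theorem TvAt.conj (hM : M ≤ isoU f) {u : V3} {c : F} (h : TvAt σ f M u c) {g : G3} (hg : g ∈ M) :
    TvAt σ f M ((g : M3) *ᵥ u) c := by
  obtain ⟨hc, z, hz, hzx⟩ := h
  refine ⟨hc, g * z * g⁻¹, M.mul_mem (M.mul_mem hg hz) (M.inv_mem hg), fun x => ?_⟩
  rw [gl_mul_mulVec, gl_mul_mulVec, hzx, mulVec_add, mulVec_smul, gl_mulVec_inv,
    ← mem_isoU.1 (hM hg) _ u, gl_mulVec_inv]

theorem TvAt.smul {u : V3} {c a : F} (h : TvAt σ f M (a • u) c) : TvAt σ f M u (c * (a * σ a)) := by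
  obtain ⟨hc, z, hz, hzx⟩ := h
  refine ⟨by rw [map_mul, map_mul, hc, hf.involutive]; ring, z, hz, fun x => ?_⟩
  rw [hzx, herm_smul_right hf, smul_smul]
  congr 2
  ring

/-- equal transvections -/
theorem tv_eq {g : G3} {u v : V3} {c d : F} (hv : v ≠ 0) (hvv : f v v = 0) (hd : d ≠ 0)
    (hg : ∀ x, (g : M3) *ᵥ x = x + (c * f x u) • u) (hg' : ∀ x, (g : M3) *ᵥ x = x + (d * f x v) • v) :
    ∃ b : F, v = b • u ∧ (u ≠ 0 → c = d * (b * σ b)) := by
  obtain ⟨y, hy⟩ := (hf.nondegenerate v hv).2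
  obtain ⟨p, -, -, -, hpv⟩ := exists_partner hf (X := ⊤) Submodule.mem_top hvv (y := y) Submodule.mem_top hy
  have e := (hg p).symm.trans (hg' p)
  rw [hpv, mul_one, add_right_inj] at e
  obtain ⟨b, hb⟩ : ∃ b, b = c * f p u / d := ⟨_, rfl⟩
  have hvb : v = b • u := by
    rw [hb, div_eq_inv_mul, mul_smul, e, smul_smul, inv_mul_cancel₀ hd, one_smul]
  refine ⟨b, hvb, fun hu => ?_⟩
  obtain ⟨x, hx⟩ := (hf.nondegenerate u hu).1
  have e2 := (hg x).symm.trans (hg' x)
  rw [add_right_inj, hvb, herm_smul_right hf, smul_smul] at e2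
  have := smul_left_injective F hu e2
  exact mul_right_cancel₀ hx (this.trans (by ring))

/-- two transvections at one point of a moving group are conjugate by an element fixing the point -/
theorem fusion (hM : M ≤ isoU f) {u : V3} (hu : u ≠ 0) (huu : f u u = 0) {h : G3} (hh : h ∈ M)
    (hmove : f u ((h : M3) *ᵥ u) ≠ 0) {c₁ c₂ : F} (h1 : TvAt σ f M u c₁) (h2 : TvAt σ f M u c₂)
    (hc1 : c₁ ≠ 0) (hc2 : c₂ ≠ 0) :
    ∃ g ∈ M, ∃ a : F, a ≠ 0 ∧ (g : M3) *ᵥ u = a • u ∧ c₂ = c₁ * (a * σ a) := by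
  obtain ⟨-, z, hz, hzx⟩ := h1
  obtain ⟨-, w, hw, hwx⟩ := h2.conj hf hM hh
  obtain ⟨v, hv⟩ : ∃ v, v = (h : M3) *ᵥ u := ⟨_, rfl⟩
  rw [← hv] at hwx hmove
  have hv0 : v ≠ 0 := fun h0 => hu (gl_mulVec_eq_zero.1 (hv ▸ h0))
  have hvv : f v v = 0 := by rw [hv, mem_isoU.1 (hM hh), huu]
  have hzz : z * z = 1 := gl_ext_vec fun x => by
    rw [gl_mul_mulVec, hzx, hzx, Units.val_one, one_mulVec, hf.add_left, hf.smul_left, huu, mul_zero, add_zero,
      add_assoc, ← add_smul, CharTwo.add_self_eq_zero, zero_smul, add_zero]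
  have hww : w * w = 1 := gl_ext_vec fun x => by
    rw [gl_mul_mulVec, hwx, hwx, Units.val_one, one_mulVec, hf.add_left, hf.smul_left, hvv, mul_zero, add_zero,
      add_assoc, ← add_smul, CharTwo.add_self_eq_zero, zero_smul, add_zero]
  obtain ⟨p, hp⟩ : ∃ p, p = z * w := ⟨_, rfl⟩
  have hz' : z⁻¹ = z := inv_eq_of_mul_eq_one_right hzz
  have hw' : w⁻¹ = w := inv_eq_of_mul_eq_one_right hww
  have hinv : p⁻¹ = w * z := by rw [hp, _root_.mul_inv_rev, hz', hw']
  have hpz : ∀ n : ℕ, z * p ^ n * z⁻¹ = (p ^ n)⁻¹ := fun n => by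
    rw [← conj_pow, ← inv_pow, hinv, hp, hz', ← mul_assoc z z w, hzz, one_mul]
  have hpw : ∀ n : ℕ, w * p ^ n * w⁻¹ = (p ^ n)⁻¹ := fun n => by
    rw [← conj_pow, ← inv_pow, hinv, hp, hw', mul_assoc w, mul_assoc z, hww, mul_one]
  have hpM : p ∈ M := hp ▸ M.mul_mem hz hw
  obtain ⟨k, hk | hk⟩ := Nat.even_or_odd' (orderOf p)
  · exfalso
    have hk0 : 0 < k := by
      have := orderOf_pos p
      omega
    have hne : p ^ k ≠ 1 := fun e => by
      have := orderOf_le_of_pow_eq_one hk0 e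
      omega
    have hsq : p ^ k * p ^ k = 1 := by rw [← pow_add, ← two_mul, ← hk, pow_orderOf_eq_one]
    have hinvk : (p ^ k)⁻¹ = p ^ k := inv_eq_of_mul_eq_one_right hsq
    obtain ⟨e, d, he, hd, hee, -, hex⟩ := involution_tv hf hM (pow_mem hpM k) hsq hne
    have c1 : z * p ^ k = p ^ k * z := by
      have := hpz k
      rw [hinvk, mul_inv_eq_iff_eq_mul] at this
      exact this
    have c2 : w * p ^ k = p ^ k * w := by
      have := hpw k
      rw [hinvk, mul_inv_eq_iff_eq_mul] at this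
      exact this
    obtain ⟨a, ha⟩ := Submodule.mem_span_singleton.1
      (eq_smul_of_orth hf (by simp) hu huu hee (orth_of_comm hf hu huu hc1 hd hzx hex c1))
    have hev : f v e = 0 := orth_of_comm hf hv0 hvv hc2 hd hwx hex c2
    rw [← ha, herm_smul_right hf] at hev
    rcases mul_eq_zero.1 hev with h0 | h0
    · exact he (by rw [← ha, show a = 0 by simpa using h0, zero_smul])
    · exact hmove (herm_swap_zero hf h0)
  · have hkey : p ^ k * z * (p ^ k)⁻¹ = w := by
      have e1 : z * p ^ k = (p ^ k)⁻¹ * z := by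
        have := hpz k
        rw [mul_inv_eq_iff_eq_mul] at this
        exact this
      have e2 : z * (p ^ k)⁻¹ = p ^ k * z := by
        rw [eq_mul_inv_of_mul_eq (show p ^ k * z * p ^ k = z by rw [mul_assoc, e1, mul_inv_cancel_left])]
      rw [← e2, mul_assoc, ← _root_.mul_inv_rev, ← pow_add]
      have : p ^ (k + k) * p = 1 := by rw [← pow_succ, ← two_mul, ← hk, pow_orderOf_eq_one]
      rw [inv_eq_of_mul_eq_one_right this, hp, ← mul_assoc, hzz, one_mul]
    obtain ⟨g₀, hg₀⟩ : ∃ g₀, g₀ = p ^ k := ⟨_, rfl⟩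
    have hgM : g₀ ∈ M := hg₀ ▸ pow_mem hpM k
    rw [← hg₀] at hkey
    have hgx : ∀ x, (w : M3) *ᵥ x = x + (c₁ * f x ((g₀ : M3) *ᵥ u)) • ((g₀ : M3) *ᵥ u) := fun x => by
      rw [← hkey, gl_mul_mulVec, gl_mul_mulVec, hzx, mulVec_add, mulVec_smul, gl_mulVec_inv,
        ← mem_isoU.1 (hM hgM) _ u, gl_mulVec_inv]
    have hgu : (g₀ : M3) *ᵥ u ≠ 0 := fun h0 => hu (gl_mulVec_eq_zero.1 h0)
    obtain ⟨b, hb, hbc⟩ := tv_eq hf hv0 hvv hc2 hgx hwx
    have hb0 : b ≠ 0 := fun h0 => hv0 (by rw [hb, h0, zero_smul])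
    refine ⟨h⁻¹ * g₀, M.mul_mem (M.inv_mem hh) hgM, b⁻¹, inv_ne_zero hb0, ?_, ?_⟩
    · have : (g₀ : M3) *ᵥ u = b⁻¹ • v := by rw [hb, smul_smul, inv_mul_cancel₀ hb0, one_smul]
      rw [gl_mul_mulVec, this, mulVec_smul, hv, gl_inv_mulVec]
    · have hσb : σ b ≠ 0 := by simpa using hb0
      rw [hbc hgu, map_inv₀]
      field_simp

/-- a two-group is bounded by the transvections at its fixed point -/
theorem two_group_bound (hM : M ≤ isoU f) {S : Subgroup G3} (hS : IsPGroup 2 S) (hSM : S ≤ M) (hne : S ≠ ⊥) :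
    ∃ (u : V3) (c₀ : F) (W : AddSubgroup F) (ε : F), u ≠ 0 ∧ c₀ ≠ 0 ∧ f u u = 0 ∧ ε ≠ 0 ∧
      TvAt σ f M u c₀ ∧ Nat.card S ≤ Nat.card {c : F // TvAt σ f M u c} * Nat.card W ∧
      ∀ m ∈ W, TvAt σ f M u (m * σ m / ε) := by
  classical
  haveI : Fact (Nat.Prime 2) := ⟨Nat.prime_two⟩
  haveI : Nontrivial S := (Subgroup.nontrivial_iff_ne_bot S).2 hne
  haveI := hS.center_nontrivial
  have hC : IsPGroup 2 (Subgroup.center S) := hS.to_subgroup _
  obtain ⟨ζ, hζ⟩ := exists_ne (1 : Subgroup.center S)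
  obtain ⟨k, hk⟩ : ∃ k, orderOf ζ = 2 ^ k := IsPGroup.iff_orderOf.1 hC ζ
  have hk0 : k ≠ 0 := fun h0 => hζ (orderOf_eq_one_iff.1 (by rw [hk, h0, pow_zero]))
  obtain ⟨z, hz⟩ : ∃ z : Subgroup.center S, z = ζ ^ 2 ^ (k - 1) := ⟨_, rfl⟩
  have hzord : orderOf z = 2 := by
    rw [hz, orderOf_pow_of_dvd (by positivity) (hk ▸ pow_dvd_pow 2 (Nat.sub_le k 1)), hk,
      Nat.pow_div (Nat.sub_le k 1) (by norm_num), show k - (k - 1) = 1 by omega, pow_one]
  have hz1 : ((z : S) : G3) ≠ 1 := fun e => by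
    have : z = 1 := Subtype.ext (Subtype.ext e)
    rw [this, orderOf_one] at hzord
    omega
  have hz2 : ((z : S) : G3) * ((z : S) : G3) = 1 := by
    have : z * z = 1 := by rw [← pow_two, ← hzord, pow_orderOf_eq_one]
    exact congrArg (fun w : Subgroup.center S => ((w : S) : G3)) this
  obtain ⟨u, c₀, hu, hc₀, huu, htv, hzx⟩ := involution_tv hf hM (hSM (z : S).2) hz2 hz1
  -- the whole group fixes the centre
  have hpow2 : ∀ g : S, ∃ j, g ^ 2 ^ j = 1 := hS
  have hfix : ∀ g : S, ((g : G3) : M3) *ᵥ u = u := fun g => by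
    have hcomm : ((g : G3)) * ((z : S) : G3) = ((z : S) : G3) * (g : G3) :=
      congrArg Subtype.val (Subgroup.mem_center_iff.1 z.2 g)
    have hgx : ∀ x, (((z : S) : G3) : M3) *ᵥ x =
        x + (c₀ * f x (((g : G3) : M3) *ᵥ u)) • (((g : G3) : M3) *ᵥ u) := fun x => by
      have e : ((z : S) : G3) = (g : G3) * ((z : S) : G3) * (g : G3)⁻¹ := by rw [hcomm, mul_inv_cancel_right]
      rw [e, gl_mul_mulVec, gl_mul_mulVec, hzx, mulVec_add, mulVec_smul, gl_mulVec_inv,
        ← mem_isoU.1 (hM (hSM g.2)) _ u, gl_mulVec_inv]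
    obtain ⟨b, hb, -⟩ := tv_eq hf hu huu hc₀ hgx hzx
    have hb0 : b ≠ 0 := fun h0 => hu (by rw [hb, h0, zero_smul])
    have hgu : ((g : G3) : M3) *ᵥ u = b⁻¹ • u := by
      conv_rhs => rw [hb, smul_smul, inv_mul_cancel₀ hb0, one_smul]
    have hpw : ∀ n : ℕ, (((g ^ n : S) : G3) : M3) *ᵥ u = b⁻¹ ^ n • u := by
      intro n
      induction n with
      | zero => simp
      | succ n ih =>
        rw [pow_succ', Subgroup.coe_mul, gl_mul_mulVec, ih, mulVec_smul, hgu, smul_smul, ← pow_succ]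
    obtain ⟨j, hj⟩ := hpow2 g
    have h1 := hpw (2 ^ j)
    rw [hj, Subgroup.coe_one, Units.val_one, one_mulVec] at h1
    have h2 : b⁻¹ ^ 2 ^ j = 1 := smul_left_injective F hu (show b⁻¹ ^ 2 ^ j • u = (1 : F) • u by rw [one_smul, ← h1])
    rw [hgu, one_of_pow_two h2, one_smul]
  -- coordinates
  obtain ⟨y, hy⟩ := (hf.nondegenerate u hu).2
  obtain ⟨v, -, hvv, huv, hvu⟩ := exists_partner hf (X := ⊤) Submodule.mem_top huu (y := y) Submodule.mem_top hy
  obtain ⟨e, heu, hev, hee, hco⟩ : ∃ e, f e u = 0 ∧ f e v = 0 ∧ f e e ≠ 0 ∧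
      ∀ x, x = f x v • u + f x u • v + (f x e / f e e) • e := by
    obtain ⟨W, hW⟩ : ∃ W, W = Submodule.span F ({u, v} : Set V3) := ⟨_, rfl⟩
    obtain ⟨w, hwn⟩ : ∃ w, w ∉ W := by
      by_contra hcon
      push Not at hcon
      have h2 : Module.finrank F W ≤ 2 := by
        rw [hW]
        refine (finrank_span_le_card _).trans ?_
        rw [Set.toFinset_insert, Set.toFinset_singleton]
        exact Finset.card_le_two
      rw [show W = ⊤ from eq_top_iff.2 fun x _ => hcon x, finrank_top, Module.finrank_fin_fun] at h2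
      omega
    obtain ⟨e, he⟩ : ∃ e, e = w - f w v • u - f w u • v := ⟨_, rfl⟩
    have heu : f e u = 0 := by simp [he, herm_sub_left hf, hf.smul_left, huu, hvu]
    have hev : f e v = 0 := by simp [he, herm_sub_left hf, hf.smul_left, hvv, huv]
    have he0 : e ≠ 0 := fun h0 => hwn (by
      rw [sub_sub, h0] at he
      rw [sub_eq_zero.1 he.symm, hW]
      exact Submodule.add_mem _ (Submodule.smul_mem _ _ (Submodule.subset_span (by simp)))
        (Submodule.smul_mem _ _ (Submodule.subset_span (by simp))))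
    have hee : f e e ≠ 0 := fun h0 => by
      obtain ⟨a, ha⟩ := Submodule.mem_span_singleton.1
        (eq_smul_of_orth hf (by simp) hu huu h0 (herm_swap_zero hf heu))
      rw [← ha, hf.smul_left, huv, mul_one] at hev
      exact he0 (by rw [← ha, hev, zero_smul])
    refine ⟨e, heu, hev, hee, fun x => ?_⟩
    obtain ⟨r, hr⟩ : ∃ r, r = x - (f x v • u + f x u • v + (f x e / f e e) • e) := ⟨_, rfl⟩
    have hru : f r u = 0 := by simp [hr, herm_sub_left hf, hf.add_left, hf.smul_left, huu, hvu, heu]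
    have hrv : f r v = 0 := by simp [hr, herm_sub_left hf, hf.add_left, hf.smul_left, hvv, huv, hev]
    have hre : f r e = 0 := by
      simp [hr, herm_sub_left hf, hf.add_left, hf.smul_left, herm_swap_zero hf heu, herm_swap_zero hf hev,
        div_mul_cancel₀ _ hee]
    by_contra hne
    refine hee (by_contra fun _ => ?_)
    have hr0 : r ≠ 0 := fun h0 => hne (sub_eq_zero.1 (hr ▸ h0))
    by_cases hrr : f r r = 0
    · obtain ⟨a, ha⟩ := Submodule.mem_span_singleton.1
        (eq_smul_of_orth hf (by simp) hu huu hrr (herm_swap_zero hf hru))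
      rw [← ha, hf.smul_left, huv, mul_one] at hrv
      exact hr0 (by rw [← ha, hrv, zero_smul])
    · have hli : LinearIndependent F ![u, v, e, r] := by
        rw [Fintype.linearIndependent_iff]
        intro g hg i
        simp only [Fin.sum_univ_four, Matrix.cons_val_zero, Matrix.cons_val_one, Matrix.cons_val] at hg
        have k1 := congrArg (fun w => f w v) hg
        have k2 := congrArg (fun w => f w u) hg
        have k3 := congrArg (fun w => f w e) hg
        have k4 := congrArg (fun w => f w r) hg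
        simp only [hf.add_left, hf.smul_left, herm_zero_left hf, huu, hvv, huv, hvu, hev, heu, hru, hrv, hre,
          herm_swap_zero hf heu, herm_swap_zero hf hev, herm_swap_zero hf hru, herm_swap_zero hf hrv,
          herm_swap_zero hf hre, mul_zero, mul_one, add_zero, zero_add, mul_eq_zero, hee, hrr, or_false] at k1 k2 k3 k4
        fin_cases i <;> assumption
      have := hli.fintype_card_le_finrank
      simp at this
  obtain ⟨ε, hε⟩ : ∃ ε, ε = f e e := ⟨_, rfl⟩
  rw [← hε] at hee hco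
  -- the action on the coordinates
  have hact : ∀ g : S, ((g : G3) : M3) *ᵥ e = e + f (((g : G3) : M3) *ᵥ e) v • u := fun g => by
    obtain ⟨β, hβ⟩ : ∃ β : S → F, β = fun g : S => f (((g : G3) : M3) *ᵥ e) e / ε := ⟨_, rfl⟩
    have hge : ∀ g : S, ((g : G3) : M3) *ᵥ e = f (((g : G3) : M3) *ᵥ e) v • u + β g • e := fun g => by
      conv_lhs => rw [hco (((g : G3) : M3) *ᵥ e)]
      rw [show f (((g : G3) : M3) *ᵥ e) u = 0 by rw [← heu]; conv_lhs => rw [← hfix g]; exact mem_isoU.1 (hM (hSM g.2)) _ _,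
        zero_smul, add_zero, hβ]
    have hmul : ∀ a b : S, β (a * b) = β a * β b := fun a b => by
      have h := congrArg (fun w => f w e) (show (((a * b : S) : G3) : M3) *ᵥ e = _ from by
        rw [Subgroup.coe_mul, gl_mul_mulVec, hge b, mulVec_add, mulVec_smul, mulVec_smul, hfix, hge a])
      simp only [hf.add_left, hf.smul_left, herm_swap_zero hf heu, mul_zero, zero_add, ← hε] at h
      have e1 : β (a * b) = β b * (β a * ε) / ε := by rw [← h, hβ]
      rw [e1]
      field_simp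
    have hone : β 1 = 1 := by simp [hβ, ← hε, hee]
    obtain ⟨j, hj⟩ := hpow2 g
    have hpw : ∀ n : ℕ, β (g ^ n) = β g ^ n := fun n => by
      induction n with
      | zero => simpa using hone
      | succ n ih => rw [pow_succ, pow_succ, hmul, ih]
    have h2 := hpw (2 ^ j)
    rw [hj, hone] at h2
    conv_lhs => rw [hge g, one_of_pow_two h2.symm, one_smul, add_comm]
  let μ : S →* Multiplicative F :=
    { toFun := fun g => Multiplicative.ofAdd (f (((g : G3) : M3) *ᵥ e) v)
      map_one' := by simp [hev]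
      map_mul' := fun a b => by
        rw [← ofAdd_add, Subgroup.coe_mul, gl_mul_mulVec, hact b, mulVec_add, mulVec_smul, hfix, hact a]
        congr 1
        simp only [hf.add_left, hf.smul_left, huv, hev, mul_one]
        ring }
  have hδ : ∀ g : S, ((g : G3) : M3) *ᵥ v = f (((g : G3) : M3) *ᵥ v) v • u + v +
      (σ (f (((g : G3) : M3) *ᵥ e) v) / ε) • e := fun g => by
    have h1 : f (((g : G3) : M3) *ᵥ v) u = 1 := by
      rw [← hvu]
      conv_lhs => rw [← hfix g]
      exact mem_isoU.1 (hM (hSM g.2)) _ _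
    have h2 : f (((g : G3) : M3) *ᵥ v) e = σ (f (((g : G3) : M3) *ᵥ e) v) := by
      have h3 := mem_isoU.1 (hM (hSM g.2)) v e
      rw [show f v e = 0 from herm_swap_zero hf hev] at h3
      conv at h3 => lhs; arg 2; rw [hact g]
      rw [herm_add_right hf, herm_smul_right hf, h1, mul_one, CharTwo.add_eq_zero] at h3
      exact h3
    conv_lhs => rw [hco (((g : G3) : M3) *ᵥ v)]
    rw [h1, h2, one_smul]
  let W : AddSubgroup F :=
    { carrier := {m | ∃ g : S, μ g = Multiplicative.ofAdd m}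
      zero_mem' := ⟨1, map_one μ⟩
      add_mem' := fun {a b} ⟨g, hg⟩ ⟨g', hg'⟩ => ⟨g * g', by rw [map_mul, hg, hg', ← ofAdd_add]⟩
      neg_mem' := fun {a} ⟨g, hg⟩ => ⟨g⁻¹, by rw [map_inv, hg, ← ofAdd_neg]⟩ }
  refine ⟨u, c₀, W, ε, hu, hc₀, huu, hee, htv, ?_, ?_⟩
  · have hker : Nat.card μ.ker ≤ Nat.card {c : F // TvAt σ f M u c} := by
      have hform : ∀ g : μ.ker, ∀ x, (((g : S) : G3) : M3) *ᵥ x =
          x + (f ((((g : S) : G3) : M3) *ᵥ v) v * f x u) • u := fun g x => by
        have hμ : f ((((g : S) : G3) : M3) *ᵥ e) v = 0 := Multiplicative.ofAdd.injective (g.2.trans ofAdd_zero.symm)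
        obtain ⟨a, b, c, hb, hx⟩ : ∃ a b c : F, b = f x u ∧ x = a • u + b • v + c • e :=
          ⟨_, _, _, rfl, hco x⟩
        have k1 := hact g
        have k2 := hδ g
        rw [hμ] at k1 k2
        obtain ⟨δ, hδ'⟩ : ∃ δ, δ = f ((((g : S) : G3) : M3) *ᵥ v) v := ⟨_, rfl⟩
        rw [← hδ'] at k2
        rw [← hδ', ← hb, hx, mulVec_add, mulVec_add, mulVec_smul, mulVec_smul, mulVec_smul, hfix, k1, k2, map_zero,
          zero_div, zero_smul, zero_smul, add_zero, add_zero]
        module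
      have hσ : ∀ g : μ.ker, σ (f ((((g : S) : G3) : M3) *ᵥ v) v) = f ((((g : S) : G3) : M3) *ᵥ v) v := fun g => by
        have h3 := mem_isoU.1 (hM (hSM (g : S).2)) v v
        rw [hform g v, hf.add_left, herm_add_right hf, herm_add_right hf, hf.smul_left, hf.smul_left,
          herm_smul_right hf, herm_smul_right hf, hvv, huu, huv, hvu] at h3
        rw [← CharTwo.add_eq_zero]
        simp only [mul_one, mul_zero, add_zero, zero_add] at h3
        linear_combination h3
      refine Nat.card_le_card_of_injective (fun g => ⟨f ((((g : S) : G3) : M3) *ᵥ v) v, hσ g, _, hSM (g : S).2,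
        hform g⟩) fun a b hab => Subtype.ext (Subtype.ext (gl_ext_vec fun x => ?_))
      rw [hform a, hform b, show f ((((a : S) : G3) : M3) *ᵥ v) v = f ((((b : S) : G3) : M3) *ᵥ v) v from
        congrArg Subtype.val hab]
    have hW : Nat.card μ.range = Nat.card W := Nat.card_congr
      ⟨fun x => ⟨x.1.toAdd, x.2⟩, fun x => ⟨Multiplicative.ofAdd x.1, x.2⟩, fun x => rfl, fun x => rfl⟩
    rw [← Subgroup.card_mul_index μ.ker, Subgroup.index_ker, hW]
    exact Nat.mul_le_mul_right _ hker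
  · rintro m ⟨g, hg⟩
    have hμ : f (((g : G3) : M3) *ᵥ e) v = m := Multiplicative.ofAdd.injective hg
    refine ⟨?_, _, M.mul_mem (hSM g.2) (hSM g.2), fun x => ?_⟩
    · rw [map_div₀, map_mul, hf.involutive, show σ ε = ε by rw [hε]; exact (hf.herm e e).symm]
      ring
    · rw [gl_mul_mulVec]
      obtain ⟨a, b, c, hb, hx⟩ : ∃ a b c : F, b = f x u ∧ x = a • u + b • v + c • e :=
        ⟨_, _, _, rfl, hco x⟩
      rw [← hb, hx]
      have k1 := hact g
      have k2 := hδ g
      rw [hμ] at k1 k2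
      obtain ⟨δ, hδ'⟩ : ∃ δ, δ = f (((g : G3) : M3) *ᵥ v) v := ⟨_, rfl⟩
      rw [← hδ'] at k2
      simp only [mulVec_add, mulVec_smul, hfix, k1, k2, smul_add, smul_smul]
      match_scalars
      · linear_combination (δ * b + c * m) * (CharTwo.two_eq_zero : (2 : F) = 0)
      · ring
      · linear_combination (σ m / ε * b) * (CharTwo.two_eq_zero : (2 : F) = 0)

/-- over the fields with sixteen and sixty-four elements an irreducible group of order divisible by twice the
square root of the field order contains every transvection -/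
theorem full_of_two_power {q : ℕ} (hF : Fintype.card F = q ^ 2) (hσ : ∀ x, σ x = x ^ q) (hq : q = 4 ∨ q = 8)
    (hM : M ≤ isoU f)
    (hirr : ∀ W : Submodule F V3, (∀ g ∈ M, ∀ w ∈ W, (g : M3) *ᵥ w ∈ W) → W = ⊥ ∨ W = ⊤)
    (hdiv : 2 * q ∣ Nat.card M) : isoU f ⊓ specialLinear (Fin 3) F ≤ M := by
  classical
  haveI : Fact (Nat.Prime 2) := ⟨Nat.prime_two⟩
  obtain ⟨k, hk⟩ : ∃ k, 2 * q = 2 ^ k := by
    rcases hq with rfl | rfl
    · exact ⟨3, rfl⟩
    · exact ⟨4, rfl⟩
  obtain ⟨S', hS'⟩ := Sylow.exists_subgroup_card_pow_prime 2 (G := M) (n := k) (hk ▸ hdiv)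
  obtain ⟨S, hSdef⟩ : ∃ S, S = S'.map M.subtype := ⟨_, rfl⟩
  have hScard : Nat.card S = 2 * q := by
    rw [hSdef, Subgroup.card_map_of_injective (Subgroup.subtype_injective M), hS', hk]
  have hS : IsPGroup 2 S := IsPGroup.of_card (hScard.trans hk)
  have hSM : S ≤ M := hSdef ▸ Subgroup.map_subtype_le _
  obtain ⟨u, c₀, W, ε, hu, hc₀, huu, hε, htv, hle, hsq⟩ := two_group_bound hf hM hS hSM (fun e => by
    rw [e, Subgroup.card_bot] at hScard
    omega)
  have hN : ∀ a : F, a ≠ 0 → a * σ a ≠ 0 := fun a ha => mul_ne_zero ha (by simpa using ha)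
  by_cases hex : ∀ c, TvAt σ f M u c → c = 0 ∨ c = c₀
  · -- the transvections at the point form a group of order two
    exfalso
    have hA : Nat.card {c : F // TvAt σ f M u c} ≤ 2 := by
      refine (Nat.card_le_card_of_injective (fun c : {c : F // TvAt σ f M u c} => decide (c.1 = 0))
        fun a b hab => Subtype.ext ?_).trans (by simp)
      simp only [decide_eq_decide] at hab
      rcases hex _ a.2 with ha | ha <;> rcases hex _ b.2 with hb | hb
      · rw [ha, hb]
      · exact (absurd (hab.1 ha) (hb ▸ hc₀))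
      · exact (absurd (hab.2 hb) (ha ▸ hc₀))
      · rw [ha, hb]
    have hWq : q ≤ Nat.card W := by
      have h := hScard ▸ hle.trans (Nat.mul_le_mul_right _ hA)
      omega
    have hnorm : ∀ m ∈ W, m ≠ 0 → m * σ m = c₀ * ε := fun m hm hm0 => by
      rcases hex _ (hsq m hm) with h | h
      · exact absurd h (div_ne_zero (hN m hm0) hε)
      · rw [← h, div_mul_cancel₀ _ hε]
    obtain ⟨m₀, hm₀, hm00⟩ : ∃ m ∈ W, m ≠ 0 := by
      by_contra hcon
      push Not at hcon
      have := Nat.card_le_card_of_injective (β := Unit) (fun _ : W => ()) fun a b _ => Subtype.ext ((hcon _ a.2).trans (hcon _ b.2).symm)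
      rw [Nat.card_eq_one_iff_unique.2 ⟨inferInstance, ⟨()⟩⟩] at this
      omega
    have hr : ∀ m ∈ W, m ≠ 0 → m ≠ m₀ → (m / m₀) ^ 2 + m / m₀ + 1 = 0 ∧
        σ (m / m₀) = m / m₀ + 1 := fun m hm hm0 hne => by
      obtain ⟨r, hrdef⟩ : ∃ r, r = m / m₀ := ⟨_, rfl⟩
      have hrm : m = r * m₀ := by rw [hrdef, div_mul_cancel₀ _ hm00]
      have h0 := hnorm m₀ hm₀ hm00
      have h1 := hnorm m hm hm0
      have h2 := hnorm (m + m₀) (W.add_mem hm hm₀) (fun e => hne (CharTwo.add_eq_zero.1 e))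
      rw [hrm, map_mul, ← h0] at h1
      rw [hrm, map_add, map_mul, ← h0] at h2
      have e1 : r * σ r = 1 := mul_right_cancel₀ (hN m₀ hm00) (by linear_combination h1)
      have e2 : (r + 1) * (σ r + 1) = 1 := mul_right_cancel₀ (hN m₀ hm00) (by linear_combination h2)
      have e3 : σ r = r + 1 := by
        rw [← CharTwo.add_eq_zero]
        linear_combination e2 - e1 + (CharTwo.two_eq_zero : (2 : F) = 0) * 0
      rw [← hrdef]
      refine ⟨?_, e3⟩
      rw [e3] at e1
      linear_combination e1 + (CharTwo.two_eq_zero : (2 : F) = 0)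
    by_cases hall : ∀ m ∈ W, m = 0 ∨ m = m₀
    · have h2 : Nat.card W ≤ 2 := by
        refine (Nat.card_le_card_of_injective (fun m : W => decide (m.1 = 0)) fun a b hab => Subtype.ext ?_).trans
          (by simp)
        simp only [decide_eq_decide] at hab
        rcases hall _ a.2 with ha | ha <;> rcases hall _ b.2 with hb | hb
        · rw [ha, hb]
        · exact (absurd (hab.1 ha) (hb ▸ hm00))
        · exact (absurd (hab.2 hb) (ha ▸ hm00))
        · rw [ha, hb]
      omega
    push Not at hall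
    obtain ⟨m, hm, hm0, hne⟩ := hall
    obtain ⟨hr2, hrσ⟩ := hr m hm hm0 hne
    rcases hq with rfl | rfl
    · -- sixteen elements
      have h3 : (m / m₀) ^ 3 = 1 := by linear_combination (m / m₀ - 1) * hr2
      rw [hσ, pow_succ, h3, one_mul] at hrσ
      exact one_ne_zero (α := F) (add_eq_left.1 hrσ.symm)
    · -- at most four values
      have hsub : ∀ x ∈ W, x ∈ ({0, m₀, m, m + m₀} : Finset F) := fun x hx => by
        simp only [Finset.mem_insert, Finset.mem_singleton]
        by_cases hx0 : x = 0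
        · exact Or.inl hx0
        by_cases hx1 : x = m₀
        · exact Or.inr (Or.inl hx1)
        obtain ⟨hs, -⟩ := hr x hx hx0 hx1
        have : (x / m₀ + m / m₀) * (x / m₀ + m / m₀ + 1) = 0 := by
          linear_combination hs + hr2 + (x / m₀ * (m / m₀) - 1) * (CharTwo.two_eq_zero : (2 : F) = 0)
        rcases mul_eq_zero.1 this with h | h
        · exact Or.inr (Or.inr (Or.inl (by
            have := CharTwo.add_eq_zero.1 h
            field_simp at this
            exact this)))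
        · refine Or.inr (Or.inr (Or.inr ?_))
          rw [add_assoc, CharTwo.add_eq_zero] at h
          field_simp at h
          exact h
      have h4 : Nat.card W ≤ 4 := (Nat.card_le_card_of_injective (fun x : W => (⟨x.1, hsub _ x.2⟩ : ({0, m₀, m, m + m₀} : Finset F)))
        fun a b hab => Subtype.ext (congrArg Subtype.val hab :)).trans (by
          rw [Nat.card_eq_fintype_card, Fintype.card_coe]
          exact Finset.card_le_four)
      omega
  -- otherwise the point stabiliser fuses them, so the whole root group is present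
  push Not at hex
  obtain ⟨c₁, hc₁, hc₁0, hne⟩ := hex
  obtain ⟨h, hh, hmove⟩ : ∃ h ∈ M, f u ((h : M3) *ᵥ u) ≠ 0 := by
    by_contra hcon
    push Not at hcon
    have hinv : ∀ g ∈ M, ∀ w ∈ Submodule.span F ({u} : Set V3), (g : M3) *ᵥ w ∈ Submodule.span F ({u} : Set V3) := by
      intro g hg w hw
      obtain ⟨a, rfl⟩ := Submodule.mem_span_singleton.1 hw
      rw [mulVec_smul]
      exact Submodule.smul_mem _ a
        (eq_smul_of_orth hf (by simp) hu huu (by rw [mem_isoU.1 (hM hg), huu]) (hcon g hg))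
    rcases hirr _ hinv with e | e
    · exact hu (by simpa using e)
    · have := finrank_span_singleton (K := F) hu
      rw [e, finrank_top, Module.finrank_fin_fun] at this
      omega
  obtain ⟨g, hg, a, ha, hgu, hc⟩ := fusion hf hM hu huu hh hmove htv hc₁ hc₀ hc₁0
  obtain ⟨l, hl⟩ : ∃ l, l = a * σ a := ⟨_, rfl⟩
  rw [← hl] at hc
  have hfix : ∀ d : F, σ d = d → d ≠ 0 → d ^ (q - 1) = 1 := fun d hd hd0 => by
    rw [hσ] at hd
    refine mul_right_cancel₀ hd0 ?_
    rw [← pow_succ, Nat.sub_add_cancel (by omega), hd, one_mul]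
  have hl1 : l ^ (q - 1) = 1 := hfix l (by rw [hl, map_mul, hf.involutive, mul_comm]) (hl ▸ hN a ha)
  have hprim : IsPrimitiveRoot l (q - 1) := by
    haveI : Fact (q - 1).Prime := ⟨by rcases hq with rfl | rfl <;> norm_num⟩
    rw [← orderOf_eq_prime hl1 (fun e => hne (by rw [hc, e, mul_one]))]
    exact IsPrimitiveRoot.orderOf l
  haveI : NeZero (q - 1) := ⟨by omega⟩
  have hmul : ∀ c, TvAt σ f M u c → TvAt σ f M u (c * l) := fun c hc' => by
    rw [hl]
    exact (hgu ▸ hc'.conj hf hM hg : TvAt σ f M (a • u) c).smul hf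
  have hpows : ∀ i : ℕ, TvAt σ f M u (c₀ * l ^ i) := fun i => by
    induction i with
    | zero => rwa [pow_zero, mul_one]
    | succ i ih => rw [pow_succ, ← mul_assoc]; exact hmul _ ih
  have hfull : ∀ d : F, σ d = d → TvAt σ f M u d := fun d hd => by
    by_cases hd0 : d = 0
    · exact ⟨hd, 1, M.one_mem, fun x => by rw [hd0, Units.val_one, one_mulVec, zero_mul, zero_smul, add_zero]⟩
    · obtain ⟨i, -, hi⟩ := hprim.eq_pow_of_pow_eq_one
        (hfix (d / c₀) (by rw [map_div₀, hd, htv.1]) (div_ne_zero hd0 hc₀))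
      have := hpows i
      rwa [hi, mul_div_cancel₀ _ hc₀] at this
  refine isoU_inf_SL_le hf (ThreeDim.hasTv_top_of_irreducible hf hM hirr hu huu fun c hc' => ?_)
    (Or.inr (by rw [hF]; rcases hq with rfl | rfl <;> norm_num))
  obtain ⟨-, z, hz, hzx⟩ := hfull c (hc'.trans (CharTwo.neg_eq c))
  have h0 : (c • hv hf u) ⬝ᵥ u = 0 := by rw [smul_dotProduct, hv_dot, huu, smul_zero]
  have e : tv u (c • hv hf u) h0 = z := gl_ext_vec fun x => by
    rw [tv_mulVec, hzx, smul_dotProduct, hv_dot, smul_eq_mul]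
  exact ⟨h0, e ▸ hz⟩

end CfsgLib.Perm.Trans.UnitThree
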