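import Cfsg.Agent.Lib.Perm.Trans.UnitThree.Plane
import Cfsg.Agent.S0801

/-!
# The involution of two transvection groups

Two transvections with nonorthogonal centres generate, in odd characteristic, a group containing the involution
which negates the plane of their centres.
-/

set_option autoImplicit false
set_option linter.all false
set_option quotPrecheck false

namespace CfsgLib.Perm.Trans.UnitThree

open scoped Matrix
open Matrix Cfsg.Geo CfsgLib.Perm.Asch CfsgLib.Perm.Trans CfsgLib.Perm.Trans.Unit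

/-- two involutions are conjugate, or commute with a third one -/
theorem conj_or_commuting {G : Type*} [Group G] [Finite G] {M : Subgroup G} {z w : G} (hz : z ∈ M) (hw : w ∈ M)
    (hzz : z * z = 1) (hww : w * w = 1) :
    (∃ g ∈ M, g * z * g⁻¹ = w) ∨ ∃ x ∈ M, x * x = 1 ∧ x ≠ 1 ∧ z * x = x * z ∧ w * x = x * w := by
  obtain ⟨p, hp⟩ : ∃ p, p = z * w := ⟨_, rfl⟩
  have hz' : z⁻¹ = z := inv_eq_of_mul_eq_one_right hzz
  have hw' : w⁻¹ = w := inv_eq_of_mul_eq_one_right hww
  have hinv : p⁻¹ = w * z := by rw [hp, _root_.mul_inv_rev, hz', hw']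
  have hpz : ∀ n : ℕ, z * p ^ n * z⁻¹ = (p ^ n)⁻¹ := fun n => by
    rw [← conj_pow, ← inv_pow, hinv, hp, hz', ← mul_assoc z z w, hzz, one_mul]
  have hpw : ∀ n : ℕ, w * p ^ n * w⁻¹ = (p ^ n)⁻¹ := fun n => by
    rw [← conj_pow, ← inv_pow, hinv, hp, hw', mul_assoc w, mul_assoc z, hww, mul_one]
  have hpM : p ∈ M := hp ▸ M.mul_mem hz hw
  obtain ⟨k, hk | hk⟩ := Nat.even_or_odd' (orderOf p)
  · right
    have hk0 : 0 < k := by
      have := orderOf_pos p
      omega
    have hne : p ^ k ≠ 1 := fun e => by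
      have := orderOf_le_of_pow_eq_one hk0 e
      omega
    have hsq : p ^ k * p ^ k = 1 := by rw [← pow_add, ← two_mul, ← hk, pow_orderOf_eq_one]
    have hinvk : (p ^ k)⁻¹ = p ^ k := inv_eq_of_mul_eq_one_right hsq
    refine ⟨p ^ k, pow_mem hpM k, hsq, hne, ?_, ?_⟩
    · have := hpz k
      rw [hinvk, mul_inv_eq_iff_eq_mul] at this
      exact this
    · have := hpw k
      rw [hinvk, mul_inv_eq_iff_eq_mul] at this
      exact this
  · left
    refine ⟨p ^ k, pow_mem hpM k, ?_⟩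
    have e1 : z * p ^ k = (p ^ k)⁻¹ * z := by
      have := hpz k
      rw [mul_inv_eq_iff_eq_mul] at this
      exact this
    have e2 : z * (p ^ k)⁻¹ = p ^ k * z := by
      rw [eq_mul_inv_of_mul_eq (show p ^ k * z * p ^ k = z by rw [mul_assoc, e1, mul_inv_cancel_left])]
    rw [← e2, mul_assoc, ← _root_.mul_inv_rev, ← pow_add]
    have : p ^ (k + k) * p = 1 := by rw [← pow_succ, ← two_mul, ← hk, pow_orderOf_eq_one]
    rw [inv_eq_of_mul_eq_one_right this, hp, ← mul_assoc, hzz, one_mul]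

variable {F : Type*} [Field F] [Fintype F] {σ : F ≃+* F} {f : (Fin 3 → F) → (Fin 3 → F) → F}

local notation "M3" => Matrix (Fin 3) (Fin 3) F
local notation "G3" => GL (Fin 3) F
local notation "V3" => Fin 3 → F

omit [Fintype F] in
/-- the group of the first two coordinates -/
theorem exists_block (K₀ : Subfield F) : ∃ φ : Matrix.SpecialLinearGroup (Fin 2) K₀ →* GL (Fin 3) F,
    ∀ m, (φ m : M3) = !![(m 0 0 : F), (m 0 1 : F), 0; (m 1 0 : F), (m 1 1 : F), 0; 0, 0, 1] := by
  let b : Matrix.SpecialLinearGroup (Fin 2) K₀ →* M3 :=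
    { toFun := fun m => !![(m 0 0 : F), (m 0 1 : F), 0; (m 1 0 : F), (m 1 1 : F), 0; 0, 0, 1]
      map_one' := by
        ext r s
        fin_cases r <;> fin_cases s <;> simp
      map_mul' := fun m n => by
        ext r s
        fin_cases r <;> fin_cases s <;> simp [Matrix.mul_apply, Fin.sum_univ_two, Fin.sum_univ_three] }
  exact ⟨b.toHomUnits, fun m => rfl⟩

variable (hf : IsUnitaryForm σ f) {M : Subgroup (GL (Fin 3) F)}
include hf

/-- the involution negating the plane of two centres -/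
theorem exists_neg_plane (h2 : (2 : F) ≠ 0) {u v : V3} (huu : f u u = 0) (hvv : f v v = 0) (huv : f u v ≠ 0)
    {z z' : G3} (hz : z ∈ M) (hz' : z' ∈ M) {c c' : F} (hc : c ≠ 0) (hc' : c' ≠ 0)
    (hzx : ∀ x, (z : M3) *ᵥ x = x + (c * f x u) • u) (hzx' : ∀ x, (z' : M3) *ᵥ x = x + (c' * f x v) • v) :
    ∃ s ∈ M, (s : M3) *ᵥ u = -u ∧ (s : M3) *ᵥ v = -v ∧
      ∀ x, f x u = 0 → f x v = 0 → (s : M3) *ᵥ x = x := by
  classical
  have hvu : f v u ≠ 0 := fun h0 => huv (herm_swap_zero hf h0)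
  have hu0 : u ≠ 0 := fun h0 => huv (by rw [h0, herm_zero_left hf])
  obtain ⟨v', hv'⟩ : ∃ v', v' = (c' * f u v) • v := ⟨_, rfl⟩
  obtain ⟨lam, hlam⟩ : ∃ lam, lam = c * c' * (f u v * f v u) := ⟨_, rfl⟩
  have hlam0 : lam ≠ 0 := by rw [hlam]; simp [hc, hc', huv, hvu]
  -- the pole
  obtain ⟨w, hw0, hwu, hwv⟩ : ∃ w, w ≠ 0 ∧ f w u = 0 ∧ f w v = 0 := by
    let L : V3 →ₗ[F] F × F :=
      { toFun := fun x => (f x u, f x v)
        map_add' := fun a b => by simp [hf.add_left]
        map_smul' := fun a b => by simp [hf.smul_left] }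
    have : LinearMap.ker L ≠ ⊥ := by
      refine LinearMap.ker_ne_bot_of_finrank_lt ?_
      rw [Module.finrank_prod, Module.finrank_self, Module.finrank_fin_fun]
      norm_num
    obtain ⟨w, hw, hw0⟩ := Submodule.exists_mem_ne_zero_of_ne_bot this
    exact ⟨w, hw0, congrArg Prod.fst (LinearMap.mem_ker.1 hw), congrArg Prod.snd (LinearMap.mem_ker.1 hw)⟩
  have hww : f w w ≠ 0 := fun h0 => by
    obtain ⟨a, ha⟩ := Submodule.mem_span_singleton.1
      (eq_smul_of_orth hf (by simp) hu0 huu h0 (herm_swap_zero hf hwu))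
    rw [← ha, hf.smul_left] at hwv
    rcases mul_eq_zero.1 hwv with e | e
    · exact hw0 (by rw [← ha, e, zero_smul])
    · exact huv e
  obtain ⟨Q, hQ⟩ : ∃ Q : G3, ∀ r : Fin 3, (Q : M3) *ᵥ Pi.single r 1 = ![u, v', w] r := by
    have hli : LinearIndependent F ![u, v', w] := by
      rw [Fintype.linearIndependent_iff]
      intro g hg
      rw [Fin.sum_univ_three] at hg
      simp only [Matrix.cons_val_zero, Matrix.cons_val_one, Matrix.cons_val] at hg
      have k1 := congrArg (fun x => f x u) hg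
      have k2 := congrArg (fun x => f x w) hg
      have k3 := congrArg (fun x => f x v) hg
      simp only [hv', hf.add_left, hf.smul_left, huu, hvv, hwu, hwv, herm_swap_zero hf hwu, herm_swap_zero hf hwv,
        herm_zero_left hf, mul_zero, add_zero, zero_add, mul_eq_zero, hc', huv, hvu, hww, or_false, false_or] at k1 k2 k3
      intro i
      fin_cases i
      · exact k3
      · exact k1
      · exact k2
    obtain ⟨Q, hQ⟩ := (Matrix.linearIndependent_cols_iff_isUnit (A := Matrix.of fun i j => ![u, v', w] j i)).1 hli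
    exact ⟨Q, fun r => funext fun i => by rw [mulVec_single_one, hQ]; rfl⟩
  obtain ⟨K₀, hK₀⟩ : ∃ K₀, K₀ = Subfield.closure ({lam} : Set F) := ⟨_, rfl⟩
  have hmem : lam ∈ K₀ := hK₀ ▸ Subfield.subset_closure rfl
  haveI : Finite K₀ := Finite.of_injective _ Subtype.val_injective
  letI : Fintype K₀ := Fintype.ofFinite _
  have h2K : (2 : K₀) ≠ 0 := fun e => h2 (by simpa [map_ofNat] using congrArg K₀.subtype e)
  have hgen : Subfield.closure ({(⟨lam, hmem⟩ : K₀)} : Set K₀) = ⊤ := by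
    refine eq_top_iff.2 fun x _ => ?_
    have hx : (x : F) ∈ (Subfield.closure ({(⟨lam, hmem⟩ : K₀)} : Set K₀)).map K₀.subtype := by
      rw [RingHom.map_field_closure, Set.image_singleton]
      exact hK₀ ▸ x.2
    obtain ⟨y, hy, hyx⟩ := hx
    rwa [show x = y from Subtype.ext hyx.symm]
  obtain ⟨φ, hφ⟩ := exists_block K₀
  let ψ : Matrix.SpecialLinearGroup (Fin 2) K₀ →* G3 := (MulAut.conj Q).toMonoidHom.comp φ
  have hψ : ∀ m r, (ψ m : M3) *ᵥ ![u, v', w] r = (Q : M3) *ᵥ ((φ m : M3) *ᵥ Pi.single r 1) := fun m r => by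
    show (((Q * φ m * Q⁻¹ : G3)) : M3) *ᵥ _ = _
    rw [gl_mul_mulVec, gl_mul_mulVec, ← hQ, gl_inv_mulVec]
  have hspan : ∀ x y : G3, (∀ r, (x : M3) *ᵥ ![u, v', w] r = (y : M3) *ᵥ ![u, v', w] r) → x = y := by
    intro x y h
    refine mul_right_cancel (b := Q) (Units.ext (Matrix.ext_of_mulVec_single fun r => ?_))
    rw [Units.val_mul, Units.val_mul, ← mulVec_mulVec, ← mulVec_mulVec, hQ]
    exact h r
  have hcol : ∀ m : Matrix.SpecialLinearGroup (Fin 2) K₀, ((ψ m : M3) *ᵥ u = (m 0 0 : F) • u + (m 1 0 : F) • v') ∧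
      ((ψ m : M3) *ᵥ v' = (m 0 1 : F) • u + (m 1 1 : F) • v') ∧ (ψ m : M3) *ᵥ w = w := by
    intro m
    have e : ∀ a b d : F, (Q : M3) *ᵥ ![a, b, d] = a • u + b • v' + d • w := fun a b d => by
      have h1 : (![a, b, d] : V3) = a • Pi.single 0 1 + b • Pi.single 1 1 + d • Pi.single 2 1 := by
        funext i; fin_cases i <;> simp
      rw [h1, mulVec_add, mulVec_add, mulVec_smul, mulVec_smul, mulVec_smul, hQ, hQ, hQ]
      rfl
    refine ⟨?_, ?_, ?_⟩
    · have h := hψ m 0
      rw [mulVec_single_one, hφ] at h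
      rw [show ((!![(m 0 0 : F), (m 0 1 : F), 0; (m 1 0 : F), (m 1 1 : F), 0; 0, 0, 1]).col 0) =
        ![(m 0 0 : F), (m 1 0 : F), 0] by funext i; fin_cases i <;> rfl, e, zero_smul, add_zero] at h
      exact h
    · have h := hψ m 1
      rw [mulVec_single_one, hφ] at h
      rw [show ((!![(m 0 0 : F), (m 0 1 : F), 0; (m 1 0 : F), (m 1 1 : F), 0; 0, 0, 1]).col 1) =
        ![(m 0 1 : F), (m 1 1 : F), 0] by funext i; fin_cases i <;> rfl, e, zero_smul, add_zero] at h
      exact h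
    · have h := hψ m 2
      rw [mulVec_single_one, hφ] at h
      rw [show ((!![(m 0 0 : F), (m 0 1 : F), 0; (m 1 0 : F), (m 1 1 : F), 0; 0, 0, 1]).col 2) =
        ![(0 : F), 0, 1] by funext i; fin_cases i <;> rfl, e, zero_smul, zero_smul, one_smul, zero_add, zero_add] at h
      exact h
  -- the two generators
  obtain ⟨T, hT⟩ : ∃ T : Subgroup (Matrix.SpecialLinearGroup (Fin 2) K₀), T = M.comap ψ := ⟨_, rfl⟩
  have hgens : ∀ m : Matrix.SpecialLinearGroup (Fin 2) K₀,
      ((m : Matrix (Fin 2) (Fin 2) K₀) = !![1, 0; 1, 1] ∨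
        (m : Matrix (Fin 2) (Fin 2) K₀) = !![1, ⟨lam, hmem⟩; 0, 1]) → m ∈ T := by
    intro m hm
    rw [hT, Subgroup.mem_comap]
    obtain ⟨c1, c2, c3⟩ := hcol m
    rcases hm with hm | hm
    · suffices e : ψ m = z' by rw [e]; exact hz'
      refine hspan _ _ fun r => ?_
      fin_cases r
      · show (ψ m : M3) *ᵥ u = _
        simp [c1, hzx', hm, hv']
      · show (ψ m : M3) *ᵥ v' = (z' : M3) *ᵥ v'
        rw [c2, hzx', hm, hv', hf.smul_left, hvv]
        simp
      · show (ψ m : M3) *ᵥ w = (z' : M3) *ᵥ w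
        rw [c3, hzx', hwv]
        simp
    · suffices e : ψ m = z by rw [e]; exact hz
      refine hspan _ _ fun r => ?_
      fin_cases r
      · show (ψ m : M3) *ᵥ u = (z : M3) *ᵥ u
        rw [c1, hzx, hm, huu]
        simp
      · show (ψ m : M3) *ᵥ v' = (z : M3) *ᵥ v'
        rw [c2, hzx, hm, hv', hf.smul_left]
        simp
        rw [hlam]
        module
      · show (ψ m : M3) *ᵥ w = (z : M3) *ᵥ w
        rw [c3, hzx, hwu]
        simp
  have hneg : ∃ m ∈ T, (m : Matrix (Fin 2) (Fin 2) K₀) = -1 := by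
    rcases Cfsg.Agent.S0801.result h2K (⟨lam, hmem⟩ : K₀) (fun e => hlam0 (congrArg Subtype.val e)) hgen with
      ⟨htop, -⟩ | ⟨-, -, hcard⟩
    · refine ⟨⟨-1, by simp [Matrix.det_fin_two]⟩, ?_, rfl⟩
      exact (Subgroup.closure_le T).2 hgens (htop ▸ Subgroup.mem_top _)
    · haveI : Fact (Nat.Prime 2) := ⟨Nat.prime_two⟩
      obtain ⟨m, hm⟩ := exists_prime_orderOf_dvd_card' (G := Subgroup.closure {g : Matrix.SpecialLinearGroup (Fin 2) K₀ |
        (g : Matrix (Fin 2) (Fin 2) K₀) = !![1, 0; 1, 1] ∨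
          (g : Matrix (Fin 2) (Fin 2) K₀) = !![1, ⟨lam, hmem⟩; 0, 1]}) 2 (hcard ▸ by norm_num)
      refine ⟨m.1, (Subgroup.closure_le T).2 hgens m.2, ?_⟩
      obtain ⟨x, hx⟩ : ∃ x : Matrix.SpecialLinearGroup (Fin 2) K₀, x = m.1 := ⟨_, rfl⟩
      rw [← hx]
      have hxx : x * x = 1 := by
        rw [hx, ← Subgroup.coe_mul, ← pow_two, orderOf_dvd_iff_pow_eq_one.1 (dvd_of_eq hm)]
        rfl
      have hx1 : x ≠ 1 := fun e => by
        rw [show m = 1 from Subtype.ext (hx.symm.trans e), orderOf_one] at hm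
        omega
      have hinv : (x : Matrix (Fin 2) (Fin 2) K₀) = Matrix.adjugate (x : Matrix (Fin 2) (Fin 2) K₀) := by
        rw [← Matrix.SpecialLinearGroup.coe_inv, inv_eq_of_mul_eq_one_right hxx]
      rw [Matrix.adjugate_fin_two] at hinv
      have e00 := congrFun (congrFun hinv 0) 0
      have e01 := congrFun (congrFun hinv 0) 1
      have e10 := congrFun (congrFun hinv 1) 0
      simp at e00 e01 e10
      have e01' : x.1 0 1 = 0 := (mul_eq_zero.1 (show (2 : K₀) * x.1 0 1 = 0 by linear_combination e01)).resolve_left h2K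
      have e10' : x.1 1 0 = 0 := (mul_eq_zero.1 (show (2 : K₀) * x.1 1 0 = 0 by linear_combination e10)).resolve_left h2K
      have hdet := x.2
      rw [Matrix.det_fin_two, ← e00, e01', zero_mul, sub_zero] at hdet
      have h' : (x.1 0 0 - 1) * (x.1 0 0 + 1) = 0 := by linear_combination hdet
      rcases mul_eq_zero.1 h' with e | e
      · exfalso
        refine hx1 (Subtype.ext (Matrix.ext fun r s => ?_))
        fin_cases r <;> fin_cases s
        · exact sub_eq_zero.1 e
        · exact e01'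
        · exact e10'
        · exact e00.symm.trans (sub_eq_zero.1 e)
      · have e' : x.1 0 0 = -1 := eq_neg_of_add_eq_zero_left e
        ext r s
        fin_cases r <;> fin_cases s <;> simp [e', e01', e10', ← e00]
  obtain ⟨m, hm, hmv⟩ := hneg
  rw [hT, Subgroup.mem_comap] at hm
  obtain ⟨c1, c2, c3⟩ := hcol m
  have hsu : (ψ m : M3) *ᵥ u = -u := by rw [c1, hmv]; simp
  have hsv' : (ψ m : M3) *ᵥ v' = -v' := by rw [c2, hmv]; simp
  refine ⟨ψ m, hm, hsu, ?_, fun x hxu hxv => ?_⟩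
  · have hk : c' * f u v ≠ 0 := mul_ne_zero hc' huv
    rw [hv', mulVec_smul, ← smul_neg] at hsv'
    exact smul_right_injective V3 hk hsv'
  · obtain ⟨y, hy⟩ : ∃ y, y = x - (f x w / f w w) • w := ⟨_, rfl⟩
    have hyu : f y u = 0 := by rw [hy, herm_sub_left hf, hf.smul_left, hwu, hxu, mul_zero, sub_zero]
    have hyv : f y v = 0 := by rw [hy, herm_sub_left hf, hf.smul_left, hwv, hxv, mul_zero, sub_zero]
    have hyw : f y w = 0 := by rw [hy, herm_sub_left hf, hf.smul_left, div_mul_cancel₀ _ hww, sub_self]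
    have hy0 : y = 0 := by
      by_contra hne
      obtain ⟨a, ha⟩ := (hf.nondegenerate y hne).2
      refine ha ?_
      obtain ⟨b, hb⟩ : ∃ b, b = ((Q⁻¹ : G3) : M3) *ᵥ a := ⟨_, rfl⟩
      have hab : a = (Q : M3) *ᵥ b := by rw [hb, gl_mulVec_inv]
      rw [hab, show b = b 0 • Pi.single 0 1 + b 1 • Pi.single 1 1 + b 2 • Pi.single 2 1 by
        funext i; fin_cases i <;> simp, mulVec_add, mulVec_add, mulVec_smul, mulVec_smul, mulVec_smul, hQ, hQ, hQ]
      simp [herm_add_right hf, herm_smul_right hf, hyu, hv', hyv, hyw]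
    rw [hy, sub_eq_zero] at hy0
    rw [hy0, mulVec_smul, c3]

end CfsgLib.Perm.Trans.UnitThree
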