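import Mathlib

/-!
# The arithmetic of the number of frames

A number of frames congruent to one modulo the square of `q + 1`, up to a divisor of nine, dividing
`q (q - 1) (q ^ 2 - q + 1) / 6` exists for few `q` only.
-/

set_option autoImplicit false
set_option linter.all false

namespace CfsgLib.Perm.Trans.UnitThree

/-- the test for small `q` -/
def testFrames (G q b : ℕ) : Bool :=
  let y := q + 1
  let P := q * q + 9 - 4 * q
  let den := b * (y * y) + 6 * G - 15 * (G * y)
  let num := G * (G * P - b)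
  den == 0 || num == 0 || !(num % den == 0) || !(den % (6 * G) == 0) || !(num / den * (y * y) % G == 0) ||
    !(Nat.gcd 3 (q + 1) ^ 2 == G) || q == 4 || q == 5 || q == 8 || q == 14 || q == 26 || q == 44

theorem test_frames_one : (List.range 26).all (fun q => (List.range 16).all fun b => testFrames 1 (q + 3) (b + 1)) = true := by
  decide +kernel

theorem test_frames_nine : (List.range 266).all (fun q => (List.range 216).all fun b => testFrames 9 (q + 3) (b + 1)) = true := by
  decide +kernel

/-- the test for large `q` -/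
def testPair (G : ℕ) (a b : ℕ) : Bool :=
  let D : ℤ := (a : ℤ) * b - G * G
  let B : ℤ := 15 * a * G - 6 * G * G
  let C : ℤ := 14 * G * G - 6 * a * G - G * b
  decide (2 * G * G ≤ a * b) ||
    if C == 0 then !(D == 0 && B == 0) && (D == 0 || !(B % D == 0) || decide (B / D < 30 * (G : ℤ)))
    else (List.range 30).all fun m => m == 0 || !(C.natAbs % m == 0) || decide (C.natAbs / m < 30 * G) ||
      !(D * ((C.natAbs / m : ℕ) : ℤ) * ((C.natAbs / m : ℕ) : ℤ) == B * ((C.natAbs / m : ℕ) : ℤ) + C)

theorem test_pair_one : (List.range 2).all (fun a => (List.range 2).all fun b => testPair 1 (a + 1) (b + 1)) = true := by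
  decide +kernel

theorem test_pair_nine : (List.range 162).all (fun a => (List.range 162).all fun b => testPair 9 (a + 1) (b + 1)) = true := by
  decide +kernel

/-- the number of frames is one, with six possible exceptions -/
theorem mono_arith {q k i : ℕ} (hq : 3 ≤ q) (hk : (q + 1) ^ 2 ∣ Nat.gcd 3 (q + 1) ^ 2 * (k - 1)) (hk1 : 1 < k)
    (he : 6 * (k * i) = q * ((q - 1) * (q ^ 2 - q + 1))) :
    q = 4 ∨ q = 5 ∨ q = 8 ∨ q = 14 ∨ q = 26 ∨ q = 44 := by
  obtain ⟨G, hG⟩ : ∃ G, G = Nat.gcd 3 (q + 1) ^ 2 := ⟨_, rfl⟩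
  rw [← hG] at hk
  have hG19 : G = 1 ∨ G = 9 := by
    rcases (Nat.dvd_prime Nat.prime_three).1 (Nat.gcd_dvd_left 3 (q + 1)) with e | e <;> simp [hG, e]
  obtain ⟨a, ha⟩ := hk
  obtain ⟨y, hy⟩ : ∃ y, y = q + 1 := ⟨_, rfl⟩
  rw [← hy] at ha
  have hqq : q ≤ q ^ 2 := Nat.le_self_pow two_ne_zero q
  have hy4 : 4 ≤ y := by omega
  have ha1 : 1 ≤ a := by
    rcases Nat.eq_zero_or_pos a with rfl | h
    · rw [mul_zero] at ha
      rcases Nat.mul_eq_zero.1 ha with h | h <;> omega
    · exact h
  have heZ : (6 * ((k : ℤ) * i)) = (q : ℤ) * (((q : ℤ) - 1) * ((q : ℤ) ^ 2 - q + 1)) := by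
    have := congrArg (fun n : ℕ => (n : ℤ)) he
    push_cast [Nat.cast_sub (show 1 ≤ q by omega), Nat.cast_sub hqq] at this
    exact this
  have hi : 1 ≤ i := by
    rcases Nat.eq_zero_or_pos i with rfl | h
    · rw [mul_zero, mul_zero] at he
      rcases Nat.mul_eq_zero.1 he.symm with h | h
      · omega
      · rcases Nat.mul_eq_zero.1 h with h | h <;> omega
    · exact h
  have haZ : (G : ℤ) * k = G + (y : ℤ) ^ 2 * a := by
    have := congrArg (fun n : ℕ => (n : ℤ)) ha
    push_cast [Nat.cast_sub (show 1 ≤ k by omega)] at this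
    linear_combination this
  have hyZ : (y : ℤ) = q + 1 := by rw [hy]; push_cast; ring
  obtain ⟨P, hP⟩ : ∃ P : ℤ, P = (q : ℤ) ^ 2 - 4 * q + 9 := ⟨_, rfl⟩
  obtain ⟨b, hb⟩ : ∃ b : ℤ, b = G * P - 6 * a * i := ⟨_, rfl⟩
  have hden : (G : ℤ) * (6 * i) = b * (y : ℤ) ^ 2 + 6 * G - 15 * (G * y) := by
    rw [hb, hP]
    have h2 : (G : ℤ) * k * (6 * i) = G * ((q : ℤ) * (((q : ℤ) - 1) * ((q : ℤ) ^ 2 - q + 1))) := by rw [← heZ]; ring
    rw [haZ] at h2
    rw [hyZ] at h2 ⊢
    linear_combination h2
  have hkey : (a : ℤ) * (G * (6 * i)) = G * (G * P - b) := by rw [hb]; ring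
  have hG1 : (1 : ℤ) ≤ G := by rcases hG19 with e | e <;> rw [e] <;> norm_num
  have hb1 : 1 ≤ b := by
    by_contra hcon
    push Not at hcon
    have h1 : b * (y : ℤ) ^ 2 ≤ 0 := mul_nonpos_of_nonpos_of_nonneg (by omega) (sq_nonneg _)
    have h2 : (0 : ℤ) < G * (6 * i) := by positivity
    have h3 : (G : ℤ) * 4 ≤ G * y := mul_le_mul_of_nonneg_left (by exact_mod_cast hy4) (by positivity)
    linarith
  obtain ⟨B, rfl⟩ : ∃ B : ℕ, b = B := ⟨b.toNat, (Int.toNat_of_nonneg (by omega)).symm⟩
  have hB1 : 1 ≤ B := by exact_mod_cast hb1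
  have hPy : P ≤ (y : ℤ) ^ 2 := by rw [hP, hyZ]; nlinarith
  have hmain : ((a : ℤ) * B) * (y : ℤ) ^ 2 + G * B + 6 * (a * G) = 15 * (a * G) * y + G * G * P := by
    rw [hden] at hkey
    linear_combination hkey
  by_cases hlarge : 30 * G ≤ y
  · exfalso
    have hab : a * B < 2 * G * G := by
      by_contra hcon
      push Not at hcon
      have h1 : 2 * (G : ℤ) * G ≤ (a : ℤ) * B := by exact_mod_cast hcon
      have h2 : 2 * (G : ℤ) * G * (y : ℤ) ^ 2 ≤ (a : ℤ) * B * (y : ℤ) ^ 2 :=
        mul_le_mul_of_nonneg_right h1 (sq_nonneg _)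
      have h3 : (G : ℤ) * G * P ≤ G * G * (y : ℤ) ^ 2 := mul_le_mul_of_nonneg_left hPy (by positivity)
      have h4 : (a : ℤ) * (30 * G) * y ≤ (a : ℤ) * ((B : ℤ) * y) * y := by
        refine mul_le_mul_of_nonneg_right (mul_le_mul_of_nonneg_left ?_ (by positivity)) (by positivity)
        calc (30 : ℤ) * G ≤ y := by exact_mod_cast hlarge
          _ ≤ B * y := le_mul_of_one_le_left (by positivity) (by exact_mod_cast hB1)
      have h5 : (0 : ℤ) < a * G := by positivity
      have h6 : (0 : ℤ) ≤ G * B := by positivity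
      linarith
    have htest : testPair G a B = true := by
      have ha' : a ≤ a * B := Nat.le_mul_of_pos_right a hB1
      have hB' : B ≤ a * B := Nat.le_mul_of_pos_left B ha1
      obtain ⟨a', rfl⟩ : ∃ a', a = a' + 1 := ⟨a - 1, by omega⟩
      obtain ⟨B', rfl⟩ : ∃ B', B = B' + 1 := ⟨B - 1, by omega⟩
      rcases hG19 with e | e <;> rw [e] at hab ⊢
      · exact List.all_eq_true.1 (List.all_eq_true.1 test_pair_one a' (List.mem_range.2 (by omega))) B'
          (List.mem_range.2 (by omega))
      · exact List.all_eq_true.1 (List.all_eq_true.1 test_pair_nine a' (List.mem_range.2 (by omega))) B'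
          (List.mem_range.2 (by omega))
    obtain ⟨D, hD⟩ : ∃ D : ℤ, D = (a : ℤ) * B - G * G := ⟨_, rfl⟩
    obtain ⟨L, hL⟩ : ∃ L : ℤ, L = 15 * a * G - 6 * G * G := ⟨_, rfl⟩
    obtain ⟨C, hC⟩ : ∃ C : ℤ, C = 14 * G * G - 6 * a * G - G * B := ⟨_, rfl⟩
    have heq : D * y * y = L * y + C := by
      rw [hD, hL, hC]
      rw [hP, show (q : ℤ) = y - 1 by rw [hyZ]; ring] at hmain
      linear_combination hmain
    have hy30 : 30 * (G : ℤ) ≤ y := by exact_mod_cast hlarge
    unfold testPair at htest
    simp only [← hD, ← hL, ← hC, decide_eq_false (show ¬ 2 * G * G ≤ a * B by omega), Bool.false_or] at htest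
    by_cases hC0 : C = 0
    · simp only [hC0, beq_self_eq_true, if_true, Bool.and_eq_true, Bool.or_eq_true, Bool.not_eq_true',
        beq_iff_eq, beq_eq_false_iff_ne, decide_eq_true_eq, Bool.and_eq_false_iff] at htest
      rw [hC0, add_zero] at heq
      have hDy : D * y = L := mul_right_cancel₀ (show (y : ℤ) ≠ 0 by omega) heq
      obtain ⟨h1, h2⟩ := htest
      rcases h2 with (h2 | h2) | h2
      · rw [h2, zero_mul] at hDy
        rcases h1 with h1 | h1
        · exact h1 h2
        · exact h1 hDy.symm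
      · exact h2 (by rw [← hDy, Int.mul_emod_right])
      · by_cases hD0 : D = 0
        · rcases h1 with h1 | h1
          · exact h1 hD0
          · exact h1 (by rw [← hDy, hD0, zero_mul])
        · rw [← hDy, Int.mul_ediv_cancel_left _ hD0] at h2
          omega
    · obtain ⟨m, hm⟩ : ∃ m, m = (D * y - L).natAbs := ⟨_, rfl⟩
      have hCy : C.natAbs = m * y := by
        rw [hm, ← Int.natAbs_natCast y, ← Int.natAbs_mul, Int.natAbs_natCast]
        congr 1
        linear_combination -heq
      have hm0 : m ≠ 0 := fun h0 => hC0 (Int.natAbs_eq_zero.1 (by rw [hCy, h0, zero_mul]))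
      have hm30 : m < 30 := by
        by_contra hcon
        push Not at hcon
        have h1 : 30 * (30 * G) ≤ m * y := Nat.mul_le_mul hcon hlarge
        have h2 : C.natAbs < 30 * (30 * G) := by
          have hA : (a : ℤ) ≤ 161 ∧ (B : ℤ) ≤ 161 := by
            have := Nat.le_mul_of_pos_right a hB1
            have := Nat.le_mul_of_pos_left B ha1
            rcases hG19 with e | e <;> rw [e] at hab <;> omega
          have hsum : a + B ≤ a * B + 1 := by
            obtain ⟨a', rfl⟩ : ∃ a', a = a' + 1 := ⟨a - 1, by omega⟩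
            obtain ⟨B', rfl⟩ : ∃ B', B = B' + 1 := ⟨B - 1, by omega⟩
            nlinarith
          rcases hG19 with e | e
          · rw [e] at hab hC ⊢
            have := Nat.le_mul_of_pos_right a hB1
            have := Nat.le_mul_of_pos_left B ha1
            omega
          · rw [e] at hab hC ⊢
            omega
        omega
      have hne : ¬ (C == 0) = true := by simpa using hC0
      simp only [if_neg hne] at htest
      have := List.all_eq_true.1 htest m (List.mem_range.2 hm30)
      simp only [Bool.or_eq_true, Bool.not_eq_true', beq_iff_eq, beq_eq_false_iff_ne, decide_eq_true_eq] at this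
      rw [hCy, Nat.mul_mod_right, Nat.mul_div_cancel_left y (Nat.pos_of_ne_zero hm0)] at this
      rcases this with ((h | h) | h) | h
      · exact hm0 h
      · exact h rfl
      · omega
      · exact h heq
  · -- small values
    have hB216 : B ≤ G * G + 15 * G := by
      by_contra hcon
      push Not at hcon
      have h1 : ((G : ℤ) * G + 15 * G) < B := by exact_mod_cast hcon
      have h2 : ((G : ℤ) * G + 15 * G) * ((a : ℤ) * (y : ℤ) ^ 2) < (B : ℤ) * ((a : ℤ) * (y : ℤ) ^ 2) :=
        mul_lt_mul_of_pos_right h1 (by positivity)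
      have h3 : (G : ℤ) * G * P ≤ G * G * (y : ℤ) ^ 2 := mul_le_mul_of_nonneg_left hPy (by positivity)
      have h4 : (G : ℤ) * G * (y : ℤ) ^ 2 ≤ G * G * ((a : ℤ) * (y : ℤ) ^ 2) :=
        mul_le_mul_of_nonneg_left (le_mul_of_one_le_left (sq_nonneg _) (by exact_mod_cast ha1)) (by positivity)
      have h5 : 15 * ((a : ℤ) * G) * y ≤ 15 * ((a : ℤ) * G) * (y : ℤ) ^ 2 :=
        mul_le_mul_of_nonneg_left (le_self_pow₀ (by omega) two_ne_zero) (by positivity)
      have h6 : (0 : ℤ) < a * G := by positivity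
      have h7 : (0 : ℤ) ≤ G * B := by positivity
      linarith
    have hGg : Nat.gcd 3 (q + 1) ^ 2 = G := hG.symm
    have htest : testFrames G q B = true := by
      obtain ⟨q', rfl⟩ : ∃ q', q = q' + 3 := ⟨q - 3, by omega⟩
      obtain ⟨B', rfl⟩ : ∃ B', B = B' + 1 := ⟨B - 1, by omega⟩
      rcases hG19 with e | e <;> rw [e] at hlarge hB216 ⊢
      · exact List.all_eq_true.1 (List.all_eq_true.1 test_frames_one q' (List.mem_range.2 (by omega))) B'
          (List.mem_range.2 (by omega))
      · exact List.all_eq_true.1 (List.all_eq_true.1 test_frames_nine q' (List.mem_range.2 (by omega))) B'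
          (List.mem_range.2 (by omega))
    have hPn : ((q * q + 9 - 4 * q : ℕ) : ℤ) = P := by
      rw [Nat.cast_sub (by nlinarith), hP]; push_cast; ring
    have hdenN : B * (y * y) + 6 * G - 15 * (G * y) = G * (6 * i) := by
      have : B * (y * y) + 6 * G = G * (6 * i) + 15 * (G * y) := by
        zify
        linear_combination -hden
      omega
    have hnumN : G * (G * (q * q + 9 - 4 * q) - B) = a * (G * (6 * i)) := by
      have hBle : B ≤ G * (q * q + 9 - 4 * q) := by
        zify
        rw [hPn]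
        have : (0 : ℤ) ≤ 6 * (a * i) := by positivity
        linarith
      zify [hBle]
      rw [hPn]
      linear_combination -hkey
    have hpos : 0 < G * (6 * i) := Nat.mul_pos (by omega) (by omega)
    have hpos' : 0 < a * (G * (6 * i)) := Nat.mul_pos (by omega) hpos
    unfold testFrames at htest
    simp only [← hy, hdenN, hnumN] at htest
    rw [Nat.mul_mod_left, Nat.mul_div_cancel _ hpos, show G * (6 * i) % (6 * G) = 0 by
      rw [← mul_assoc, mul_comm G 6]; exact Nat.mul_mod_right _ _, show a * (y * y) % G = 0 from Nat.mod_eq_zero_of_dvd ⟨k - 1, by rw [ha]; ring⟩] at htest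
    simp only [Bool.or_eq_true, Bool.not_eq_true', beq_iff_eq, beq_eq_false_iff_ne, ← hG, hy, hGg] at htest
    simp only [ne_eq, not_true_eq_false, or_false, false_or, hpos.ne', hpos'.ne'] at htest
    omega

end CfsgLib.Perm.Trans.UnitThree
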