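import Cfsg.Agent.Lib.Perm.Trans.UnitThree.Plane
import Cfsg.Agent.Lib.Perm.Trans.ThreeDim.UnitaryTv
import Cfsg.Agent.Lib.Perm.Trans.ThreeDim.Mono
import Cfsg.Agent.Lib.Invol.UnitaryTwo

/-!
# The torus of an orthonormal frame in dimension three
-/

set_option autoImplicit false
set_option linter.all false

namespace CfsgLib.Perm.Trans.UnitThree

open scoped Matrix
open Matrix Cfsg.Geo CfsgLib.Perm.Asch CfsgLib.Perm.Trans CfsgLib.Perm.Trans.Unit CfsgLib.Perm.LinDecomp
open CfsgLib.Perm.Trans.ThreeDim (Idx dg dg_prod exists_idx)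

variable {F : Type*} [Field F] [Fintype F] {q : ℕ} {σ : F ≃+* F}
variable {f : (Fin 3 → F) → (Fin 3 → F) → F}

local notation "M3" => Matrix (Fin 3) (Fin 3) F
local notation "G3" => GL (Fin 3) F
local notation "V3" => Fin 3 → F

/-- a form which is standard in the given coordinates -/
structure Std (q : ℕ) (σ : F ≃+* F) (f : (Fin 3 → F) → (Fin 3 → F) → F) : Prop where
  form : IsUnitaryForm σ f
  std : ∀ u v, f u v = ∑ k, u k * σ (v k)
  card : Fintype.card F = q ^ 2
  frob : ∀ x, σ x = x ^ q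

/-- a group between the monomial group and the special unitary group -/
structure Over (q : ℕ) (σ : F ≃+* F) (f : (Fin 3 → F) → (Fin 3 → F) → F) (M : Subgroup (GL (Fin 3) F)) : Prop extends
    Std q σ f where
  le : M ≤ isoU f ⊓ specialLinear (Fin 3) F
  mon_mem : ∀ (π : Equiv.Perm (Fin 3)) (d : Fin 3 → Fˣ), (∀ k, (d k : F) * σ (d k) = 1) →
    ((Equiv.Perm.sign π : ℤ) : F) * ∏ k, (d k : F) = 1 → mon π d ∈ M

namespace Std

variable (S : Std q σ f)
include S

theorem one_lt : 1 < q := CfsgLib.Invol.one_lt_of_card_sq S.card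

theorem norm_eq (x : F) : x * σ x = x ^ (q + 1) := by rw [S.frob, pow_succ']

/-- a generator of the norm one elements -/
theorem exists_prim : ∃ w : Fˣ, orderOf w = q + 1 := by
  have h := S.one_lt
  have hcard : Nat.card Fˣ = (q + 1) * (q - 1) := by
    rw [Nat.card_units, Nat.card_eq_fintype_card, S.card]
    simpa using Nat.sq_sub_sq q 1
  obtain ⟨g, hg⟩ := IsCyclic.exists_ofOrder_eq_natCard (α := Fˣ)
  refine ⟨g ^ (q - 1), ?_⟩
  rw [orderOf_pow_of_dvd (by omega) (by rw [hg, hcard]; exact dvd_mul_left _ _), hg, hcard,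
    Nat.mul_div_cancel _ (by omega)]

theorem norm_one_iff {x : Fˣ} : (x : F) * σ x = 1 ↔ x ^ (q + 1) = 1 := by
  rw [S.norm_eq, ← Units.val_pow_eq_pow_val, Units.val_eq_one]

/-- the number of norm one elements -/
theorem card_norm_one : Nat.card (powMonoidHom (q + 1) : Fˣ →* Fˣ).ker = q + 1 := by
  have h := S.one_lt
  rw [IsCyclic.card_powMonoidHom_ker, Nat.card_units, Nat.card_eq_fintype_card, S.card,
    show q ^ 2 - 1 = (q + 1) * (q - 1) by simpa using Nat.sq_sub_sq q 1, Nat.gcd_mul_right_left]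

theorem herm_single (k : Fin 3) (x : V3) : f x (Pi.single k 1) = x k := by
  rw [S.std, Finset.sum_eq_single k]
  · simp
  · intro j _ hj
    simp [hj]
  · simp

theorem single_single (k : Fin 3) : f (Pi.single k 1) (Pi.single k 1) = 1 := by
  rw [S.herm_single, Pi.single_eq_same]

end Std

/-- the torus as a homomorphism -/
def torHom (q : ℕ) (F : Type*) [Field F] :
    ((powMonoidHom (q + 1) : Fˣ →* Fˣ).ker × (powMonoidHom (q + 1) : Fˣ →* Fˣ).ker) →* GL (Fin 3) F where
  toFun x := mon 1 (dg (x.1 : Fˣ) (x.2 : Fˣ))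
  map_one' := by
    rw [← mon_one]
    congr 1
    funext k
    fin_cases k <;> simp [dg]
  map_mul' x y := by
    rw [mon_mul, mul_one]
    congr 1
    funext k
    fin_cases k <;> simp [dg, mul_comm, mul_left_comm, mul_assoc]

/-- the torus -/
def tor (q : ℕ) (F : Type*) [Field F] : Subgroup (GL (Fin 3) F) := (torHom q F).range

variable (S : Std q σ f)
include S

theorem mem_tor_iff {g : G3} : g ∈ tor q F ↔ ∃ d : Fin 3 → Fˣ, g = mon 1 d ∧ (∀ k, d k ^ (q + 1) = 1) ∧
    d 0 * d 1 * d 2 = 1 := by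
  constructor
  · rintro ⟨⟨a, b⟩, rfl⟩
    refine ⟨dg a b, rfl, fun k => ?_, mul_inv_cancel _⟩
    have ha : (a : Fˣ) ^ (q + 1) = 1 := a.2
    have hb : (b : Fˣ) ^ (q + 1) = 1 := b.2
    fin_cases k
    · exact ha
    · exact hb
    · show (((a : Fˣ) * b)⁻¹) ^ (q + 1) = 1
      rw [inv_pow, mul_pow, ha, hb, one_mul, inv_one]
  · rintro ⟨d, rfl, hd, hprod⟩
    refine ⟨(⟨d 0, hd 0⟩, ⟨d 1, hd 1⟩), ?_⟩
    show mon 1 (dg (d 0) (d 1)) = mon 1 d
    congr 1
    funext k
    fin_cases k
    · rfl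
    · rfl
    · exact (eq_inv_of_mul_eq_one_right hprod).symm

theorem card_tor : Nat.card (tor q F) = (q + 1) ^ 2 := by
  have hinj : Function.Injective (torHom q F) := by
    rintro ⟨a, b⟩ ⟨a', b'⟩ h
    have h' := mon_d_inj (show (mon 1 (dg (a : Fˣ) b) : G3) = mon 1 (dg (a' : Fˣ) b') from h)
    exact Prod.ext (Subtype.ext (congrFun h' 0)) (Subtype.ext (congrFun h' 1))
  rw [tor, Nat.card_congr (MonoidHom.ofInjective hinj).toEquiv.symm, Nat.card_prod, S.card_norm_one, sq]

omit S

namespace Over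

variable {M : Subgroup (GL (Fin 3) F)} (O : Over q σ f M)
include O

theorem iso : M ≤ isoU f := O.le.trans inf_le_left

theorem det_one {g : G3} (hg : g ∈ M) : (g : M3).det = 1 := ThreeDim.det_one_of_mem inf_le_right (O.le hg)

theorem tor_le : tor q F ≤ M := fun g hg => by
  obtain ⟨d, rfl, hd, hprod⟩ := (mem_tor_iff O.toStd).1 hg
  refine O.mon_mem 1 d (fun k => O.toStd.norm_one_iff.2 (hd k)) ?_
  rw [map_one, Units.val_one, Int.cast_one, one_mul, Fin.prod_univ_three, ← Units.val_mul, ← Units.val_mul, hprod,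
    Units.val_one]

/-- the diagonal matrix with given entries -/
theorem diag_mem {d : Fin 3 → Fˣ} (hd : ∀ k, d k ^ (q + 1) = 1) (h : d 0 * d 1 * d 2 = 1) : mon 1 d ∈ M :=
  O.tor_le ((mem_tor_iff O.toStd).2 ⟨d, rfl, hd, h⟩)

theorem col_orth {g : G3} (hg : g ∈ M) (a b : Fin 3) :
    ∑ k, (g : M3) k a * σ ((g : M3) k b) = if a = b then 1 else 0 := by
  have h := mem_isoU.1 (O.iso hg) (Pi.single a 1) (Pi.single b 1)
  rw [mulVec_single_one, mulVec_single_one, O.toStd.std] at h
  have h' : f (Pi.single a 1) (Pi.single b 1) = if a = b then 1 else 0 := by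
    rw [O.toStd.herm_single, Pi.single_apply]
    simp only [eq_comm]
  rw [h'] at h
  exact h

/-- signed transpositions -/
theorem swap_mem {i j l : Fin 3} (H : Idx i j l) :
    mon (Equiv.swap i j) (fun k => if k = l then -1 else 1) ∈ M := by
  refine O.mon_mem _ _ (fun k => ?_) ?_
  · split_ifs <;> simp
  · rw [Equiv.Perm.sign_swap H.ij, H.prod]
    simp [H.il, H.jl]

/-- the permutation matrices of even permutations -/
theorem even_mem {π : Equiv.Perm (Fin 3)} (hπ : Equiv.Perm.sign π = 1) : mon π (fun _ => 1) ∈ M :=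
  O.mon_mem _ _ (fun k => by simp) (by simp [hπ])

/-- the group is irreducible -/
theorem irreducible (hq : 2 ≤ q) (W : Submodule F V3) (hW : ∀ g ∈ M, ∀ w ∈ W, (g : M3) *ᵥ w ∈ W) :
    W = ⊥ ∨ W = ⊤ := by
  refine or_iff_not_imp_left.2 fun hne => ?_
  obtain ⟨w, hw, hw0⟩ := Submodule.exists_mem_ne_zero_of_ne_bot hne
  obtain ⟨ζ, hζ⟩ := O.toStd.exists_prim
  have hpow : ζ ^ (q + 1) = 1 := hζ ▸ pow_orderOf_eq_one ζ
  have hζ1 : ζ ≠ 1 := fun e => by rw [e, orderOf_one] at hζ; omega
  have hζ3 : q = 2 ∨ ζ ^ 3 ≠ 1 := by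
    by_contra hcon
    push Not at hcon
    have := Nat.le_of_dvd (by norm_num) (hζ ▸ orderOf_dvd_of_pow_eq_one hcon.2)
    omega
  -- some vector of the frame is in the subspace
  obtain ⟨m, hm⟩ : ∃ m, Pi.single m (1 : F) ∈ W := by
    obtain ⟨k, hk⟩ := Function.ne_iff.1 hw0
    obtain ⟨i, j, H⟩ := exists_idx k
    -- kill the other two coordinates
    have hstep : ∀ a b : Fin 3, a ≠ b → ∀ x ∈ W, ∃ y ∈ W, y a = 0 ∧ (x b ≠ 0 → y b ≠ 0) ∧
        ∀ c, x c = 0 → y c = 0 := by
      intro a b hab x hx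
      obtain ⟨c, Hc⟩ : ∃ c, Idx a b c := by
        obtain ⟨a', b', Hab⟩ := exists_idx a
        rcases Hab.all b with e | e | e
        · exact ⟨b', hab, by rw [e]; exact Hab.ij, Hab.jl.symm⟩
        · exact ⟨a', hab, by rw [e]; exact Hab.ij.symm, Hab.il.symm⟩
        · exact absurd e.symm hab
      obtain ⟨d, hd⟩ : ∃ d : Fin 3 → Fˣ, d = fun k => if k = a then ζ else if k = b then 1 else ζ⁻¹ := ⟨_, rfl⟩
      have hg : mon 1 d ∈ M := by
        refine O.mon_mem 1 d (fun k => O.toStd.norm_one_iff.2 ?_) ?_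
        · rw [hd]
          simp only
          split_ifs <;> simp [hpow]
        · rw [map_one, Units.val_one, Int.cast_one, one_mul, Hc.prod, hd]
          simp [hab, hab.symm, Hc.il.symm, Hc.jl.symm]
      refine ⟨(mon 1 d : M3) *ᵥ x - (ζ : F) • x, W.sub_mem (hW _ hg x hx) (W.smul_mem _ hx), ?_, fun hxb => ?_,
        fun r hr => ?_⟩
      · rw [Pi.sub_apply, mon_mulVec, Equiv.Perm.one_symm, Equiv.Perm.one_apply, Pi.smul_apply, hd]
        simp
      · rw [Pi.sub_apply, mon_mulVec, Equiv.Perm.one_symm, Equiv.Perm.one_apply, Pi.smul_apply, hd, smul_eq_mul, ← sub_mul]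
        simp [hab.symm, hxb, sub_ne_zero]
        exact fun e => hζ1 (Units.ext e.symm)
      · rw [Pi.sub_apply, mon_mulVec, Equiv.Perm.one_symm, Equiv.Perm.one_apply, Pi.smul_apply, hr]
        simp
    obtain ⟨y, hy, hyi, hyk, -⟩ := hstep i k H.il w hw
    obtain ⟨z, hz, hzj, hzk, hzz⟩ := hstep j k H.jl y hy
    refine ⟨k, ?_⟩
    have hzk0 : z k ≠ 0 := hzk (hyk hk)
    have hz' : z = z k • Pi.single k (1 : F) := funext fun r => by
      rcases H.all r with rfl | rfl | rfl
      · simp [H.il, hzz r hyi]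
      · simp [H.jl, hzj]
      · simp
    rw [hz', W.smul_mem_iff hzk0] at hz
    exact hz
  have hall : ∀ k, Pi.single k (1 : F) ∈ W := by
    intro k
    obtain ⟨i, j, H⟩ := exists_idx m
    have key : ∀ r, r ≠ m → Pi.single r (1 : F) ∈ W := by
      intro r hr
      obtain ⟨c, Hc⟩ : ∃ c, Idx m r c := by
        rcases H.all r with e | e | e
        · exact ⟨j, hr.symm, by rw [e]; exact H.ij, H.jl.symm⟩
        · exact ⟨i, hr.symm, by rw [e]; exact H.ij.symm, H.il.symm⟩
        · exact absurd e hr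
      have := hW _ (O.swap_mem Hc) _ hm
      rw [mon_mulVec_single, Equiv.swap_apply_left, mul_one, if_neg Hc.il, Units.val_one] at this
      exact this
    by_cases hk : k = m
    · exact hk ▸ hm
    · exact key k hk
  refine eq_top_iff.2 fun x _ => ?_
  rw [show x = ∑ k, x k • Pi.single k (1 : F) by
    funext r; simp [Finset.sum_apply, Pi.single_apply]]
  exact W.sum_mem fun k _ => W.smul_mem _ (hall k)

/-- elements fixing the line of a frame vector keep the opposite plane -/
theorem row_zero {g : G3} (hg : g ∈ M) {l : Fin 3} {μ : F} (hgl : (g : M3) *ᵥ Pi.single l 1 = μ • Pi.single l 1)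
    {k : Fin 3} (hk : k ≠ l) : (g : M3) l k = 0 := by
  have hμ : μ ≠ 0 := fun h0 => by
    rw [h0, zero_smul, gl_mulVec_eq_zero] at hgl
    simpa using congrFun hgl l
  have h := O.col_orth hg k l
  rw [if_neg hk, Finset.sum_eq_single l] at h
  · rw [show (g : M3) l l = μ by
      have := congrFun hgl l
      rw [mulVec_single_one] at this
      simpa using this] at h
    exact (mul_eq_zero.1 h).resolve_right (by simpa using hμ)
  · intro r _ hr
    rw [show (g : M3) r l = 0 by
      have := congrFun hgl r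
      rw [mulVec_single_one] at this
      simpa [hr] using this, map_zero, mul_zero]
  · simp

end Over

end CfsgLib.Perm.Trans.UnitThree
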