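import Cfsg.Agent.Lib.Perm.Trans.UnitThree.MonoSylow

/-!
# Nineteen and twenty-eight frames over the field with sixty-four elements

The torus has few elements commuting with an element of order seven or nineteen, and such an element is
conjugate only to itself and its inverse among its powers; both numbers of frames are impossible.
-/

set_option autoImplicit false
set_option linter.all false

namespace CfsgLib.Perm.Trans.UnitThree

open scoped Matrix
open Matrix Cfsg.Geo CfsgLib.Perm.Asch CfsgLib.Perm.Trans CfsgLib.Perm.Trans.Unit CfsgLib.Perm.LinDecomp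
open CfsgLib.Perm.Trans.ThreeDim (Idx dg dg_prod exists_idx monoSub)

variable {F : Type*} [Field F] [Fintype F] {q : ℕ} {σ : F ≃+* F}
variable {f : (Fin 3 → F) → (Fin 3 → F) → F}

local notation "M3" => Matrix (Fin 3) (Fin 3) F
local notation "G3" => GL (Fin 3) F
local notation "V3" => Fin 3 → F

omit [Fintype F] in
theorem mon_pow_form (π : Equiv.Perm (Fin 3)) (d : Fin 3 → Fˣ) (n : ℕ) :
    ∃ d', (mon π d : G3) ^ n = mon (π ^ n) d' := by
  induction n with
  | zero => exact ⟨_, by rw [pow_zero, pow_zero]; exact mon_one.symm⟩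
  | succ n ih =>
    obtain ⟨d', hd'⟩ := ih
    exact ⟨_, by rw [pow_succ, pow_succ, hd', mon_mul]⟩

omit [Fintype F] in
theorem mon_diag_pow (d : Fin 3 → Fˣ) (n : ℕ) : (mon 1 d : G3) ^ n = mon 1 (fun k => d k ^ n) := by
  induction n with
  | zero => simp only [pow_zero]; exact mon_one.symm
  | succ n ih =>
    rw [pow_succ, ih, mon_mul, one_mul]
    congr 1
    funext k
    rw [Equiv.Perm.one_apply, pow_succ]

theorem perm_pow_six : ∀ π : Equiv.Perm (Fin 3), π ^ 6 = 1 := by decide +kernel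

omit [Fintype F] in
/-- Cayley-Hamilton in degree three -/
theorem cayley_three (A : M3) : A * A * A - A.trace • (A * A) + A.adjugate.trace • A - A.det • 1 = 0 := by
  ext r s
  fin_cases r <;> fin_cases s <;>
    simp [Matrix.mul_apply, Matrix.trace, Fin.sum_univ_three, Matrix.adjugate_fin_three, Matrix.det_fin_three] <;>
    ring

omit [Fintype F] in
/-- the trace of a square in characteristic two -/
theorem trace_sq [CharP F 2] (A : M3) : (A * A).trace = A.trace * A.trace := by
  simp only [Matrix.trace, Matrix.diag, Matrix.mul_apply, Fin.sum_univ_three]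
  linear_combination (A 0 1 * A 1 0 + A 0 2 * A 2 0 + A 1 2 * A 2 1 - A 0 0 * A 1 1 - A 0 0 * A 2 2 - A 1 1 * A 2 2) *
    (CharTwo.two_eq_zero : (2 : F) = 0)

/-- a subgroup is bounded by a centraliser times a set of conjugates -/
theorem card_le_cent_mul {G : Type*} [Group G] [Finite G] (T : Subgroup G) (x : G) (A : Set G)
    (hA : ∀ t ∈ T, t * x * t⁻¹ ∈ A) :
    Nat.card T ≤ Nat.card (T ⊓ Subgroup.centralizer {x} : Subgroup G) * Nat.card A := by
  classical
  obtain ⟨B, hB⟩ : ∃ B : Set G, B = (fun t : T => (t : G) * x * (t : G)⁻¹) '' Set.univ := ⟨_, rfl⟩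
  have hr : ∀ b : B, ∃ t : T, (t : G) * x * (t : G)⁻¹ = b := by
    rintro ⟨b, hb⟩
    rw [hB] at hb
    obtain ⟨t, -, rfl⟩ := hb
    exact ⟨t, rfl⟩
  choose r hr using hr
  have hBmem : ∀ t : T, (t : G) * x * (t : G)⁻¹ ∈ B := fun t => hB ▸ ⟨t, trivial, rfl⟩
  have hS : ∀ t : T, ((r ⟨_, hBmem t⟩ : G))⁻¹ * (t : G) ∈ T ⊓ Subgroup.centralizer {x} := by
    intro t
    refine ⟨T.mul_mem (T.inv_mem (r _).2) t.2, Subgroup.mem_centralizer_singleton_iff.2 ?_⟩
    have := hr ⟨_, hBmem t⟩
    simp only at this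
    calc ((r ⟨_, hBmem t⟩ : G))⁻¹ * t * x = ((r ⟨_, hBmem t⟩ : G))⁻¹ * ((t : G) * x * (t : G)⁻¹) * t := by group
      _ = ((r ⟨_, hBmem t⟩ : G))⁻¹ * ((r ⟨_, hBmem t⟩ : G) * x * (r ⟨_, hBmem t⟩ : G)⁻¹) * t := by rw [this]
      _ = x * ((r ⟨_, hBmem t⟩ : G)⁻¹ * t) := by group
  refine (Nat.card_le_card_of_injective (fun t : T => ((⟨_, hS t⟩ : (T ⊓ Subgroup.centralizer {x} : Subgroup G)),
    (⟨_, hA t t.2⟩ : A))) fun a b h => ?_).trans (Nat.card_prod _ _).le
  have h1 : ((r ⟨_, hBmem a⟩ : G))⁻¹ * (a : G) = ((r ⟨_, hBmem b⟩ : G))⁻¹ * (b : G) :=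
    congrArg Subtype.val (congrArg Prod.fst h)
  have h2 : (a : G) * x * (a : G)⁻¹ = (b : G) * x * (b : G)⁻¹ := congrArg Subtype.val (congrArg Prod.snd h)
  have h3 : (⟨_, hBmem a⟩ : B) = ⟨_, hBmem b⟩ := Subtype.ext h2
  rw [h3] at h1
  exact Subtype.ext (mul_left_cancel h1)

/-- the order of a subgroup times its relative index -/
theorem card_mul_rel {G : Type*} [Group G] {H L : Subgroup G} (h : H ≤ L) :
    Nat.card H * H.relIndex L = Nat.card L := by
  rw [← Subgroup.relIndex_bot_left, ← Subgroup.relIndex_bot_left, Subgroup.relIndex_mul_relIndex _ _ _ bot_le h]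

namespace Over

variable {M : Subgroup (GL (Fin 3) F)} (O : Over q σ f M)
include O

/-- monomial elements have bounded order -/
theorem mono_pow {g : G3} (hg : g ∈ M) (hm : Mono g) : g ^ (6 * (q + 1)) = 1 := by
  obtain ⟨π, d, rfl⟩ := hm
  obtain ⟨d', hd'⟩ := mon_pow_form π d 6
  rw [perm_pow_six] at hd'
  rw [pow_mul, hd', mon_diag_pow, show (fun k => d' k ^ (q + 1)) = fun _ => 1 from
    funext fun k => O.mon_data (hd' ▸ pow_mem hg 6) k, mon_one]

variable (hC : ∀ g : GL (Fin 3) F, g ∈ M → ∀ (l : Fin 3) (μ : F),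
  (g : Matrix (Fin 3) (Fin 3) F) *ᵥ Pi.single l 1 = μ • Pi.single l 1 → Mono g)
include hC

/-- few elements of the torus commute with an element outside the monomial group -/
theorem card_tor_cent {x : G3} (hx : x ∈ M) (hxm : ¬ Mono x) :
    Nat.card (tor q F ⊓ Subgroup.centralizer {x} : Subgroup G3) ≤ 3 := by
  classical
  have hsc : ∀ t : (tor q F ⊓ Subgroup.centralizer {x} : Subgroup G3), ∃ d : Fin 3 → Fˣ,
      (t : G3) = mon 1 d ∧ (∀ k, d k = d 0) ∧ d 0 ^ 3 = 1 := by
    rintro ⟨t, ht1, ht2⟩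
    obtain ⟨d, rfl, hd, hp⟩ := (mem_tor_iff O.toStd).1 ht1
    have hcomm : mon 1 d * x = x * mon 1 d := Subgroup.mem_centralizer_singleton_iff.1 ht2
    have hall : ∀ k, d k = d 0 := by
      by_contra hcon
      push Not at hcon
      obtain ⟨k, hk⟩ := hcon
      obtain ⟨c, hc⟩ : ∃ c, ∀ r, r ≠ c → d r ≠ d c := by
        by_cases h12 : d 1 = d 2
        · refine ⟨0, fun r hr e => ?_⟩
          fin_cases k
          · exact hk rfl
          · fin_cases r
            · exact hr rfl
            · exact hk e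
            · exact hk (h12.trans e)
          · fin_cases r
            · exact hr rfl
            · exact hk (h12.symm.trans e)
            · exact hk e
        · by_cases h01 : d 0 = d 1
          · refine ⟨2, fun r hr e => ?_⟩
            fin_cases r
            · exact h12 (h01.symm.trans e)
            · exact h12 e
            · exact hr rfl
          · refine ⟨1, fun r hr e => ?_⟩
            fin_cases r
            · exact h01 e
            · exact hr rfl
            · exact h12 e.symm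
      obtain ⟨m, hm⟩ := col_of_simple hcomm hc
      exact hxm (O.mono_of_share hC hx hm)
    refine ⟨d, rfl, hall, ?_⟩
    rw [pow_succ, sq]
    conv_rhs => rw [← hp, hall 1, hall 2]
  choose d hd hconst hcube using hsc
  refine (Nat.card_le_card_of_injective (fun t => (⟨d t 0, hcube t⟩ : (powMonoidHom 3 : Fˣ →* Fˣ).ker)) fun a b h => ?_).trans ?_
  · refine Subtype.ext ?_
    rw [hd, hd]
    congr 1
    funext k
    rw [hconst a k, hconst b k]
    exact congrArg Subtype.val h
  · rw [IsCyclic.card_powMonoidHom_ker]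
    exact Nat.le_of_dvd (by norm_num) (Nat.gcd_dvd_right _ _)

variable (hq8 : q = 8)
include hq8

/-- nineteen frames -/
theorem not_nineteen (hcard : Nat.card M = 9234) : False := by
  classical
  haveI : Fact (Nat.Prime 19) := ⟨by norm_num⟩
  obtain ⟨x', hx'⟩ := exists_prime_orderOf_dvd_card' (G := M) 19 (hcard ▸ by norm_num)
  have hone : Nat.card (Sylow 19 M) = 1 := by
    obtain ⟨P⟩ : Nonempty (Sylow 19 M) := inferInstance
    have hn := card_sylow_modEq_one 19 M
    have hi := P.card_dvd_index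
    have hP : Nat.card P = 19 := by
      rw [P.card_eq_multiplicity, hcard, show (9234 : ℕ).factorization 19 = 1 by
        rw [show (9234 : ℕ) = 19 * 486 by norm_num, Nat.factorization_mul (by norm_num) (by norm_num),
          Finsupp.add_apply, Nat.Prime.factorization_self (by norm_num), Nat.factorization_eq_zero_of_not_dvd (by norm_num)]]
      norm_num
    have hidx : (P : Subgroup M).index = 486 := by
      have := Subgroup.card_mul_index (P : Subgroup M)
      rw [hP, hcard] at this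
      omega
    rw [hidx] at hi
    have hle := Nat.le_of_dvd (by norm_num) hi
    obtain ⟨n, hn'⟩ : ∃ n, n = Nat.card (Sylow 19 M) := ⟨_, rfl⟩
    rw [← hn'] at hn hi hle ⊢
    unfold Nat.ModEq at hn
    by_contra hne
    have : (List.range 487).all (fun n => n == 1 || !(n % 19 == 1) || !(486 % n == 0)) = true := by decide +kernel
    rw [List.all_eq_true] at this
    have := this n (List.mem_range.2 (by omega))
    norm_num at hn
    simp [hne, hn, Nat.mod_eq_zero_of_dvd hi] at this
  obtain ⟨x, hxdef⟩ : ∃ x : G3, x = (x' : G3) := ⟨_, rfl⟩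
  have hxord : orderOf x = 19 := by rw [hxdef, Subgroup.orderOf_coe, hx']
  have hxm : ¬ Mono x := fun h => by
    have := orderOf_dvd_of_pow_eq_one (O.mono_pow (hxdef ▸ x'.2) h)
    rw [hxord, hq8] at this
    norm_num at this
  have hconj : ∀ t ∈ tor q F, t * x * t⁻¹ ∈ (Subgroup.zpowers x : Set G3) := by
    intro t ht
    obtain ⟨P, hP⟩ := (IsPGroup.of_card (n := 1) (by rw [Nat.card_zpowers, hx', pow_one]) :
      IsPGroup 19 (Subgroup.zpowers x')).exists_le_sylow
    haveI : Subsingleton (Sylow 19 M) := (Nat.card_eq_one_iff_unique.1 hone).1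
    obtain ⟨y, hy⟩ : ∃ y : M, y = ⟨t, O.tor_le ht⟩ * x' * ⟨t, O.tor_le ht⟩⁻¹ := ⟨_, rfl⟩
    have hyord : orderOf y = 19 := by
      rw [hy, ← MulAut.conj_apply, MulEquiv.orderOf_eq, hx']
    obtain ⟨P', hP'⟩ := (IsPGroup.of_card (n := 1) (by rw [Nat.card_zpowers, hyord, pow_one]) :
      IsPGroup 19 (Subgroup.zpowers y)).exists_le_sylow
    have hyP : y ∈ (P : Subgroup M) := Subsingleton.elim P' P ▸ hP' (Subgroup.mem_zpowers y)
    have hPcard : Nat.card P ≤ Nat.card (Subgroup.zpowers x') := by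
      rw [Nat.card_zpowers, hx', P.card_eq_multiplicity, hcard, show (9234 : ℕ).factorization 19 = 1 by
        rw [show (9234 : ℕ) = 19 * 486 by norm_num, Nat.factorization_mul (by norm_num) (by norm_num),
          Finsupp.add_apply, Nat.Prime.factorization_self (by norm_num), Nat.factorization_eq_zero_of_not_dvd (by norm_num)]]
      norm_num
    rw [← Subgroup.eq_of_le_of_card_ge hP hPcard] at hyP
    obtain ⟨k, hk⟩ := hyP
    refine ⟨k, ?_⟩
    have := congrArg Subtype.val hk
    simpa [hy, hxdef] using this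
  have h1 := card_le_cent_mul (tor q F) x _ hconj
  rw [card_tor O.toStd, hq8, Nat.card_coe_set_eq] at h1
  have h2 : Set.ncard (Subgroup.zpowers x : Set G3) = 19 := by
    rw [← Nat.card_coe_set_eq]
    exact (Nat.card_zpowers x).trans hxord
  rw [h2] at h1
  have := Nat.mul_le_mul_right 19 (O.card_tor_cent hC (hxdef ▸ x'.2) hxm)
  rw [hq8] at this
  omega

variable [CharP F 2]

omit hC in
/-- an element of order seven is not conjugate to its square -/
theorem not_conj_sq {x s : G3} (hx : x ∈ M) (h7 : orderOf x = 7) : s * x * s⁻¹ ≠ x ^ 2 := by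
  intro he
  obtain ⟨A, hA⟩ : ∃ A : M3, A = (x : M3) := ⟨_, rfl⟩
  have htr : A.trace = (A * A).trace := by
    rw [hA, ← Units.val_mul, ← pow_two, ← he, Units.val_mul, Units.val_mul, Matrix.trace_units_conj]
  rw [trace_sq] at htr
  have ht01 : A.trace = 0 ∨ A.trace = 1 := by
    rcases eq_or_ne A.trace 0 with h | h
    · exact Or.inl h
    · exact Or.inr (mul_left_cancel₀ h (htr.symm.trans (mul_one _).symm))
  have hinv : (Matrix.of fun a k => σ (A k a)) * A = 1 := by
    ext a b
    rw [Matrix.mul_apply, Matrix.one_apply]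
    have h := O.col_orth hx b a
    rw [hA]
    simp only [Matrix.of_apply]
    simp only [eq_comm (a := b)] at h
    rw [← h]
    exact Finset.sum_congr rfl fun k _ => mul_comm _ _
  have hadj : A.adjugate = Matrix.of fun a k => σ (A k a) := by
    have h := congrArg (fun B => B * A.adjugate) hinv
    simp only [mul_assoc, Matrix.mul_adjugate, one_mul] at h
    rw [show A.det = 1 from hA ▸ O.det_one hx, one_smul, mul_one] at h
    exact h.symm
  have htadj : A.adjugate.trace = A.trace := by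
    rw [hadj]
    have e : (Matrix.of fun a k => σ (A k a)).trace = σ A.trace := by
      simp [Matrix.trace, map_sum]
    rw [e]
    rcases ht01 with h | h <;> simp [h]
  have hch := cayley_three A
  rw [htadj, show A.det = 1 from hA ▸ O.det_one hx, one_smul] at hch
  have hpow : ∀ n, 0 < n → n < 7 → (x : M3) ^ n ≠ 1 := fun n hn hn7 e => by
    have := orderOf_le_of_pow_eq_one hn (Units.ext (by rw [Units.val_pow_eq_pow_val, e, Units.val_one]) : x ^ n = 1)
    omega
  rcases ht01 with h | h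
  · refine hpow 3 (by norm_num) (by norm_num) ?_
    rw [h, zero_smul, zero_smul, sub_zero, add_zero, sub_eq_zero] at hch
    rw [← hA, pow_succ, sq, hch]
  · refine hpow 4 (by norm_num) (by norm_num) ?_
    rw [h, one_smul, one_smul] at hch
    have e : A * A * A * A = A * (A * A * A - A * A + A - 1) + (A * A * A - A * A + A - 1) + 1 := by
      noncomm_ring
    rw [hch, mul_zero, zero_add, zero_add] at e
    rw [← hA, pow_succ, pow_succ, sq, e]

omit hC in
/-- an element of order seven commutes with no involution -/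
theorem no_invol {x z : G3} (hx : x ∈ M) (hz : z ∈ M) (h7 : orderOf x = 7) (hzz : z * z = 1) (hz1 : z ≠ 1)
    (hcomm : x * z = z * x) : False := by
  have hf := O.toStd.form
  obtain ⟨u, c, hu, hc, huu, -, hzx⟩ := involution_tv hf O.iso hz hzz hz1
  have hiso := mem_isoU.1 (O.iso hx)
  have hzx' : ∀ t, (z : M3) *ᵥ t = t + (c * f t ((x : M3) *ᵥ u)) • ((x : M3) *ᵥ u) := fun t => by
    have e : z = x * z * x⁻¹ := by rw [hcomm, mul_inv_cancel_right]
    rw [e, gl_mul_mulVec, gl_mul_mulVec, hzx, mulVec_add, mulVec_smul, gl_mulVec_inv, ← hiso _ u, gl_mulVec_inv]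
  obtain ⟨b, hb, hbc⟩ := tv_eq hf hu huu hc hzx' hzx
  have hb0 : b ≠ 0 := fun h0 => hu (by rw [hb, h0, zero_smul])
  have hxu : (x : M3) *ᵥ u = b⁻¹ • u := by
    conv_rhs => rw [hb, smul_smul, inv_mul_cancel₀ hb0, one_smul]
  have hNb : b * σ b = 1 := by
    have := hbc (fun h => hu (gl_mulVec_eq_zero.1 h))
    exact mul_left_cancel₀ hc (this.symm.trans (mul_one c).symm)
  have key : ∀ a : F, a ^ 7 = 1 → a * σ a = 1 → a = 1 := fun a h7' h9 => by
    rw [O.toStd.norm_eq, hq8] at h9
    have e2 : a ^ 2 = 1 := by rw [show (a : F) ^ 9 = a ^ 7 * a ^ 2 by ring, h7', one_mul] at h9; exact h9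
    rw [show (a : F) ^ 7 = (a ^ 2) ^ 3 * a by ring, e2, one_pow, one_mul] at h7'
    exact h7'
  have hx7 : x ^ 7 = 1 := h7 ▸ pow_orderOf_eq_one x
  have hxpow : ∀ n : ℕ, ((x ^ n : G3) : M3) *ᵥ u = b⁻¹ ^ n • u := by
    intro n
    induction n with
    | zero => simp
    | succ n ih => rw [pow_succ', gl_mul_mulVec, ih, mulVec_smul, hxu, smul_smul, ← pow_succ]
  have hb7 : b⁻¹ ^ 7 = 1 := by
    have := hxpow 7
    rw [hx7, Units.val_one, one_mulVec] at this
    exact smul_left_injective F hu (show b⁻¹ ^ 7 • u = (1 : F) • u by rw [one_smul, ← this])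
  have hb1 : b⁻¹ = 1 := key _ hb7 (by rw [map_inv₀, ← mul_inv, hNb, inv_one])
  rw [hb1, one_smul] at hxu
  obtain ⟨v, e, hvv, huv, hvu, heu, hev, hee, hco⟩ := iso_coords hf hu huu
  obtain ⟨α, hα⟩ : ∃ α, α = f ((x : M3) *ᵥ e) v := ⟨_, rfl⟩
  obtain ⟨β, hβ⟩ : ∃ β, β = f ((x : M3) *ᵥ e) e / f e e := ⟨_, rfl⟩
  have hxe : (x : M3) *ᵥ e = α • u + β • e := by
    conv_lhs => rw [hco ((x : M3) *ᵥ e)]
    rw [hα, hβ, show f ((x : M3) *ᵥ e) u = 0 by rw [← heu]; conv_lhs => rw [← hxu]; exact hiso _ _, zero_smul,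
      add_zero]
  have hNβ : β * σ β = 1 := by
    have h := hiso e e
    rw [hxe, hf.add_left, herm_add_right hf, herm_add_right hf, hf.smul_left, hf.smul_left, hf.smul_left,
      hf.smul_left, herm_smul_right hf, herm_smul_right hf, herm_smul_right hf, herm_smul_right hf, huu, heu,
      herm_swap_zero hf heu] at h
    exact mul_right_cancel₀ hee (by linear_combination h)
  have hxe' : ∀ n : ℕ, ∃ a : F, ((x ^ n : G3) : M3) *ᵥ e = a • u + β ^ n • e := by
    intro n
    induction n with
    | zero => exact ⟨0, by simp⟩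
    | succ n ih =>
      obtain ⟨a, ha⟩ := ih
      exact ⟨a + β ^ n * α, by rw [pow_succ', gl_mul_mulVec, ha, mulVec_add, mulVec_smul, mulVec_smul, hxu, hxe]; module⟩
  have hβ1 : β = 1 := by
    refine key β ?_ hNβ
    obtain ⟨a, ha⟩ := hxe' 7
    rw [hx7, Units.val_one, one_mulVec] at ha
    have := congrArg (fun w => f w e) ha
    simp only [hf.add_left, hf.smul_left, herm_swap_zero hf heu, mul_zero, zero_add] at this
    exact (mul_right_cancel₀ hee ((one_mul _).trans this)).symm
  rw [hβ1, one_smul] at hxe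
  obtain ⟨δ, hδ⟩ : ∃ δ, δ = f ((x : M3) *ᵥ v) v := ⟨_, rfl⟩
  obtain ⟨γ, hγ⟩ : ∃ γ, γ = f ((x : M3) *ᵥ v) e / f e e := ⟨_, rfl⟩
  have hxv : (x : M3) *ᵥ v = δ • u + v + γ • e := by
    conv_lhs => rw [hco ((x : M3) *ᵥ v)]
    rw [hδ, hγ, show f ((x : M3) *ᵥ v) u = 1 by rw [← hvu]; conv_lhs => rw [← hxu]; exact hiso _ _, one_smul]
  have h2 : (2 : F) = 0 := CharTwo.two_eq_zero
  have h4 : x ^ 4 = 1 := gl_ext_vec fun t => by
    rw [show x ^ 4 = x * x * (x * x) by rw [pow_succ, pow_succ, pow_two, mul_assoc (x * x)], Units.val_one, one_mulVec]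
    simp only [gl_mul_mulVec]
    conv_lhs => rw [hco t]
    conv_rhs => rw [hco t]
    simp only [mulVec_add, mulVec_smul, hxu, hxe, hxv, smul_add, smul_smul]
    match_scalars
    · linear_combination (2 * f t u * δ + 3 * f t u * γ * α + 2 * (f t e / f e e) * α) * h2
    · ring
    · linear_combination (2 * f t u * γ) * h2
  have := orderOf_le_of_pow_eq_one (by norm_num) h4
  omega

/-- twenty-eight frames -/
theorem not_twenty_eight (hcard : Nat.card M = 13608) : False := by
  classical
  haveI : Fact (Nat.Prime 7) := ⟨by norm_num⟩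
  haveI : Fact (Nat.Prime 3) := ⟨by norm_num⟩
  haveI : Fact (Nat.Prime 2) := ⟨by norm_num⟩
  obtain ⟨P⟩ : Nonempty (Sylow 7 M) := inferInstance
  have hPcard : Nat.card P = 7 := by
    rw [P.card_eq_multiplicity, hcard, show (13608 : ℕ).factorization 7 = 1 by
      rw [show (13608 : ℕ) = 7 * 1944 by norm_num, Nat.factorization_mul (by norm_num) (by norm_num),
        Finsupp.add_apply, Nat.Prime.factorization_self (by norm_num), Nat.factorization_eq_zero_of_not_dvd (by norm_num)]]
    norm_num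
  obtain ⟨x', hx'⟩ := exists_prime_orderOf_dvd_card' (G := (P : Subgroup M)) 7 hPcard.symm.dvd
  obtain ⟨y, hy⟩ : ∃ y : M, y = (x' : M) := ⟨_, rfl⟩
  have hyord : orderOf y = 7 := by rw [hy, Subgroup.orderOf_coe, hx']
  have hxord : orderOf (y : G3) = 7 := by rw [Subgroup.orderOf_coe, hyord]
  have hP : (P : Subgroup M) = Subgroup.zpowers y :=
    (Subgroup.eq_of_le_of_card_ge (by rw [Subgroup.zpowers_le, hy]; exact x'.2)
      (by rw [Nat.card_zpowers, hyord, hPcard])).symm
  obtain ⟨C, hCdef⟩ : ∃ C : Subgroup M, C = Subgroup.centralizer {y} := ⟨_, rfl⟩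
  obtain ⟨N, hN⟩ : ∃ N : Subgroup M, N = Subgroup.normalizer ((P : Subgroup M) : Set M) := ⟨_, rfl⟩
  have hxm : ¬ Mono (y : G3) := fun h => by
    have := orderOf_dvd_of_pow_eq_one (O.mono_pow y.2 h)
    rw [hxord, hq8] at this
    norm_num at this
  have hCN : C ≤ N := by
    rw [hN, hP, hCdef]
    intro g hg
    rw [Subgroup.mem_centralizer_singleton_iff] at hg
    rw [Subgroup.mem_normalizer_iff]
    intro h
    have hconj : MulAut.conj g y = y := by rw [MulAut.conj_apply, hg, mul_inv_cancel_right]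
    constructor
    · rintro ⟨k, rfl⟩
      exact ⟨k, by show y ^ k = g * y ^ k * g⁻¹; rw [← MulAut.conj_apply, map_zpow, hconj]⟩
    · rintro ⟨k, hk⟩
      exact ⟨k, (MulAut.conj g).injective (by show MulAut.conj g (y ^ k) = MulAut.conj g h; rw [map_zpow, hconj]; exact hk)⟩
  -- conjugates of the generator
  have hpm : ∀ g ∈ N, g * y * g⁻¹ = y ∨ g * y * g⁻¹ = y⁻¹ := by
    intro g hg
    rw [hN, hP, Subgroup.mem_normalizer_iff] at hg
    obtain ⟨k, hk⟩ := (hg y).1 (Subgroup.mem_zpowers y)
    obtain ⟨a, ha7, ha⟩ : ∃ a : ℕ, a < 7 ∧ g * y * g⁻¹ = y ^ a := by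
      refine ⟨(k % 7).toNat, by omega, ?_⟩
      rw [← zpow_natCast, Int.toNat_of_nonneg (Int.emod_nonneg _ (by norm_num))]
      rw [← hk]
      exact (zpow_mod_orderOf y k).symm.trans (by rw [hyord]; rfl)
    have hsq : ∀ (s : M) (n : ℕ), s * y * s⁻¹ = y ^ n → (n % 7 = 2) → False := fun s n hs hn => by
      have h2 : s * y * s⁻¹ = y ^ 2 := by rw [hs, ← pow_mod_orderOf, hyord, hn]
      exact O.not_conj_sq hq8 (s := (s : G3)) y.2 hxord (by simpa using congrArg Subtype.val h2)
    have hgg : (g * g) * y * (g * g)⁻¹ = y ^ (a * a) := by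
      have : MulAut.conj g y = y ^ a := ha
      rw [← MulAut.conj_apply, map_mul, MulAut.mul_apply, this, map_pow, this, ← pow_mul]
    have hg4 : (g * g * (g * g)) * y * (g * g * (g * g))⁻¹ = y ^ (a * a * (a * a)) := by
      have : MulAut.conj (g * g) y = y ^ (a * a) := hgg
      rw [← MulAut.conj_apply, map_mul, MulAut.mul_apply, this, map_pow, this, ← pow_mul]
    interval_cases a
    · exfalso
      rw [pow_zero, mul_inv_eq_one, mul_eq_left] at ha
      rw [ha, orderOf_one] at hyord
      omega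
    · exact Or.inl (by rw [ha, pow_one])
    · exact (hsq g 2 ha rfl).elim
    · exact (hsq (g * g) 9 hgg rfl).elim
    · exact (hsq (g * g) 16 hgg rfl).elim
    · exact (hsq (g * g * (g * g)) 625 hg4 rfl).elim
    · exact Or.inr (by rw [ha, eq_inv_iff_mul_eq_one, ← pow_succ]; exact orderOf_dvd_iff_pow_eq_one.1 (dvd_of_eq hyord))
  have hNC : C.relIndex N ≤ 2 := by
    rw [Subgroup.relIndex, Subgroup.index_eq_card]
    have hcls : ∀ a b : N, ((a : M) * y * (a : M)⁻¹ = (b : M) * y * (b : M)⁻¹) →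
        (QuotientGroup.mk a : N ⧸ C.subgroupOf N) = QuotientGroup.mk b := fun a b h => by
      rw [QuotientGroup.eq, Subgroup.mem_subgroupOf, hCdef, Subgroup.mem_centralizer_singleton_iff, Subgroup.coe_mul,
        Subgroup.coe_inv]
      calc (a : M)⁻¹ * b * y = (a : M)⁻¹ * ((b : M) * y * (b : M)⁻¹) * b := by group
        _ = (a : M)⁻¹ * ((a : M) * y * (a : M)⁻¹) * b := by rw [h]
        _ = y * ((a : M)⁻¹ * b) := by group
    refine (Nat.card_le_card_of_injective (fun o : N ⧸ C.subgroupOf N => decide ((o.out : M) * y * (o.out : M)⁻¹ = y))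
      fun o o' h => ?_).trans (by simp)
    simp only [decide_eq_decide] at h
    rw [← Quotient.out_eq' o, ← Quotient.out_eq' o']
    refine hcls _ _ ?_
    rcases hpm _ o.out.2 with e | e <;> rcases hpm _ o'.out.2 with e' | e'
    · rw [e, e']
    · rw [e, h.1 e]
    · rw [e', h.2 e']
    · rw [e, e']
  -- no involution centralises
  have hodd : ¬ 2 ∣ Nat.card C := fun h => by
    obtain ⟨z, hz⟩ := exists_prime_orderOf_dvd_card' (G := C) 2 h
    have hz' : orderOf ((z : M) : G3) = 2 := by rw [Subgroup.orderOf_coe, Subgroup.orderOf_coe, hz]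
    have hzz := pow_orderOf_eq_one ((z : M) : G3)
    rw [hz', sq] at hzz
    have hz2 : (z : M) ∈ Subgroup.centralizer {y} := hCdef ▸ z.2
    exact O.no_invol hq8 y.2 (z : M).2 hxord hzz (fun e => by rw [e, orderOf_one] at hz'; omega)
      (congrArg Subtype.val (Subgroup.mem_centralizer_singleton_iff.1 hz2)).symm
  -- the three-part
  have h27 : ¬ 27 ∣ Nat.card C := fun h => by
    obtain ⟨Q, hQ⟩ := Sylow.exists_subgroup_card_pow_prime 3 (G := C) (n := 3) (by rw [show (3 : ℕ) ^ 3 = 27 by norm_num]; exact h)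
    have hQ3 : IsPGroup 3 (Q.map C.subtype) := (IsPGroup.of_card hQ).map _
    obtain ⟨R, hR⟩ := hQ3.exists_le_sylow
    obtain ⟨T', hT'⟩ : ∃ T' : Subgroup M, T' = (tor q F).subgroupOf M := ⟨_, rfl⟩
    have hTcard : Nat.card T' = 81 := by
      rw [hT', Nat.card_congr (Subgroup.subgroupOfEquivOfLe O.tor_le).toEquiv, card_tor O.toStd, hq8]
      norm_num
    obtain ⟨R', hR'⟩ := (IsPGroup.of_card (n := 4) (by rw [hTcard]; norm_num) : IsPGroup 3 T').exists_le_sylow
    obtain ⟨g, hg⟩ := MulAction.exists_smul_eq M R R'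
    obtain ⟨Q', hQ'⟩ : ∃ Q' : Subgroup M, Q' = (Q.map C.subtype).map (MulAut.conj g).toMonoidHom := ⟨_, rfl⟩
    have hQ'R : Q' ≤ R' := by
      rw [hQ', ← hg]
      rintro _ ⟨r, hr, rfl⟩
      rw [Sylow.coe_subgroup_smul]
      exact Subgroup.smul_mem_pointwise_smul r (MulAut.conj g) _ (hR hr)
    have hR'card : Nat.card R' = 243 := by
      rw [R'.card_eq_multiplicity, hcard, show (13608 : ℕ).factorization 3 = 5 by
        rw [show (13608 : ℕ) = 3 ^ 5 * 56 by norm_num, Nat.factorization_mul (by norm_num) (by norm_num),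
          Finsupp.add_apply, Nat.factorization_pow_self (by norm_num), Nat.factorization_eq_zero_of_not_dvd (by norm_num)]]
      norm_num
    have hQ'card : Nat.card Q' = 27 := by
      rw [hQ', Subgroup.card_map_of_injective (MulAut.conj g).injective,
        Subgroup.card_map_of_injective (Subgroup.subtype_injective C), hQ]
      norm_num
    have hTR : T'.relIndex R' = 3 := by
      have := card_mul_rel hR'
      rw [hTcard, hR'card] at this
      omega
    have hle := Subgroup.relIndex_le_of_le_right (H := T') hQ'R (by rw [hTR]; norm_num)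
    rw [hTR] at hle
    have hinter : Nat.card (T' ⊓ Q' : Subgroup M) * T'.relIndex Q' = 27 := by
      rw [← hQ'card, ← card_mul_rel (inf_le_right : T' ⊓ Q' ≤ Q'), Subgroup.inf_relIndex_right]
    obtain ⟨x₂, hx₂⟩ : ∃ x₂ : G3, x₂ = (g : G3) * (y : G3) * (g : G3)⁻¹ := ⟨_, rfl⟩
    have hx₂M : x₂ ∈ M := hx₂ ▸ M.mul_mem (M.mul_mem g.2 y.2) (M.inv_mem g.2)
    have hx₂m : ¬ Mono x₂ := fun h' => by
      have := orderOf_dvd_of_pow_eq_one (O.mono_pow hx₂M h')
      rw [hx₂, ← MulAut.conj_apply, MulEquiv.orderOf_eq, hxord, hq8] at this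
      norm_num at this
    have hsub : Nat.card (T' ⊓ Q' : Subgroup M) ≤ 3 := by
      refine le_trans ?_ (O.card_tor_cent hC hx₂M hx₂m)
      refine Nat.card_le_card_of_injective (fun t : (T' ⊓ Q' : Subgroup M) =>
        (⟨((t : M) : G3), ?_, ?_⟩ : (tor q F ⊓ Subgroup.centralizer {x₂} : Subgroup G3)))
        fun a b h' => Subtype.ext (Subtype.ext (congrArg Subtype.val h' :))
      · exact Subgroup.mem_subgroupOf.1 (hT'.le t.2.1)
      · obtain ⟨t, -, ht⟩ := t
        rw [hQ'] at ht
        obtain ⟨r, ⟨s, -, rfl⟩, rfl⟩ := ht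
        have hs : (s : M) ∈ Subgroup.centralizer {y} := hCdef ▸ s.2
        rw [Subgroup.mem_centralizer_singleton_iff] at hs
        refine Subgroup.mem_centralizer_singleton_iff.2 ?_
        rw [hx₂]
        have e := congrArg Subtype.val hs
        simp only [Subgroup.coe_mul] at e
        show ((g : G3) * ((s : M) : G3) * (g : G3)⁻¹) * _ = _ * ((g : G3) * ((s : M) : G3) * (g : G3)⁻¹)
        calc ((g : G3) * ((s : M) : G3) * (g : G3)⁻¹) * ((g : G3) * (y : G3) * (g : G3)⁻¹)
            = (g : G3) * (((s : M) : G3) * (y : G3)) * (g : G3)⁻¹ := by group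
          _ = (g : G3) * ((y : G3) * ((s : M) : G3)) * (g : G3)⁻¹ := by rw [e]
          _ = _ := by group
    have := Nat.mul_le_mul hsub hle
    omega
  -- arithmetic
  obtain ⟨c, hc⟩ : ∃ c, c = Nat.card C := ⟨_, rfl⟩
  obtain ⟨r, hr⟩ : ∃ r, r = C.relIndex N := ⟨_, rfl⟩
  have hcN : c * r = Nat.card N := by rw [hc, hr, card_mul_rel hCN]
  have hn : Nat.card (Sylow 7 M) * Nat.card N = 13608 := by
    rw [← hcard, P.card_eq_index_normalizer, hN, mul_comm]
    exact Subgroup.card_mul_index _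
  have hcd : c ∣ 13608 := by rw [hc, ← hcard]; exact Subgroup.card_subgroup_dvd_card C
  have hmod := card_sylow_modEq_one 7 M
  unfold Nat.ModEq at hmod
  rw [← hr] at hNC
  rw [← hc] at hodd h27
  have hr0 : 0 < r := Nat.pos_of_ne_zero fun h0 => by
    rw [h0, mul_zero] at hcN
    exact absurd hcN.symm Nat.card_pos.ne'
  rw [← hcN] at hn
  have htab : (List.range 1702).all (fun c => (c % 2 == 0) || (c % 27 == 0) || !(13608 % c == 0) ||
      ((c == 0) || (!((13608 / c) % 7 == 1) && !((13608 / (c * 2)) % 7 == 1 && 13608 % (c * 2) == 0)))) = true := by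
    decide +kernel
  have hc2 : c % 2 ≠ 0 := fun h => hodd (Nat.dvd_of_mod_eq_zero h)
  have hc27 : c % 27 ≠ 0 := fun h => h27 (Nat.dvd_of_mod_eq_zero h)
  have hcle : c ≤ 1701 := by
    obtain ⟨e, he⟩ := hcd
    by_contra hgt
    push Not at hgt
    have he8 : e < 8 := by
      by_contra h8
      push Not at h8
      have := Nat.mul_le_mul hgt h8
      omega
    interval_cases e <;> omega
  rw [List.all_eq_true] at htab
  have ht := htab c (List.mem_range.2 (by omega))
  have hc0 : c ≠ 0 := fun h => hc2 (by rw [h])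
  simp [hc2, hc27, hc0, Nat.mod_eq_zero_of_dvd hcd] at ht
  interval_cases r
  · rw [mul_one] at hn
    refine ht.1 ?_
    rw [← hn, Nat.mul_div_cancel _ (Nat.pos_of_ne_zero hc0)]
    exact hmod
  · rcases ht.2 with h | h
    · refine h ?_
      rw [← hn, Nat.mul_div_cancel _ (by omega)]
      exact hmod
    · exact h (Nat.mod_eq_zero_of_dvd ⟨Nat.card (Sylow 7 M), by rw [← hn, mul_comm]⟩)

end Over

end CfsgLib.Perm.Trans.UnitThree
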