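import Cfsg.Agent.Lib.Perm.Trans.UnitThree.MonoPlane

/-!
# The orbits of the torus on the other frames

When the stabilisers of the frame vectors are monomial, an element of the torus fixing another frame has order
dividing three, so the number of frames is congruent to one modulo a large number.
-/

set_option autoImplicit false
set_option linter.all false

namespace CfsgLib.Perm.Trans.UnitThree

open scoped Matrix
open Matrix Cfsg.Geo CfsgLib.Perm.Asch CfsgLib.Perm.Trans CfsgLib.Perm.Trans.Unit CfsgLib.Perm.LinDecomp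
open CfsgLib.Perm.Trans.ThreeDim (Idx dg dg_prod exists_idx monoSub)

variable {F : Type*} [Field F] [Fintype F] {q : ℕ} {σ : F ≃+* F}
variable {f : (Fin 3 → F) → (Fin 3 → F) → F}

local notation "M3" => Matrix (Fin 3) (Fin 3) F
local notation "G3" => GL (Fin 3) F
local notation "V3" => Fin 3 → F

omit [Fintype F] in
/-- a column of a simple eigenvalue has one entry -/
theorem col_of_simple {g : G3} {d e : Fin 3 → Fˣ} (h : mon 1 d * g = g * mon 1 e) {c : Fin 3}
    (hc : ∀ r, r ≠ c → e r ≠ e c) : ∃ m, ∀ s, s ≠ m → (g : M3) s c = 0 := by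
  have hent : ∀ s r, (g : M3) s r ≠ 0 → d s = e r := fun s r hsr => by
    have := congrArg (fun A : G3 => (A : M3) s r) h
    simp only [Units.val_mul, Matrix.mul_apply] at this
    rw [Finset.sum_eq_single s, Finset.sum_eq_single r] at this
    rotate_left
    · intro b _ hb; rw [mon_apply, if_neg (by simpa using hb), mul_zero]
    · simp
    · intro b _ hb; rw [mon_apply, if_neg (by simpa using hb.symm), zero_mul]
    · simp
    rw [mon_apply, mon_apply, if_pos (by simp), if_pos (by simp), mul_comm] at this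
    exact Units.ext (mul_left_cancel₀ hsr this)
  obtain ⟨m, hm⟩ : ∃ m, (g : M3) m c ≠ 0 := by
    by_contra hcon
    push Not at hcon
    have : (g : M3) *ᵥ Pi.single c 1 = 0 := funext fun s => by rw [mulVec_single_one]; exact hcon s
    simpa using congrFun (gl_mulVec_eq_zero.1 this) c
  refine ⟨m, fun s hs => ?_⟩
  by_contra hsc
  -- the other two columns are supported in the remaining row
  obtain ⟨r, r', H⟩ := exists_idx c
  obtain ⟨t, ht⟩ : ∃ t, Idx s m t := by
    obtain ⟨a, b, Hab⟩ := exists_idx m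
    rcases Hab.all s with rfl | rfl | rfl
    · exact ⟨b, hs, Hab.jl.symm, Hab.ij⟩
    · exact ⟨a, hs, Hab.il.symm, Hab.ij.symm⟩
    · exact absurd rfl hs
  have hz : ∀ b, b ≠ c → ∀ k, k ≠ t → (g : M3) k b = 0 := fun b hb k hk => by
    by_contra h0
    refine hc b hb ((hent k b h0).symm.trans ?_)
    rcases ht.all k with rfl | rfl | rfl
    · exact hent _ c hsc
    · exact hent _ c hm
    · exact absurd rfl hk
  have hv : (g : M3) *ᵥ ((g : M3) t r' • Pi.single r (1 : F) - (g : M3) t r • Pi.single r' 1) = 0 := by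
    funext k
    rw [mulVec_sub, mulVec_smul, mulVec_smul, mulVec_single_one, mulVec_single_one, Pi.sub_apply, Pi.smul_apply,
      Pi.smul_apply, Pi.zero_apply]
    by_cases hk : k = t
    · subst hk; simp [mul_comm]
    · simp [hz r H.il k hk, hz r' H.jl k hk]
  have hv' := gl_mulVec_eq_zero.1 hv
  have h1 := congrFun hv' r
  simp [H.ij] at h1
  have : (g : M3) *ᵥ Pi.single r' 1 = 0 := funext fun k => by
    rw [mulVec_single_one]
    by_cases hk : k = t
    · subst hk; exact h1
    · exact hz r' H.jl k hk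
  simpa using congrFun (gl_mulVec_eq_zero.1 this) r'

/-- permutations of three symbols -/
theorem perm_three : ∀ π : Equiv.Perm (Fin 3), π = 1 ∨
    (π * π = 1 ∧ ∃ c, π c = c ∧ ∀ r, r ≠ c → π r ≠ r) ∨
    (π * π * π = 1 ∧ ∀ l, π (π l) ≠ π l ∧ π l ≠ l ∧ π (π l) ≠ l) := by decide

namespace Over

variable {M : Subgroup (GL (Fin 3) F)} (O : Over q σ f M)
include O

variable (hC : ∀ g : GL (Fin 3) F, g ∈ M → ∀ (l : Fin 3) (μ : F),
  (g : Matrix (Fin 3) (Fin 3) F) *ᵥ Pi.single l 1 = μ • Pi.single l 1 → Mono g)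
include hC

/-- frames sharing a vector are equal -/
theorem mono_of_share {g : G3} (hg : g ∈ M) {a b : Fin 3} (h : ∀ s, s ≠ b → (g : M3) s a = 0) : Mono g := by
  have hga : (g : M3) *ᵥ Pi.single a 1 = (g : M3) b a • Pi.single b 1 := funext fun s => by
    rw [mulVec_single_one, Pi.smul_apply]
    by_cases hs : s = b
    · subst hs; simp
    · simp [hs, h s hs]
  by_cases hab : b = a
  · subst hab; exact hC g hg _ _ hga
  obtain ⟨c, H⟩ : ∃ c, Idx b a c := by
    obtain ⟨x, y, Hxy⟩ := exists_idx a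
    rcases Hxy.all b with rfl | rfl | rfl
    · exact ⟨y, hab, Hxy.jl.symm, Hxy.ij⟩
    · exact ⟨x, hab, Hxy.il.symm, Hxy.ij.symm⟩
    · exact absurd rfl hab
  obtain ⟨w, hw⟩ : ∃ w : G3, w = mon (Equiv.swap b a) (fun k => if k = c then -1 else 1) := ⟨_, rfl⟩
  have hwM : w ∈ M := hw ▸ O.swap_mem H
  have h' : ((w * g : G3) : M3) *ᵥ Pi.single a 1 = (g : M3) b a • Pi.single a 1 := by
    rw [gl_mul_mulVec, hga, mulVec_smul, hw, mon_mulVec_single, Equiv.swap_apply_left, if_neg H.il, Units.val_one,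
      mul_one]
  have := hC _ (M.mul_mem hwM hg) a _ h'
  have hw' : Mono w := ⟨_, _, hw⟩
  simpa using Mono.mul hw'.inv this

/-- the torus elements fixing another frame have order dividing three -/
theorem stab_pow_three (hq : 3 ≤ q) (hq5 : q ≠ 5) {g : G3} (hg : g ∈ M) (hgm : ¬ Mono g) {d : Fin 3 → Fˣ}
    (hd : mon 1 d ∈ M) (hconj : Mono (g⁻¹ * mon 1 d * g)) : ∀ k, d k ^ 3 = 1 := by
  obtain ⟨π, e, he⟩ := hconj
  have hcomm : mon 1 d * g = g * mon π e := by rw [← he]; group
  have hmon : mon π e ∈ M := he ▸ M.mul_mem (M.mul_mem (M.inv_mem hg) hd) hg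
  -- diagonal conjugates are scalar
  have hdiag : ∀ d' e' : Fin 3 → Fˣ, mon 1 d' * g = g * mon 1 e' → ∀ k k', d' k = d' k' := by
    intro d' e' h
    by_contra hne
    push Not at hne
    obtain ⟨k, k', hkk⟩ := hne
    have hens : ∃ c, ∀ r, r ≠ c → e' r ≠ e' c := by
      by_contra hcon
      push Not at hcon
      have hall : ∀ r s, e' r = e' s := by
        obtain ⟨r0, h0, e0⟩ := hcon 0
        obtain ⟨r1, h1, e1⟩ := hcon 1
        obtain ⟨r2, h2, e2⟩ := hcon 2
        have h01 : e' 0 = e' 1 ∨ e' 0 = e' 2 := by fin_cases r0 <;> simp_all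
        have h11 : e' 1 = e' 0 ∨ e' 1 = e' 2 := by fin_cases r1 <;> simp_all
        have h21 : e' 2 = e' 0 ∨ e' 2 = e' 1 := by fin_cases r2 <;> simp_all
        have a01 : e' 0 = e' 1 := by
          rcases h01 with e | e
          · exact e
          · rcases h11 with e' | e'
            · exact e'.symm
            · exact e.trans e'.symm
        have a02 : e' 0 = e' 2 := by
          rcases h21 with e | e
          · exact e.symm
          · exact a01.trans e.symm
        intro r s
        fin_cases r <;> fin_cases s <;> simp [← a01, ← a02]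
      have hsc : ∀ s r, (g : M3) s r ≠ 0 → d' s = e' 0 := fun s r hsr => by
        have := congrArg (fun A : G3 => (A : M3) *ᵥ Pi.single r 1) h
        simp only [gl_mul_mulVec, eq_mon_smul, mulVec_smul] at this
        have h' := congrFun this s
        rw [mon_mulVec, Equiv.Perm.one_symm, Equiv.Perm.one_apply, Pi.smul_apply, mulVec_single_one, hall r 0,
          smul_eq_mul] at h'
        exact Units.ext (mul_right_cancel₀ hsr h')
      have hrow : ∀ s, ∃ r, (g : M3) s r ≠ 0 := fun s => by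
        by_contra hcon'
        push Not at hcon'
        exact (Matrix.GeneralLinearGroup.det g).ne_zero
          (by rw [Matrix.GeneralLinearGroup.val_det_apply]; exact Matrix.det_eq_zero_of_row_eq_zero s hcon')
      obtain ⟨r, hr⟩ := hrow k
      obtain ⟨r', hr'⟩ := hrow k'
      exact hkk ((hsc k r hr).trans (hsc k' r' hr').symm)
    obtain ⟨c, hc⟩ := hens
    obtain ⟨m, hm⟩ := col_of_simple h hc
    exact hgm (O.mono_of_share hC hg hm)
  have hprod : d 0 * d 1 * d 2 = 1 := O.diag_prod hd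
  rcases perm_three π with rfl | ⟨h2, c, hc, hmv⟩ | ⟨h3, hcyc⟩
  · intro k
    have h := hdiag d e hcomm
    rw [pow_succ, sq]
    conv_rhs => rw [← hprod, ← h k 0, ← h k 1, ← h k 2]
  · exfalso
    have hsq : mon 1 (fun k => d k * d k) * g = g * mon 1 (fun k => e (π k) * e k) := by
      have e1 : (mon 1 d : G3) * mon 1 d = mon 1 (fun k => d k * d k) := by rw [mon_mul, one_mul]; rfl
      have e2 : (mon π e : G3) * mon π e = mon 1 (fun k => e (π k) * e k) := by rw [mon_mul, h2]
      rw [← e1, ← e2, mul_assoc, hcomm, ← mul_assoc, hcomm, mul_assoc]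
    have hs := hdiag _ _ hsq
    obtain ⟨z, hz⟩ : ∃ z, ∀ k, d k * d k = z := ⟨_, fun k => hs k 0⟩
    have hz3 : z * z * z = 1 := by
      conv_lhs => arg 1; arg 1; rw [← hz 0]
      conv_lhs => arg 1; arg 2; rw [← hz 1]
      conv_lhs => arg 2; rw [← hz 2]
      calc d 0 * d 0 * (d 1 * d 1) * (d 2 * d 2) = (d 0 * d 1 * d 2) * (d 0 * d 1 * d 2) := by
            simp [mul_comm, mul_left_comm, mul_assoc]
        _ = 1 := by rw [hprod, one_mul]
    -- the signs
    obtain ⟨s, hsdef⟩ : ∃ s : Fin 3 → Fˣ, s = fun k => d k * z := ⟨_, rfl⟩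
    have hs2 : ∀ k, s k = 1 ∨ s k = -1 := fun k => by
      have : s k * s k = 1 := by
        rw [hsdef]; simp only
        calc d k * z * (d k * z) = (d k * d k) * z * z := by simp [mul_comm, mul_left_comm]
          _ = 1 := by rw [hz, hz3]
      have h' : ((s k : F) - 1) * ((s k : F) + 1) = 0 := by
        have := congrArg Units.val this
        rw [Units.val_mul, Units.val_one] at this
        linear_combination this
      rcases mul_eq_zero.1 h' with h'' | h''
      · exact Or.inl (Units.ext (sub_eq_zero.1 h''))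
      · exact Or.inr (Units.ext (by rw [Units.val_neg, Units.val_one]; linear_combination h''))
    have hsprod : s 0 * s 1 * s 2 = 1 := by
      rw [hsdef]; simp only
      calc d 0 * z * (d 1 * z) * (d 2 * z) = (d 0 * d 1 * d 2) * (z * z * z) := by
            simp [mul_comm, mul_left_comm, mul_assoc]
        _ = 1 := by rw [hprod, hz3, one_mul]
    obtain ⟨l, hl, hl'⟩ : ∃ l, s l = 1 ∧ ((∀ k, s k = 1) ∨ ∀ k, k ≠ l → s k = -1 ∧ (-1 : Fˣ) ≠ 1) := by
      by_cases h1 : (-1 : Fˣ) = 1
      · have hall : ∀ k, s k = 1 := fun k => (hs2 k).elim id fun e => e.trans h1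
        exact ⟨0, hall 0, Or.inl hall⟩
      rcases hs2 0 with e0 | e0 <;> rcases hs2 1 with e1 | e1 <;> rcases hs2 2 with e2 | e2 <;>
        simp [e0, e1, e2, h1] at hsprod
      · exact ⟨0, e0, Or.inl fun k => by fin_cases k <;> assumption⟩
      · exact ⟨0, e0, Or.inr fun k hk => ⟨by fin_cases k <;> first | exact absurd rfl hk | assumption, h1⟩⟩
      · exact ⟨1, e1, Or.inr fun k hk => ⟨by fin_cases k <;> first | exact absurd rfl hk | assumption, h1⟩⟩
      · exact ⟨2, e2, Or.inr fun k hk => ⟨by fin_cases k <;> first | exact absurd rfl hk | assumption, h1⟩⟩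
    have hπ1 : π ≠ 1 := fun h => by
      obtain ⟨r, hr⟩ := exists_ne c
      exact hmv r hr (by rw [h, Equiv.Perm.one_apply])
    rcases hl' with hall | hl'
    · -- a scalar is not a transposition
      have hdk : ∀ k, d k = z⁻¹ := fun k => eq_inv_of_mul_eq_one_left (by have := hall k; rw [hsdef] at this; exact this)
      have : mon π e = mon 1 d := by
        have hc' : (mon 1 d : G3) * g = g * mon 1 d := by
          refine gl_ext_vec fun x => funext fun k => ?_
          rw [gl_mul_mulVec, gl_mul_mulVec, mon_mulVec, Equiv.Perm.one_symm, Equiv.Perm.one_apply,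
            show ((mon 1 d : G3) : M3) *ᵥ x = ((z⁻¹ : Fˣ) : F) • x from funext fun r => by
              rw [mon_mulVec, Equiv.Perm.one_symm, Equiv.Perm.one_apply, Pi.smul_apply, hdk r, smul_eq_mul],
            mulVec_smul, Pi.smul_apply, hdk k, smul_eq_mul]
        exact mul_left_cancel (hcomm.symm.trans hc')
      exact hπ1 (mon_perm_inj this)
    -- an element commuting with the conjugated transposition
    obtain ⟨ζ, hζ⟩ := O.toStd.exists_prim
    obtain ⟨d', hd'⟩ : ∃ d' : Fin 3 → Fˣ, d' = fun k => if k = c then (ζ * ζ)⁻¹ else ζ := ⟨_, rfl⟩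
    have hpow : ζ ^ (q + 1) = 1 := hζ ▸ pow_orderOf_eq_one ζ
    have h6 : ζ ^ 6 ≠ 1 := fun e6 => by
      have h := hζ ▸ orderOf_dvd_of_pow_eq_one e6
      have h7 := Nat.le_of_dvd (by norm_num) h
      have : q ≤ 5 := by omega
      interval_cases q <;> omega
    have hd'M : mon 1 d' ∈ M := by
      obtain ⟨a, b, Hab⟩ := exists_idx c
      refine O.mon_mem 1 d' (fun k => O.toStd.norm_one_iff.2 ?_) ?_
      · rw [hd']; simp only; split_ifs <;> simp [hpow, mul_pow]
      · rw [map_one, Units.val_one, Int.cast_one, one_mul, Hab.prod, hd']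
        simp [Hab.il, Hab.jl]
        field_simp
    have hd'c : (mon π e : G3) * mon 1 d' = mon 1 d' * mon π e := by
      rw [mon_mul, mon_mul, mul_one, one_mul]
      congr 1
      funext k
      simp only [Equiv.Perm.one_apply]
      rw [mul_comm]
      congr 1
      rw [hd']
      by_cases hk : k = c
      · subst hk; simp [hc]
      · have : π k ≠ c := fun e => hk (π.injective (e.trans hc.symm))
        simp [hk, this]
    obtain ⟨h, hh⟩ : ∃ h : G3, h = g * mon 1 d' * g⁻¹ := ⟨_, rfl⟩
    have hhM : h ∈ M := hh ▸ M.mul_mem (M.mul_mem hg hd'M) (M.inv_mem hg)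
    have hdh : mon 1 d * h = h * mon 1 d := by
      have e0 : mon 1 d = g * mon π e * g⁻¹ := by rw [← hcomm]; group
      rw [hh, e0]
      calc g * mon π e * g⁻¹ * (g * mon 1 d' * g⁻¹) = g * (mon π e * mon 1 d') * g⁻¹ := by group
        _ = g * (mon 1 d' * mon π e) * g⁻¹ := by rw [hd'c]
        _ = g * mon 1 d' * g⁻¹ * (g * mon π e * g⁻¹) := by group
    have hhl : (h : M3) *ᵥ Pi.single l 1 = (h : M3) l l • Pi.single l 1 := funext fun k => by
      rw [mulVec_single_one, Pi.smul_apply]
      by_cases hk : k = l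
      · subst hk; simp
      · simp only [Pi.single_eq_of_ne hk, smul_zero]
        show (h : M3) k l = 0
        have := congrArg (fun A : G3 => (A : M3) k l) hdh
        simp only [Units.val_mul, Matrix.mul_apply] at this
        rw [Finset.sum_eq_single k, Finset.sum_eq_single l] at this
        rotate_left
        · intro b _ hb; rw [mon_apply, if_neg (by simpa using hb), mul_zero]
        · simp
        · intro b _ hb; rw [mon_apply, if_neg (by simpa using hb.symm), zero_mul]
        · simp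
        rw [mon_apply, mon_apply, if_pos (by simp), if_pos (by simp), mul_comm] at this
        by_contra h0
        have hkl : d k = d l := Units.ext (mul_left_cancel₀ h0 this)
        have hsk := (hl' k hk)
        have : s k = s l := by rw [hsdef]; simp only [hkl]
        rw [hsk.1, hl] at this
        exact hsk.2 this
    obtain ⟨π', e', he'⟩ := hC h hhM l _ hhl
    obtain ⟨d'', hd''⟩ : ∃ d'', h * h = mon 1 d'' := by
      rcases perm_three π' with rfl | ⟨h2', -, -, -⟩ | ⟨-, hcyc'⟩
      · exact ⟨_, by rw [he', mon_mul, one_mul]⟩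
      · exact ⟨_, by rw [he', mon_mul, h2']⟩
      · exfalso
        have h' := congrFun hhl (π' l)
        rw [he', mon_mulVec_single, Pi.single_eq_same, mul_one, Pi.smul_apply, Pi.single_eq_of_ne (hcyc' l).2.1] at h'
        simp at h'
    have hsq' : mon 1 d'' * g = g * mon 1 (fun k => d' k * d' k) := by
      have e1 : (mon 1 d' : G3) * mon 1 d' = mon 1 (fun k => d' k * d' k) := by rw [mon_mul, one_mul]; rfl
      rw [← hd'', ← e1, hh]
      group
    obtain ⟨m, hm⟩ := col_of_simple hsq' (c := c) fun r hr he6 => by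
      simp only [hd', if_neg hr, if_true] at he6
      refine h6 ?_
      calc ζ ^ 6 = (ζ * ζ) * (ζ * ζ) * (ζ * ζ) := by simp [pow_succ, mul_assoc]
        _ = ((ζ * ζ)⁻¹ * (ζ * ζ)⁻¹) * ((ζ * ζ) * (ζ * ζ)) := by nth_rewrite 1 [he6]; rw [mul_assoc]
        _ = 1 := by rw [← mul_inv, inv_mul_cancel]
    exact hgm (O.mono_of_share hC hg hm)
  · -- three-cycles
    have hcube : mon 1 (fun k => d k * d k * d k) * g = g * mon 1 (fun k => e (π (π k)) * e (π k) * e k) := by
      have e1 : (mon 1 d : G3) * mon 1 d * mon 1 d = mon 1 (fun k => d k * d k * d k) := by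
        rw [mon_mul, mon_mul, one_mul, one_mul]; rfl
      have e2 : (mon π e : G3) * mon π e * mon π e = mon 1 (fun k => e (π (π k)) * e (π k) * e k) := by
        rw [mon_mul, mon_mul, h3]
      have e0 : mon 1 d = g * mon π e * g⁻¹ := by rw [← hcomm]; group
      rw [← e1, ← e2, e0]
      group
    have hdet : ∀ k, e (π (π k)) * e (π k) * e k = 1 := fun k => by
      obtain ⟨a, b, c'⟩ := hcyc k
      have h1 := O.det_one hmon
      have hsign : Equiv.Perm.sign π = 1 := by
        have h := congrArg Equiv.Perm.sign h3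
        rw [map_mul, map_mul, map_one, Int.units_mul_self, one_mul] at h
        exact h
      rw [det_mon, hsign, Units.val_one, Int.cast_one, one_mul,
        (⟨a, b, c'⟩ : Idx (π (π k)) (π k) k).prod fun r => (e r : F)] at h1
      exact Units.ext (by rw [Units.val_mul, Units.val_mul, h1, Units.val_one])
    rw [show (fun k => e (π (π k)) * e (π k) * e k) = fun _ => 1 from funext hdet, mon_one, mul_one,
      mul_eq_right] at hcube
    intro k
    have := congrFun (mon_d_inj (hcube.trans mon_one.symm)) k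
    rw [pow_succ, sq]
    exact this

/-- the number of frames -/
theorem frames_formula (hq : 3 ≤ q) (hq5 : q ≠ 5) :
    ∃ k, Nat.card M = 6 * (q + 1) ^ 2 * k ∧ (q + 1) ^ 2 ∣ Nat.gcd 3 (q + 1) ^ 2 * (k - 1) ∧
      (k = 1 → ∀ g ∈ M, Mono g) := by
  classical
  obtain ⟨N, hN⟩ : ∃ N : Subgroup G3, N = M ⊓ monoSub F := ⟨_, rfl⟩
  have hle : N ≤ M := hN ▸ inf_le_left
  have hw : ∀ π : Equiv.Perm (Fin 3), ∃ d : Fin 3 → Fˣ, mon π d ∈ M := fun π =>
    ⟨fun _ => (Int.cast (Equiv.Perm.sign π : ℤ) : F) |> fun x => if h : x = 0 then 1 else Units.mk0 x h, by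
      rcases Int.units_eq_one_or (Equiv.Perm.sign π) with h | h <;>
        refine O.mon_mem _ _ (fun k => ?_) ?_ <;> simp [h]
      ring⟩
  choose w hw using hw
  have hNcard : Nat.card N = 6 * (q + 1) ^ 2 := by
    rw [← card_tor O.toStd, show 6 = Nat.card (Equiv.Perm (Fin 3)) by
      rw [Nat.card_perm, Nat.card_eq_fintype_card, Fintype.card_fin]; rfl, ← Nat.card_prod]
    have hmem : ∀ x : Equiv.Perm (Fin 3) × tor q F, mon x.1 (w x.1) * (x.2 : G3) ∈ N := fun x => by
      rw [hN]
      obtain ⟨d, hd, -⟩ := (mem_tor_iff O.toStd).1 x.2.2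
      exact ⟨M.mul_mem (hw x.1) (O.tor_le x.2.2), Mono.mul ⟨_, _, rfl⟩ ⟨_, _, hd⟩⟩
    refine (Nat.card_congr (Equiv.ofBijective (fun x => (⟨_, hmem x⟩ : N)) ⟨fun a b h => ?_, fun g => ?_⟩)).symm
    · have h' : mon a.1 (w a.1) * (a.2 : G3) = mon b.1 (w b.1) * (b.2 : G3) := congrArg Subtype.val h
      have h'' := h'
      obtain ⟨d, hd, -⟩ := (mem_tor_iff O.toStd).1 a.2.2
      obtain ⟨d', hd', -⟩ := (mem_tor_iff O.toStd).1 b.2.2
      rw [hd, hd', mon_mul, mon_mul, mul_one, mul_one] at h''
      have hp := mon_perm_inj h''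
      rw [hp, mul_right_inj] at h'
      exact Prod.ext hp (Subtype.ext h')
    · obtain ⟨g, hg⟩ := g
      rw [hN] at hg
      obtain ⟨hgM, π, d, rfl⟩ := hg
      have h' := M.mul_mem (M.inv_mem (hw π)) hgM
      obtain ⟨d', hd'⟩ : ∃ d', (mon π (w π) : G3)⁻¹ * mon π d = mon 1 d' :=
        ⟨_, by rw [mon_inv, mon_mul, inv_mul_cancel]⟩
      rw [hd'] at h'
      exact ⟨(π, ⟨mon 1 d', (mem_tor_iff O.toStd).2 ⟨d', rfl, fun k => O.mon_data h' k, O.diag_prod h'⟩⟩),
        Subtype.ext (by show mon π (w π) * mon 1 d' = mon π d; rw [← hd', mul_inv_cancel_left])⟩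
  obtain ⟨k, hk⟩ : ∃ k, k = (N.subgroupOf M).index := ⟨_, rfl⟩
  refine ⟨k, ?_, ?_, fun hk1 g hg => ?_⟩
  · rw [← hNcard, hk, ← Subgroup.card_mul_index (N.subgroupOf M),
      Nat.card_congr (Subgroup.subgroupOfEquivOfLe hle).toEquiv]
  · have hfix : (Subgroup.inclusion O.tor_le).range ≤ N.subgroupOf M := by
      rintro _ ⟨t, rfl⟩
      rw [Subgroup.mem_subgroupOf, hN]
      obtain ⟨d, hd, -⟩ := (mem_tor_iff O.toStd).1 t.2
      exact ⟨O.tor_le t.2, ⟨_, _, hd⟩⟩
    rw [hk]
    refine dvd_index_pred (Subgroup.inclusion O.tor_le) (N.subgroupOf M) hfix (dvd_of_eq (card_tor O.toStd).symm)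
      fun g hg S hS => ?_
    have hgm : ¬ Mono (g : G3) := fun h => hg (by rw [Subgroup.mem_subgroupOf, hN]; exact ⟨g.2, h⟩)
    obtain ⟨b, hb⟩ : ∃ b, b = Nat.gcd 3 (q + 1) := ⟨_, rfl⟩
    have h3 : ∀ t ∈ S, ∀ d : Fin 3 → Fˣ, ((t : tor q F) : G3) = mon 1 d → (∀ k, d k ^ (q + 1) = 1) →
        ∀ k, d k ^ b = 1 := by
      intro t ht d hd hdq k
      have h := hS t ht
      rw [Subgroup.mem_subgroupOf, hN] at h
      rw [hb]
      refine pow_gcd_eq_one.2 ⟨O.stab_pow_three hC hq hq5 g.2 hgm ?_ ?_ k, hdq k⟩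
      · rw [← hd]; exact O.tor_le t.2
      · have h2 : Mono ((g : G3)⁻¹ * ((t : tor q F) : G3) * (g : G3)) := h.2
        rwa [hd] at h2
    have hd : ∀ t : tor q F, ∃ d : Fin 3 → Fˣ, (t : G3) = mon 1 d ∧ (∀ s, d s ^ (q + 1) = 1) ∧ d 0 * d 1 * d 2 = 1 :=
      fun t => (mem_tor_iff O.toStd).1 t.2
    choose d hd1 hd2 hd3 using hd
    let χ : S →* (powMonoidHom b : Fˣ →* Fˣ).ker × (powMonoidHom b : Fˣ →* Fˣ).ker :=
      { toFun := fun t => (⟨d t.1 0, h3 _ t.2 _ (hd1 _) (hd2 _) 0⟩, ⟨d t.1 1, h3 _ t.2 _ (hd1 _) (hd2 _) 1⟩)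
        map_one' := by
          have := mon_d_inj (show (mon 1 (d 1) : G3) = mon 1 (fun _ => 1) by rw [← hd1, mon_one]; rfl)
          refine Prod.ext (Subtype.ext ?_) (Subtype.ext ?_) <;>
          · show d (1 : tor q F) _ = 1
            simp [this]
        map_mul' := fun x y => by
          have := mon_d_inj (show (mon 1 (d ((x : tor q F) * y)) : G3) = mon 1 (fun s => d x.1 s * d y.1 s) by
            rw [← hd1, Subgroup.coe_mul, hd1 x.1, hd1 y.1, mon_mul, one_mul]; rfl)
          refine Prod.ext (Subtype.ext ?_) (Subtype.ext ?_) <;>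
          · show d ((x : tor q F) * y) _ = _
            rw [this]
            rfl }
    have hχ : Function.Injective χ := fun x y h => by
      have h0 : d x.1 0 = d y.1 0 := congrArg (fun z => (z.1 : Fˣ)) h
      have h1 : d x.1 1 = d y.1 1 := congrArg (fun z => (z.2 : Fˣ)) h
      refine Subtype.ext (Subtype.ext ?_)
      rw [hd1, hd1]
      congr 1
      funext s
      fin_cases s
      · exact h0
      · exact h1
      · show d x.1 2 = d y.1 2
        rw [eq_inv_of_mul_eq_one_right (hd3 x.1), eq_inv_of_mul_eq_one_right (hd3 y.1), h0, h1]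
    refine (Subgroup.card_dvd_of_injective χ hχ).trans ?_
    rw [Nat.card_prod, IsCyclic.card_powMonoidHom_ker, hb, sq]
    exact mul_dvd_mul (Nat.gcd_dvd_right _ _) (Nat.gcd_dvd_right _ _)
  · have htop := Subgroup.index_eq_one.1 (hk.symm.trans hk1)
    have : (⟨g, hg⟩ : M) ∈ N.subgroupOf M := htop ▸ Subgroup.mem_top _
    rw [Subgroup.mem_subgroupOf, hN] at this
    exact this.2

end Over

end CfsgLib.Perm.Trans.UnitThree
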