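import Cfsg.Agent.Lib.Perm.Trans.UnitThree.Plane

/-!
# Point stabilisers of unitary groups of dimension three are maximal
-/

set_option autoImplicit false
set_option linter.all false

namespace CfsgLib.Perm.Trans.UnitThree

open scoped Matrix
open Matrix Cfsg.Geo CfsgLib.Perm.Asch CfsgLib.Perm.Trans CfsgLib.Perm.Trans.Unit

variable {ι : Type} [Fintype ι] [DecidableEq ι] {F : Type*} [Field F] [Fintype F]
variable {σ : F ≃+* F} {f : (ι → F) → (ι → F) → F}

omit [Fintype F] in
/-- a maximality criterion -/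
theorem isMaximalIn_of_full {H G : Subgroup (GL ι F)} (hproper : ¬ G ≤ H)
    (h : ∀ M : Subgroup (GL ι F), H ⊓ G ≤ M → M ≤ G → ¬ M ≤ H → G ≤ M) : IsMaximalIn G (H ⊓ G) := by
  refine ⟨lt_of_le_of_ne inf_le_right fun e => hproper (e ▸ inf_le_left), fun M hHM hM => ?_⟩
  by_cases hle : M ≤ H
  · exact Or.inl (le_antisymm (le_inf hle hM) hHM)
  · exact Or.inr (le_antisymm hM (h M hHM hM hle))

variable (hf : IsUnitaryForm σ f) (h3 : Fintype.card ι = 3) (hbig : 4 < Fintype.card F)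
include hf h3 hbig

/-- stabilisers of isotropic points -/
theorem singular_point_maximal {W : Submodule F (ι → F)} (hW0 : W ≠ ⊥) (hW : IsTotallySingularFor f W) :
    IsMaximalIn (isoU f ⊓ specialLinear ι F) (subspaceStabilizer W ⊓ (isoU f ⊓ specialLinear ι F)) := by
  obtain ⟨u, huW, hu0⟩ := Submodule.exists_mem_ne_zero_of_ne_bot hW0
  have huu : f u u = 0 := hW u huW u huW
  obtain rfl : Submodule.span F ({u} : Set (ι → F)) = W := le_antisymm
    ((Submodule.span_singleton_le_iff_mem _ _).2 huW)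
    fun v hv => eq_smul_of_orth hf h3 hu0 huu (hW v hv v hv) (hW u huW v hv)
  have hGtv : HasTv hf (isoU f ⊓ specialLinear ι F) (⊤ : Submodule F (ι → F)) := fun x _ hxx c hc =>
    ⟨utv_orth hf hxx c, ⟨mem_isoU.2 (utv_isometry hf x hxx hc _), tv_mem_SL _ _ _⟩⟩
  obtain ⟨y, hy⟩ := (hf.nondegenerate u hu0).2
  obtain ⟨p, -, hpp, hup, hpu⟩ := exists_partner hf (X := ⊤) Submodule.mem_top huu (y := y) Submodule.mem_top hy
  refine isMaximalIn_of_full (fun hle => ?_) fun M hHM hM hMW => ?_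
  · obtain ⟨δ, hδ, hδσ⟩ := exists_trace_zero hf
    have h0 := utv_orth hf hpp δ
    have h1 : u ∈ Submodule.span F ({u} : Set (ι → F)) ↔
        (tv p (δ • hv hf p) h0 : Matrix ι ι F) *ᵥ u ∈ Submodule.span F ({u} : Set (ι → F)) :=
      hle ⟨mem_isoU.2 (utv_isometry hf p hpp hδσ h0), tv_mem_SL _ _ _⟩ u
    have h2 := h1.1 huW
    rw [tv_mulVec, smul_dotProduct, hv_dot, hup, smul_eq_mul, mul_one, Submodule.add_mem_iff_right _ huW,
      Submodule.smul_mem_iff _ hδ, Submodule.mem_span_singleton] at h2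
    obtain ⟨a, ha⟩ := h2
    rw [← ha, herm_smul_right hf, huu, mul_zero] at hup
    exact zero_ne_one hup
  have hMiso : M ≤ isoU f := fun g hg => (hM hg).1
  have hcu : u ∈ centres hf M := mem_centres_of_stab hf hHM huu fun c h0 => stab_of_centre hf (Or.inl huW) c h0
  obtain ⟨g, hgM, hg⟩ := SetLike.not_le_iff_exists.1 hMW
  have hgu : (g : Matrix ι ι F) *ᵥ u ∉ Submodule.span F ({u} : Set (ι → F)) := by
    intro hmem
    obtain ⟨t, ht⟩ := Submodule.mem_span_singleton.1 hmem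
    refine hg (mem_stab_span (t := t) (fun h => hu0 ?_) ht.symm)
    rw [h, zero_smul] at ht
    exact gl_mulVec_eq_zero.1 ht.symm
  obtain ⟨w, hw⟩ : ∃ w, w = (g : Matrix ι ι F) *ᵥ u := ⟨_, rfl⟩
  have hwc : w ∈ centres hf M := hw ▸ centres_conj hf hMiso hgM hcu
  have hwu : f u w ≠ 0 := fun h => hgu (hw ▸ eq_smul_of_orth hf h3 hu0 huu hwc.1 h)
  refine isoU_inf_SL_le hf (fun v _ hvv c hc => ?_) (Or.inr hbig)
  suffices hv : v ∈ centres hf M from hv.2 c hc
  by_cases hvu : f u v = 0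
  · obtain ⟨a, ha⟩ := Submodule.mem_span_singleton.1 (eq_smul_of_orth hf h3 hu0 huu hvv hvu)
    exact ha ▸ centres_smul hf hcu a
  have hP : ∀ {x : ι → F}, f x x = 0 → f u x ≠ 0 → Partner f ⊤ u ((σ (f u x))⁻¹ • x) := fun {x} hxx hux =>
    ⟨Submodule.mem_top, by rw [hf.smul_left, herm_smul_right hf, hxx, mul_zero, mul_zero],
      by rw [herm_smul_right hf, map_inv₀, hf.involutive, inv_mul_cancel₀ hux]⟩
  obtain ⟨t, ⟨htG, -⟩, htu, htw⟩ := move_second hf hGtv (isNondegenerateOn_top hf) (Or.inr ⟨by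
    rw [finrank_top, Module.finrank_fintype_fun_eq_card, h3], hbig⟩) Submodule.mem_top huu (hP hwc.1 hwu) (hP hvv hvu)
  have htM : t ∈ M := hHM ⟨mem_stab_span one_ne_zero (by rw [one_smul, htu]), htG⟩
  have h1 := centres_conj hf hMiso htM (centres_smul hf hwc (σ (f u w))⁻¹)
  rw [htw] at h1
  have h2 := centres_smul hf h1 (σ (f u v))
  rwa [smul_smul, mul_inv_cancel₀ (by simpa using hvu), one_smul] at h2

/-- stabilisers of anisotropic points -/
theorem nondeg_point_maximal {W : Submodule F (ι → F)} (hW0 : W ≠ ⊥) (hW : IsNondegenerateOn f W)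
    (hdim : 2 * Module.finrank F W < 3) :
    IsMaximalIn (isoU f ⊓ specialLinear ι F) (subspaceStabilizer W ⊓ (isoU f ⊓ specialLinear ι F)) := by
  obtain ⟨a, haW, haa⟩ := exists_anisotropic hf hW hW0
  have ha0 : a ≠ 0 := fun h0 => haa (by rw [h0, herm_zero_left hf])
  obtain rfl : Submodule.span F ({a} : Set (ι → F)) = W := Submodule.eq_of_le_of_finrank_le
    ((Submodule.span_singleton_le_iff_mem _ _).2 haW) (by rw [finrank_span_singleton ha0]; omega)
  refine isMaximalIn_of_full (fun hle => ?_) fun M hHM hM hMW => ?_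
  · obtain ⟨z, hzz, hza⟩ := exists_iso_off hf h3 haa
    obtain ⟨δ, hδ, hδσ⟩ := exists_trace_zero hf
    have h0 := utv_orth hf hzz δ
    have h1 : a ∈ Submodule.span F ({a} : Set (ι → F)) ↔
        (tv z (δ • hv hf z) h0 : Matrix ι ι F) *ᵥ a ∈ Submodule.span F ({a} : Set (ι → F)) :=
      hle ⟨mem_isoU.2 (utv_isometry hf z hzz hδσ h0), tv_mem_SL _ _ _⟩ a
    have h2 := h1.1 haW
    have haz : f a z ≠ 0 := fun h => hza (herm_swap_zero hf h)
    rw [tv_mulVec, smul_dotProduct, hv_dot, Submodule.add_mem_iff_right _ haW,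
      Submodule.smul_mem_iff _ (smul_ne_zero hδ haz), Submodule.mem_span_singleton] at h2
    obtain ⟨c, hc⟩ := h2
    rw [← hc, hf.smul_left, herm_smul_right hf, ← mul_assoc] at hzz
    rw [← hc, hf.smul_left] at hza
    rcases mul_eq_zero.1 hzz with h | h
    · rcases mul_eq_zero.1 h with h' | h'
      · exact hza (by rw [h', zero_mul])
      · exact hza (by rw [show c = 0 by simpa using h', zero_mul])
    · exact haa h
  obtain ⟨g, hgM, hg⟩ := SetLike.not_le_iff_exists.1 hMW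
  refine full_of_plane hf h3 hbig hM haa (fun u huu hua => mem_centres_of_stab hf hHM huu fun c h0 =>
    stab_of_centre hf (Or.inr ((mem_perp_span hf).2 hua)) c h0) hgM fun hmem => ?_
  obtain ⟨t, ht⟩ := Submodule.mem_span_singleton.1 hmem
  refine hg (mem_stab_span (t := t) (fun h => ha0 ?_) ht.symm)
  rw [h, zero_smul] at ht
  exact gl_mulVec_eq_zero.1 ht.symm

end CfsgLib.Perm.Trans.UnitThree
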