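import Mathlib

/-!
# The arithmetic of the index of an overgroup of a Singer normaliser in dimension three

`k` and `j` are congruent to one modulo the reduced order of the Singer group and multiply to the index.
-/

set_option autoImplicit false
set_option linter.all false

namespace CfsgLib.Perm.Trans.UnitThree

theorem arith_small_one_aux : (List.range 10).all (fun q => (List.range 37).all fun a => (List.range 37).all fun b =>
    !(3 * (q * q - q + 1) * a * b + 3 * (a + b) + 4 * q + 5 == (q * q - q + 1) * ((q + 1) * (q + 2))) ||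
      a == 0 || b == 0 || q == 3 || q == 6 || (q == 4 && a == 3 && b == 3)) = true := by
  decide +kernel

theorem arith_small_one (q : ℕ) (hq : q < 10) (a : ℕ) (ha : a < 37) (b : ℕ) (hb : b < 37)
    (h : 3 * (q * q - q + 1) * a * b + 3 * (a + b) + 4 * q + 5 = (q * q - q + 1) * ((q + 1) * (q + 2)))
    (ha1 : 1 ≤ a) (hb1 : 1 ≤ b) : q = 3 ∨ q = 6 ∨ (q = 4 ∧ a = 3 ∧ b = 3) := by
  have h0 := List.all_eq_true.1 (List.all_eq_true.1 (List.all_eq_true.1 arith_small_one_aux q
    (List.mem_range.2 hq)) a (List.mem_range.2 ha)) b (List.mem_range.2 hb)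
  simp only [Bool.or_eq_true, Bool.and_eq_true, Bool.not_eq_true', beq_eq_false_iff_ne, beq_iff_eq] at h0
  omega

/-- the discriminant test -/
def testThree (q t : ℕ) : Bool :=
  let S := (q * q - q + 1) / 3 * t - (4 * q + 5)
  let P := 3 * (q + 1) * (q + 2) - t
  let D := S * S - 4 * P
  decide ((q * q - q + 1) / 3 * t < 4 * q + 5) || decide (3 * (q + 1) * (q + 2) < t) || decide (S * S < 4 * P) ||
    !(Nat.sqrt D * Nat.sqrt D == D) || decide (P + 1 < S) || q == 2 || q == 5 || q == 14 || q == 35 || (q == 8 && t == 5)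

theorem arith_small_three_aux : (List.range 134).all (fun i => (List.range 30).all fun t => testThree (3 * i + 2) t) = true := by
  decide +kernel

theorem arith_small_three (q : ℕ) (hq : q < 400) (h3 : q % 3 = 2) (t : ℕ) (ht : t < 30)
    (h1 : 4 * q + 5 ≤ (q * q - q + 1) / 3 * t) (h2 : t ≤ 3 * (q + 1) * (q + 2))
    (h4 : 4 * (3 * (q + 1) * (q + 2) - t) ≤
      ((q * q - q + 1) / 3 * t - (4 * q + 5)) * ((q * q - q + 1) / 3 * t - (4 * q + 5)))
    (h5 : Nat.sqrt (((q * q - q + 1) / 3 * t - (4 * q + 5)) * ((q * q - q + 1) / 3 * t - (4 * q + 5)) -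
      4 * (3 * (q + 1) * (q + 2) - t)) ^ 2 = ((q * q - q + 1) / 3 * t - (4 * q + 5)) *
      ((q * q - q + 1) / 3 * t - (4 * q + 5)) - 4 * (3 * (q + 1) * (q + 2) - t))
    (h6 : ((q * q - q + 1) / 3 * t - (4 * q + 5)) ≤ 3 * (q + 1) * (q + 2) - t + 1) :
    q = 2 ∨ q = 5 ∨ q = 14 ∨ q = 35 ∨ (q = 8 ∧ t = 5) := by
  obtain ⟨i, rfl⟩ : ∃ i, q = 3 * i + 2 := ⟨q / 3, by omega⟩
  have h0 := List.all_eq_true.1 (List.all_eq_true.1 arith_small_three_aux i (List.mem_range.2 (by omega))) t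
    (List.mem_range.2 ht)
  rw [testThree, sq] at *
  simp only [Bool.or_eq_true, Bool.and_eq_true, Bool.not_eq_true', beq_eq_false_iff_ne, beq_iff_eq,
    decide_eq_true_eq, not_lt.2 h1, not_lt.2 h2, not_lt.2 h4, not_lt.2 h6, false_or, h5, ne_eq, not_true_eq_false] at h0
  omega

/-- no large solutions when three does not divide the order of the Singer group -/
theorem arith_one {q a b : ℕ} (hq : 2 ≤ q) (ha : 1 ≤ a) (hb : 1 ≤ b)
    (h : 3 * (q * q - q + 1) * a * b + 3 * (a + b) + 4 * q + 5 = (q * q - q + 1) * ((q + 1) * (q + 2))) :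
    q = 3 ∨ q = 6 ∨ (q = 4 ∧ a = 3 ∧ b = 3) := by
  obtain ⟨n, hn⟩ : ∃ n, n = q * q - q + 1 := ⟨_, rfl⟩
  have hqq : q ≤ q * q := Nat.le_mul_self q
  have hn' : n + q = q * q + 1 := by omega
  rw [← hn] at h
  have hab : a + b ≤ a * b + 1 := by nlinarith
  have hP : 3 * (a * b) < (q + 1) * (q + 2) := by
    by_contra hcon
    push Not at hcon
    nlinarith
  rcases Nat.lt_or_ge q 10 with hlt | hge
  · subst hn
    refine arith_small_one q hlt a ?_ b ?_ h ha hb <;> nlinarith
  exfalso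
  obtain ⟨t, ht⟩ : ∃ t, t = (q + 1) * (q + 2) - 3 * (a * b) := ⟨_, rfl⟩
  have ht' : t + 3 * (a * b) = (q + 1) * (q + 2) := by omega
  have hS : 3 * (a + b) + 4 * q + 5 = n * t := by
    have e : n * ((q + 1) * (q + 2)) = n * t + 3 * n * a * b := by rw [← ht']; ring
    omega
  have ht2 : t < 2 := by nlinarith
  have ht1 : t = 1 := by
    rcases Nat.eq_zero_or_pos t with e | e
    · rw [e, mul_zero] at hS; omega
    · omega
  subst ht1
  rw [mul_one] at hS
  have key : ∀ r : ℕ, r < 3 → (r * r + r + 2) % 3 = 0 → False := by decide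
  refine key (q % 3) (Nat.mod_lt _ (by norm_num)) ?_
  have h1 : (q * q + 1) % 3 = (3 * (a + b) + 5 * q + 5) % 3 := by omega
  have e2 : (q * q) % 3 = (q % 3 * (q % 3)) % 3 := Nat.mul_mod q q 3
  omega

/-- large values of `q` when three divides the order of the Singer group -/
theorem arith_three_large {q a b t : ℕ} (hq : 400 ≤ q) (ha : 1 ≤ a) (hab : a ≤ b)
    (hS : 3 * (a + b) + 12 * q + 15 + t * q = t * (q * q + 1)) (hP : a * b + t = 3 * (q + 1) * (q + 2)) : False := by
  have hS' : ((3 : ℤ) * (a + b) + 12 * q + 15) = t * (q * q - q + 1) := by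
    have : ((3 * (a + b) + 12 * q + 15 + t * q : ℕ) : ℤ) = ((t * (q * q + 1) : ℕ) : ℤ) := by rw [hS]
    push_cast at this
    linarith
  have hP' : ((a : ℤ) * b + t) = 3 * (q + 1) * (q + 2) := by exact_mod_cast hP
  have hqz : (400 : ℤ) ≤ q := by exact_mod_cast hq
  have haz : (1 : ℤ) ≤ a := by exact_mod_cast ha
  have habz : (a : ℤ) ≤ b := by exact_mod_cast hab
  have ht0 : (1 : ℤ) ≤ t := by
    rcases Nat.eq_zero_or_pos t with e | e
    · subst e; simp at hS
    · exact_mod_cast e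
  have ht12 : (t : ℤ) ≤ 12 := by
    by_contra hcon
    push Not at hcon
    nlinarith [mul_nonneg (sub_nonneg.2 haz) (sub_nonneg.2 (haz.trans habz)),
      mul_nonneg (sub_nonneg.2 (Int.add_one_le_iff.2 hcon)) (mul_self_nonneg ((q : ℤ) - 1)),
      mul_nonneg (sub_nonneg.2 (Int.add_one_le_iff.2 hcon)) (le_trans (by norm_num) hqz : (0 : ℤ) ≤ q)]
  have hat : (a : ℤ) * t ≤ 22 := by
    by_contra hcon
    push Not at hcon
    have h1 : (a : ℤ) * (t * (q * q - q + 1) - 12 * q - 15) ≤ 6 * (a * b) := by nlinarith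
    nlinarith
  have ha22 : (a : ℤ) ≤ 22 := le_trans (le_mul_of_one_le_right (by linarith) ht0) hat
  have heq : ((a : ℤ) * t - 9) * (q * q) - (a * t + 12 * a + 27) * q + (a * t - 15 * a - 3 * a * a + 3 * t - 18) = 0 := by
    linear_combination (-(a : ℤ)) * hS' + 3 * hP'
  have hc1 : (a : ℤ) * t - 15 * a - 3 * a * a + 3 * t - 18 ≤ 100 := by nlinarith
  have hc2 : (-2500 : ℤ) ≤ a * t - 15 * a - 3 * a * a + 3 * t - 18 := by nlinarith
  have hL : (a : ℤ) * t + 12 * a + 27 ≤ 313 := by linarith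
  rcases lt_trichotomy ((a : ℤ) * t) 9 with h9 | h9 | h9
  · nlinarith
  · rw [h9, sub_self, zero_mul] at heq
    nlinarith
  · nlinarith

/-- no large solutions when three divides the order of the Singer group -/
theorem arith_three {q a b : ℕ} (hq : q % 3 = 2) (ha : 1 ≤ a) (hab : a ≤ b)
    (h : (q * q - q + 1) * (a * b) + 3 * (a + b) + 12 * q + 15 = 3 * (q * q - q + 1) * ((q + 1) * (q + 2))) :
    q = 2 ∨ q = 5 ∨ q = 14 ∨ q = 35 ∨ (q = 8 ∧ a = 5 ∧ b = 53) := by
  obtain ⟨n, hn⟩ : ∃ n, n = q * q - q + 1 := ⟨_, rfl⟩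
  have hqq : q ≤ q * q := Nat.le_mul_self q
  have hn' : n + q = q * q + 1 := by omega
  rw [← hn] at h
  have hb : 1 ≤ b := ha.trans hab
  have hP : a * b < 3 * ((q + 1) * (q + 2)) := by
    by_contra hcon
    push Not at hcon
    nlinarith
  obtain ⟨t, ht⟩ : ∃ t, t = 3 * ((q + 1) * (q + 2)) - a * b := ⟨_, rfl⟩
  have ht' : t + a * b = 3 * ((q + 1) * (q + 2)) := by omega
  have hS : 3 * (a + b) + 12 * q + 15 = n * t := by
    have e : 3 * n * ((q + 1) * (q + 2)) = n * t + n * (a * b) := by rw [← mul_add, ht']; ring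
    omega
  rcases Nat.lt_or_ge q 400 with hlt | hge
  swap
  · refine (arith_three_large (t := t) hge ha hab ?_ ?_).elim
    · rw [hS, ← hn', mul_add]; ring
    · rw [add_comm, ht']; ring
  have hn3 : 3 * ((q * q - q + 1) / 3) = n := by
    rw [← hn]
    refine Nat.mul_div_cancel' (Nat.dvd_of_mod_eq_zero ?_)
    have e2 : (q * q) % 3 = (q % 3 * (q % 3)) % 3 := Nat.mul_mod q q 3
    rw [hq] at e2
    omega
  have hab' : a + b ≤ a * b + 1 := by nlinarith
  have hSm : (q * q - q + 1) / 3 * t - (4 * q + 5) = a + b := by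
    have e : n * t = 3 * ((q * q - q + 1) / 3 * t) := by rw [← hn3]; ring
    omega
  have hPm : 3 * (q + 1) * (q + 2) - t = a * b := by rw [mul_assoc]; omega
  have ht30 : t < 30 := by
    by_contra hcon
    push Not at hcon
    nlinarith [Nat.mul_le_mul hcon (le_refl n)]
  obtain ⟨c, rfl⟩ := Nat.exists_eq_add_of_le hab
  have hD : (a + (a + c)) * (a + (a + c)) - 4 * (a * (a + c)) = c * c := by
    rw [Nat.sub_eq_iff_eq_add (by nlinarith)]; ring
  rcases arith_small_three q hlt hq t ht30 (by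
      have e : n * t = 3 * ((q * q - q + 1) / 3 * t) := by rw [← hn3]; ring
      omega) (by rw [mul_assoc]; omega) (by rw [hSm, hPm]; nlinarith)
      (by rw [hSm, hPm, hD, Nat.sqrt_eq, sq]) (by rw [hSm, hPm]; omega) with e | e | e | e | ⟨e, e'⟩
  · exact Or.inl e
  · exact Or.inr (Or.inl e)
  · exact Or.inr (Or.inr (Or.inl e))
  · exact Or.inr (Or.inr (Or.inr (Or.inl e)))
  · subst e e'
    refine Or.inr (Or.inr (Or.inr (Or.inr ⟨rfl, ?_⟩)))
    norm_num at hn
    subst hn
    have h1 : 2 * a + c = 58 := by omega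
    have h2 : a * (a + c) = 265 := by omega
    have h3 : a < 30 := by omega
    have hall : (List.range 30).all (fun a => decide (a * (a + (58 - 2 * a)) ≠ 265) || a == 5) = true := by
      decide +kernel
    have h0 := List.all_eq_true.1 hall a (List.mem_range.2 h3)
    simp only [Bool.or_eq_true, decide_eq_true_eq, beq_iff_eq] at h0
    obtain rfl : c = 58 - 2 * a := by omega
    rcases h0 with h0 | h0
    · exact absurd h2 h0
    · omega

/-- the index of an overgroup of a Singer normaliser -/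
theorem singer_arith {q k j N : ℕ} (hq3 : 3 ≤ q) (hN : N = (q * q - q + 1) / Nat.gcd 3 (q + 1))
    (hk : k % N = 1) (hj : j % N = 1) (hkj : 3 * (k * j) = q ^ 3 * (q + 1) ^ 2 * (q - 1)) :
    k = 1 ∨ j = 1 ∨ q = 3 ∨ q = 5 ∨ q = 6 ∨ q = 14 ∨ q = 35 ∨ (q = 4 ∧ k = 40) ∨
      (q = 8 ∧ (k = 96 ∨ k = 1008)) := by
  by_cases hk1 : k = 1
  · exact Or.inl hk1
  by_cases hj1 : j = 1
  · exact Or.inr (Or.inl hj1)
  refine Or.inr (Or.inr ?_)
  obtain ⟨a, rfl⟩ : ∃ a, k = 1 + a * N := ⟨k / N, by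
    have := Nat.div_add_mod k N
    rw [hk, mul_comm] at this
    omega⟩
  obtain ⟨b, rfl⟩ : ∃ b, j = 1 + b * N := ⟨j / N, by
    have := Nat.div_add_mod j N
    rw [hj, mul_comm] at this
    omega⟩
  have ha : 1 ≤ a := Nat.one_le_iff_ne_zero.2 fun e => hk1 (by rw [e, zero_mul, add_zero])
  have hb : 1 ≤ b := Nat.one_le_iff_ne_zero.2 fun e => hj1 (by rw [e, zero_mul, add_zero])
  obtain ⟨n, hn⟩ : ∃ n, n = q * q - q + 1 := ⟨_, rfl⟩
  obtain ⟨r, rfl⟩ : ∃ r, q = r + 1 := ⟨q - 1, by omega⟩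
  have hn' : (r + 1) * (r + 1) - (r + 1) + 1 = r * r + r + 1 := by
    have : (r + 1) * (r + 1) = r * r + r + (r + 1) := by ring
    omega
  rw [Nat.add_sub_cancel] at hkj
  have hfactor : (r + 1) ^ 3 * (r + 1 + 1) ^ 2 * r + (r * r + r + 1) * (4 * (r + 1) + 5) =
      3 + (r * r + r + 1) * ((r * r + r + 1) * ((r + 1 + 1) * (r + 1 + 2))) := by ring
  rw [hn'] at hn hN
  have hn0 : 0 < r * r + r + 1 := by omega
  rcases (Nat.dvd_prime Nat.prime_three).1 (Nat.gcd_dvd_left 3 (r + 1 + 1)) with hd | hd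
  · rw [hd, Nat.div_one] at hN
    subst hN
    have h : 3 * ((r + 1) * (r + 1) - (r + 1) + 1) * a * b + 3 * (a + b) + 4 * (r + 1) + 5 =
        ((r + 1) * (r + 1) - (r + 1) + 1) * ((r + 1 + 1) * (r + 1 + 2)) := by
      rw [hn']
      refine Nat.eq_of_mul_eq_mul_left hn0 ?_
      rw [← hkj] at hfactor
      linarith
    rcases arith_one (by omega) ha hb h with e | e | ⟨e, rfl, rfl⟩
    · exact Or.inl e
    · exact Or.inr (Or.inr (Or.inl e))
    · refine Or.inr (Or.inr (Or.inr (Or.inr (Or.inr (Or.inl ⟨e, ?_⟩)))))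
      obtain rfl : r = 3 := by omega
      norm_num
  · rw [hd] at hN
    have hmod : (r + 1) % 3 = 2 := by
      have := Nat.dvd_iff_mod_eq_zero.1 (hd ▸ Nat.gcd_dvd_right 3 (r + 1 + 1))
      omega
    have hN3 : 3 * N = r * r + r + 1 := by
      rw [hN]
      refine Nat.mul_div_cancel' (Nat.dvd_of_mod_eq_zero ?_)
      have hr : r % 3 = 1 := by omega
      have e2 : (r * r) % 3 = (r % 3 * (r % 3)) % 3 := Nat.mul_mod r r 3
      rw [hr] at e2
      omega
    have h : ((r + 1) * (r + 1) - (r + 1) + 1) * (a * b) + 3 * (a + b) + 12 * (r + 1) + 15 =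
        3 * ((r + 1) * (r + 1) - (r + 1) + 1) * ((r + 1 + 1) * (r + 1 + 2)) := by
      rw [hn']
      refine Nat.eq_of_mul_eq_mul_left hn0 ?_
      have e1 : (1 + a * N) * (1 + b * N) * 9 =
          9 + 3 * (a + b) * (3 * N) + a * b * (3 * N) * (3 * N) := by ring
      rw [← hkj, hN3] at *
      linarith
    have h' : ((r + 1) * (r + 1) - (r + 1) + 1) * (b * a) + 3 * (b + a) + 12 * (r + 1) + 15 =
        3 * ((r + 1) * (r + 1) - (r + 1) + 1) * ((r + 1 + 1) * (r + 1 + 2)) := by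
      rw [mul_comm b a, add_comm b a]; exact h
    rcases le_total a b with hab | hab
    · rcases arith_three hmod ha hab h with e | e | e | e | ⟨e, rfl, rfl⟩
      · omega
      · exact Or.inr (Or.inl e)
      · exact Or.inr (Or.inr (Or.inr (Or.inl e)))
      · exact Or.inr (Or.inr (Or.inr (Or.inr (Or.inl e))))
      · refine Or.inr (Or.inr (Or.inr (Or.inr (Or.inr (Or.inr ⟨e, Or.inl ?_⟩)))))
        obtain rfl : r = 7 := by omega
        omega
    · rcases arith_three hmod hb hab h' with e | e | e | e | ⟨e, rfl, rfl⟩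
      · omega
      · exact Or.inr (Or.inl e)
      · exact Or.inr (Or.inr (Or.inr (Or.inl e)))
      · exact Or.inr (Or.inr (Or.inr (Or.inr (Or.inl e))))
      · refine Or.inr (Or.inr (Or.inr (Or.inr (Or.inr (Or.inr ⟨e, Or.inr ?_⟩)))))
        obtain rfl : r = 7 := by omega
        omega

end CfsgLib.Perm.Trans.UnitThree
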