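import Cfsg.Agent.Lib.Perm.Trans.UnitThree.SingerBase
import Cfsg.Agent.Lib.Perm.Trans.UnitThree.SingerArith
import Cfsg.Agent.Lib.PGroup.UnitThreeIndex.Orbits

/-!
# The index of an overgroup of a Singer normaliser in the three-dimensional special unitary group

The Singer group acts semiregularly on the other cosets of the normaliser, so the index of the normaliser in an
overgroup is congruent to one; this leaves only the fields with sixteen and sixty-four elements.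
-/

set_option autoImplicit false
set_option linter.all false

namespace CfsgLib.Perm.Trans.UnitThree

open scoped Matrix
open Matrix Cfsg Cfsg.Geo CfsgLib.Perm.Asch CfsgLib.Perm.Trans

variable {F : Type*} [Field F] [Fintype F] {q : ℕ} {K : Subalgebra F (Matrix (Fin 3) (Fin 3) F)}

local notation "M3" => Matrix (Fin 3) (Fin 3) F
local notation "G3" => GL (Fin 3) F

/-- the normaliser of the field in the special unitary group -/
abbrev norK (K : Subalgebra F M3) (q : ℕ) : Subgroup G3 := subalgebraNormalizer K ⊓ suG F q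

omit [Fintype F] in
theorem cyc_le (hK : IsFieldSubalgebra 3 K) : cyc K q ≤ norK K q := by
  refine fun g hg => ⟨fun k => ⟨fun hk => ?_, fun hk => ?_⟩, hg.2⟩
  · exact K.mul_mem (K.mul_mem hg.1.1 hk) hg.1.2
  · have := K.mul_mem (K.mul_mem hg.1.2 hk) hg.1.1
    simpa [mul_assoc] using this

/-- a field of degree three has a nonscalar element -/
theorem exists_nonscalar (hK : IsFieldSubalgebra 3 K) : ∃ k ∈ K, ∀ c : F, k ≠ c • 1 := by
  by_contra hcon
  push Not at hcon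
  have h1 : Module.finrank F K ≤ 1 := finrank_le_one (R := F) (1 : K) fun k => by
    obtain ⟨c, hc⟩ := hcon _ k.2
    exact ⟨c, Subtype.ext (by simpa using hc.symm)⟩
  rw [hK.finrank_eq] at h1
  omega

/-- an element of the Singer group fixing another coset has scalar cube -/
theorem Sing.fix_coset (D : Sing q K) {x g : G3} (hx : x ∈ cyc K q) (hg : g ∈ suG F q) (hgn : g ∉ norK K q)
    (hy : g⁻¹ * x * g ∈ norK K q) : ∃ c : F, ((x ^ 3 : G3) : M3) = c • 1 := by
  by_contra hns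
  push Not at hns
  have hxns : ∀ c : F, (x : M3) ≠ c • 1 := fun c hc => hns (c ^ 3) (by
    rw [Units.val_pow_eq_pow_val, hc, smul_pow, one_pow])
  obtain ⟨hq6, -, hact⟩ := D.frob
  obtain ⟨i, -, hi⟩ := hact _ hy.1
  obtain ⟨y, hydef⟩ : ∃ y, y = g⁻¹ * x * g := ⟨_, rfl⟩
  rw [← hydef] at hi
  have hcj : ∀ k ∈ K, cj (y ^ 3) k = k := fun k hk => by
    have e : ∀ k ∈ K, cj y k = k ^ (q ^ 2) ^ i := hi
    rw [pow_succ, pow_two, ← cj_cj, ← cj_cj, e k hk, e _ (K.pow_mem hk _), e _ (K.pow_mem (K.pow_mem hk _) _),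
      ← pow_mul, ← pow_mul, ← pow_add, ← pow_add, show (q ^ 2) ^ (i + (i + i)) = (q ^ 6) ^ i by
        rw [← pow_mul, ← pow_mul]; ring_nf]
    suffices h : ∀ n, k ^ (q ^ 6) ^ n = k from h i
    intro n
    induction n with
    | zero => rw [pow_zero, pow_one]
    | succ n ih => rw [pow_succ, mul_comm, pow_mul, hq6 k hk, ih]
  have hy3 : ((y ^ 3 : G3) : M3) ∈ K := mem_of_commute D.field hx.1.1 hxns (by
    have h := hcj _ hx.1.1
    have h' := congrArg (fun m => m * ((y ^ 3 : G3) : M3)) h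
    simpa [cj, mul_assoc] using h')
  have hyns : ∀ c : F, ((y ^ 3 : G3) : M3) ≠ c • 1 := fun c hc => hns c (by
    have hx3 : x ^ 3 = g * y ^ 3 * g⁻¹ := by rw [hydef, ← conj_pow]; group
    rw [hx3, Units.val_mul, Units.val_mul, hc, Matrix.mul_smul, mul_one, Matrix.smul_mul, Units.mul_inv])
  have hx3K : ((x ^ 3 : G3) : M3) ∈ K := by
    rw [Units.val_pow_eq_pow_val]
    exact K.pow_mem hx.1.1 3
  have hrel : y ^ 3 = g⁻¹ * x ^ 3 * g := by
    rw [hydef]; have := conj_pow (i := 3) (a := g⁻¹) (b := x); rw [inv_inv] at this; exact this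
  refine hgn ⟨fun k => ⟨fun hk => ?_, fun hk => ?_⟩, hg⟩
  · refine mem_of_commute D.field hx3K hns ?_
    have h := D.field.comm k hk _ hy3
    have h' : cj g (k * ((y ^ 3 : G3) : M3)) = cj g (((y ^ 3 : G3) : M3) * k) := by rw [h]
    rw [cj_mul, cj_mul] at h'
    have e : cj g ((y ^ 3 : G3) : M3) = ((x ^ 3 : G3) : M3) := by
      rw [hrel, cj, ← Units.val_mul, ← Units.val_mul]
      exact congrArg Units.val (by group)
    rw [e] at h'
    exact h'
  · have hk' : k = cj g⁻¹ (cj g k) := (cj_inv_cj g k).symm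
    rw [hk']
    refine mem_of_commute D.field hy3 hyns ?_
    have h := D.field.comm _ hk _ hx3K
    have h' : cj g⁻¹ (cj g k * ((x ^ 3 : G3) : M3)) = cj g⁻¹ (((x ^ 3 : G3) : M3) * cj g k) :=
      congrArg (cj g⁻¹) h
    generalize cj g k = m at h' ⊢
    rw [cj_mul, cj_mul] at h'
    have e : cj g⁻¹ ((x ^ 3 : G3) : M3) = ((y ^ 3 : G3) : M3) := by
      rw [hrel, cj, inv_inv, ← Units.val_mul, ← Units.val_mul]
    rw [e] at h'
    exact h'

omit [Fintype F] in
theorem gcd_nine (q : ℕ) : Nat.gcd 9 (q ^ 2 - q + 1) ∣ Nat.gcd 3 (q + 1) ∧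
    Nat.gcd 3 (q + 1) ∣ q ^ 2 - q + 1 := by
  have hq : q ≤ q ^ 2 := Nat.le_self_pow two_ne_zero q
  have key : ∀ r < 9, Nat.gcd 9 ((r ^ 2 + 8 * r + 1) % 9) ∣ Nat.gcd 3 ((r + 1) % 3) ∧
      Nat.gcd 3 ((r + 1) % 3) ∣ (r ^ 2 + 8 * r + 1) % 9 := by decide
  have e1 : (q ^ 2 - q + 1) % 9 = ((q % 9) ^ 2 + 8 * (q % 9) + 1) % 9 := by
    have h1 : q ^ 2 % 9 = (q % 9) ^ 2 % 9 := Nat.pow_mod q 2 9
    omega
  have e2 : (q + 1) % 3 = (q % 9 + 1) % 3 := by omega
  obtain ⟨h1, h2⟩ := key (q % 9) (Nat.mod_lt _ (by norm_num))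
  rw [← e1, ← e2] at h1 h2
  have g1 : ∀ a b : ℕ, Nat.gcd a (b % a) = Nat.gcd a b := fun a b => by
    rw [Nat.gcd_comm a (b % a), ← Nat.gcd_rec]
  rw [g1] at h1 h2
  rw [g1] at h1
  refine ⟨h1, (Nat.dvd_mod_iff ((Nat.gcd_dvd_left _ _).trans (by norm_num))).1 h2⟩

/-- the cube of a nonscalar element of the Singer group -/
theorem Sing.stab_dvd (D : Sing q K) {S : Subgroup G3} (hS : S ≤ cyc K q)
    (h : ∀ x ∈ S, ∃ c : F, ((x ^ 3 : G3) : M3) = c • 1) : Nat.card S ∣ Nat.gcd 3 (q + 1) := by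
  obtain ⟨-, hcard⟩ := D.card_cyc
  obtain ⟨h9, -⟩ := gcd_nine q
  refine (hcard _ (Nat.gcd_pos_of_pos_left _ (by norm_num)) (Nat.gcd_dvd_right 9 _) S hS fun x hx => ?_).trans h9
  obtain ⟨c, hc⟩ := h x hx
  have h9' : x ^ 9 = 1 := Units.ext (by
    have hdet : ((x ^ 3 : G3) : M3).det = 1 := (mem_suG.1 (pow_mem (hS hx).2 3)).2
    rw [hc, Matrix.det_smul, Matrix.det_one, mul_one, Fintype.card_fin] at hdet
    rw [show (9 : ℕ) = 3 * 3 from rfl, pow_mul, Units.val_pow_eq_pow_val, hc, smul_pow, hdet, one_pow, one_smul,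
      Units.val_one])
  exact pow_gcd_eq_one.2 ⟨h9', (D.mem_cyc.1 (hS hx)).2⟩

/-- the index in an overgroup is congruent to one -/
theorem Sing.relIndex_mod (D : Sing q K) {M : Subgroup G3} (hKM : norK K q ≤ M) (hM : M ≤ suG F q) :
    ((norK K q).relIndex M : ZMod ((q ^ 2 - q + 1) / Nat.gcd 3 (q + 1))) = 1 := by
  classical
  obtain ⟨d, hd⟩ : ∃ d, d = Nat.gcd 3 (q + 1) := ⟨_, rfl⟩
  obtain ⟨N, hN⟩ : ∃ N, N = (q ^ 2 - q + 1) / Nat.gcd 3 (q + 1) := ⟨_, rfl⟩
  rw [← hN]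
  have hNd : q ^ 2 - q + 1 = N * d := by rw [hN, hd, Nat.div_mul_cancel (gcd_nine q).2]
  have hd0 : 0 < d := hd ▸ Nat.gcd_pos_of_pos_left _ (by norm_num)
  have hCM : cyc K q ≤ M := (cyc_le D.field).trans hKM
  let Ω := M ⧸ (norK K q).subgroupOf M
  letI : MulAction (cyc K q) Ω := MulAction.compHom Ω (Subgroup.inclusion hCM)
  haveI : Fintype Ω := Fintype.ofFinite Ω
  let ω₁ : Ω := ((1 : M) : Ω)
  have hfix : ∀ x : cyc K q, x • ω₁ = ω₁ := fun x => by
    show ((Subgroup.inclusion hCM x * 1 : M) : Ω) = ω₁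
    rw [mul_one, QuotientGroup.eq, Subgroup.mem_subgroupOf, mul_one]
    exact inv_mem (cyc_le D.field x.2)
  have horb : ∀ ω : Ω, ω ≠ ω₁ → N ∣ Nat.card (MulAction.orbit (cyc K q) ω) := by
    intro ω hω
    induction ω using QuotientGroup.induction_on with
    | _ g =>
    have hgn : (g : G3) ∉ norK K q := fun h => hω (by
      rw [QuotientGroup.eq, Subgroup.mem_subgroupOf, mul_one]
      exact inv_mem h)
    have hdiv : Nat.card (MulAction.stabilizer (cyc K q) (g : Ω)) ∣ d := by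
      rw [hd, ← Subgroup.card_map_of_injective (Subgroup.subtype_injective (cyc K q))]
      refine D.stab_dvd (Subgroup.map_subtype_le _) ?_
      rintro _ ⟨x, hx, rfl⟩
      refine D.fix_coset x.2 (hM g.2) hgn ?_
      have h : ((Subgroup.inclusion hCM x * g : M) : Ω) = (g : Ω) := hx
      rw [QuotientGroup.eq, Subgroup.mem_subgroupOf] at h
      have h' := inv_mem h
      simpa [mul_assoc] using h'
    have hmul := MulAction.card_orbit_mul_card_stabilizer_eq_card_group (cyc K q) (g : Ω)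
    rw [← Nat.card_eq_fintype_card, ← Nat.card_eq_fintype_card, ← Nat.card_eq_fintype_card, D.card_cyc.1,
      hNd] at hmul
    obtain ⟨e, he⟩ := hdiv
    refine ⟨e, Nat.eq_of_mul_eq_mul_right (Nat.pos_of_ne_zero fun h0 => ?_) (hmul.trans (by rw [he]; ring))⟩
    rw [h0, zero_mul] at he
    omega
  have hsum : Nat.card Ω = ∑ o : MulAction.orbitRel.Quotient (cyc K q) Ω, Nat.card (MulAction.orbit (cyc K q) o.out) := by
    rw [Nat.card_congr (MulAction.selfEquivSigmaOrbits (cyc K q) Ω), Nat.card_sigma]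
  have hrel : (norK K q).relIndex M = Nat.card Ω := rfl
  rw [hrel, hsum, Nat.cast_sum, Finset.sum_eq_single (Quotient.mk'' ω₁)]
  · have hmem : (Quotient.mk'' ω₁ : MulAction.orbitRel.Quotient (cyc K q) Ω).out ∈
        MulAction.orbit (cyc K q) ω₁ := Quotient.mk_out' (s₁ := MulAction.orbitRel (cyc K q) Ω) ω₁
    have hone : MulAction.orbit (cyc K q) ω₁ = {ω₁} :=
      Set.eq_singleton_iff_unique_mem.2 ⟨MulAction.mem_orbit_self _, fun z ⟨x, hx⟩ => hx ▸ hfix x⟩
    rw [hone, Set.mem_singleton_iff] at hmem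
    rw [hmem, hone, Nat.card_coe_set_eq, Set.ncard_singleton, Nat.cast_one]
  · intro o _ ho
    rw [ZMod.natCast_eq_zero_iff]
    refine horb _ fun h => ho ?_
    rw [← Quotient.out_eq' o, h]
  · exact fun h => absurd (Finset.mem_univ _) h

/-- the order of the special unitary group -/
theorem card_suG (hF : Fintype.card F = q ^ 2) : Nat.card (suG F q) = q ^ 3 * ((q ^ 2 - 1) * (q ^ 3 + 1)) := by
  obtain ⟨C⟩ := Unit.ctx_of_card hF
  rw [← CfsgLib.PGroup.UnitThreeIndex.card_su3 C hF]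
  refine Nat.card_congr (Equiv.ofBijective (fun g => ⟨⟨(g : G3).1, (mem_suG.1 g.2).2⟩, fun u v => (mem_suG.1 g.2).1 u v⟩)
    ⟨fun a b h => Subtype.ext (Units.ext (congrArg (fun z : ↥(Cfsg.SU 3 F q) => z.1.1) h)), fun A => ?_⟩)
  exact ⟨⟨Matrix.SpecialLinearGroup.toGL A.1, mem_suG.2 ⟨fun u v => A.2 u v, A.1.2⟩⟩, Subtype.ext (Subtype.ext rfl)⟩

/-- the normaliser has at most three cosets of the Singer group -/
theorem Sing.relIndex_cyc_le (D : Sing q K) : (cyc K q).relIndex (norK K q) ≤ 3 := by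
  classical
  obtain ⟨-, -, hact⟩ := D.frob
  obtain ⟨k₀, hk₀, hk₀ns⟩ := exists_nonscalar D.field
  choose i hi3 hi using fun a : norK K q => hact a.1 a.2.1
  let f : norK K q ⧸ (cyc K q).subgroupOf (norK K q) → Fin 3 := fun o => ⟨i o.out, hi3 _⟩
  have hinj : Function.Injective f := by
    intro a b h
    have hab : i a.out = i b.out := congrArg Fin.val h
    rw [← Quotient.out_eq' a, ← Quotient.out_eq' b]
    refine QuotientGroup.eq.2 ?_
    rw [Subgroup.mem_subgroupOf]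
    obtain ⟨u, hu⟩ : ∃ u, u = ((a.out⁻¹ * b.out : norK K q) : G3) := ⟨_, rfl⟩
    rw [← hu]
    have h1 : cj u k₀ = k₀ := by
      have e : cj (a.out : G3) k₀ = cj (b.out : G3) k₀ := by
        show ((a.out : G3) : M3) * k₀ * _ = ((b.out : G3) : M3) * k₀ * _
        rw [hi _ k₀ hk₀, hi _ k₀ hk₀, hab]
      rw [hu, Subgroup.coe_mul, Subgroup.coe_inv, ← cj_cj, ← e, cj_inv_cj]
    have huK : (u : M3) ∈ K := mem_of_commute D.field hk₀ hk₀ns (by
      have h' := congrArg (fun m => m * (u : M3)) h1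
      simpa [cj, mul_assoc] using h')
    exact ⟨⟨huK, inv_mem_field D.field huK⟩, hu ▸ (a.out⁻¹ * b.out : norK K q).2.2⟩
  have := Nat.card_le_card_of_injective f hinj
  rwa [Nat.card_fin] at this

theorem card_mul_relIndex' {G : Type*} [Group G] {H L : Subgroup G} (h : H ≤ L) :
    Nat.card H * H.relIndex L = Nat.card L := by
  rw [← Subgroup.relIndex_bot_left, ← Subgroup.relIndex_bot_left, Subgroup.relIndex_mul_relIndex _ _ _ bot_le h]

/-- the possible overgroups -/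
theorem Sing.overgroup_cases (D : Sing q K) (hq3 : q ≠ 3) (hq5 : q ≠ 5) (hq : 3 ≤ q) {M : Subgroup G3}
    (hKM : norK K q ≤ M) (hM : M ≤ suG F q) :
    M = norK K q ∨ M = suG F q ∨ (q = 4 ∧ Nat.card M = 1560) ∨
      (q = 8 ∧ (Nat.card M = 16416 ∨ Nat.card M = 172368)) := by
  obtain ⟨N, hN⟩ : ∃ N, N = (q ^ 2 - q + 1) / Nat.gcd 3 (q + 1) := ⟨_, rfl⟩
  obtain ⟨k, hk⟩ : ∃ k, k = (norK K q).relIndex M := ⟨_, rfl⟩
  obtain ⟨j, hj⟩ : ∃ j, j = M.relIndex (suG F q) := ⟨_, rfl⟩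
  obtain ⟨h, hh⟩ : ∃ h, h = (cyc K q).relIndex (norK K q) := ⟨_, rfl⟩
  have hkj : k * j = (norK K q).relIndex (suG F q) := by rw [hk, hj, Subgroup.relIndex_mul_relIndex _ _ _ hKM hM]
  have e1 : Nat.card (norK K q) = (q ^ 2 - q + 1) * h := by
    rw [← D.card_cyc.1, hh, card_mul_relIndex' (cyc_le D.field)]
  have e2 : Nat.card M = Nat.card (norK K q) * k := by rw [hk, card_mul_relIndex' hKM]
  have e3 : q ^ 3 * ((q ^ 2 - 1) * (q ^ 3 + 1)) = Nat.card M * j := by
    rw [← card_suG D.card, hj, card_mul_relIndex' hM]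
  have hq2 : q ≤ q ^ 2 := Nat.le_self_pow two_ne_zero q
  obtain ⟨n, hn⟩ : ∃ n, n = q ^ 2 - q + 1 := ⟨_, rfl⟩
  have hn' : n + q = q ^ 2 + 1 := by omega
  have hfac : (q ^ 2 - 1) * (q ^ 3 + 1) = n * ((q + 1) ^ 2 * (q - 1)) := by
    have hc : (q + 1) * n = q ^ 3 + 1 := by
      have : (q + 1) * (n + q) = q ^ 3 + 1 + (q + 1) * q := by rw [hn']; ring
      rw [mul_add] at this
      omega
    rw [← hc, ← one_pow 2, Nat.sq_sub_sq]
    ring
  have hA : h * (k * j) = q ^ 3 * (q + 1) ^ 2 * (q - 1) := by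
    rw [hfac, e2, e1, ← hn] at e3
    refine Nat.eq_of_mul_eq_mul_left (show 0 < n by omega) ?_
    linarith
  have hk1 : (k : ZMod N) = 1 := hk ▸ hN ▸ D.relIndex_mod hKM hM
  have hkj1 : ((k * j : ℕ) : ZMod N) = 1 := hkj ▸ hN ▸ D.relIndex_mod inf_le_right le_rfl
  have hj1 : (j : ZMod N) = 1 := by rwa [Nat.cast_mul, hk1, one_mul] at hkj1
  obtain ⟨d, hd⟩ : ∃ d, d = Nat.gcd 3 (q + 1) := ⟨_, rfl⟩
  have hd3 : d ≤ 3 := hd ▸ Nat.le_of_dvd (by norm_num) (Nat.gcd_dvd_left _ _)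
  have hNn : N * d = n := by rw [hN, hd, hn, Nat.div_mul_cancel (gcd_nine q).2]
  have hn13 : 13 ≤ n := by
    have h4 : 4 ≤ q := by omega
    have : q * 4 ≤ q * q := Nat.mul_le_mul_left q h4
    rw [← sq] at this
    omega
  have hN4 : 3 < N := by
    by_contra hcon
    push Not at hcon
    have := Nat.mul_le_mul hcon hd3
    omega
  haveI : Fact (1 < N) := ⟨by omega⟩
  have hh3 : h = 3 := by
    have hle : h ≤ 3 := hh ▸ D.relIndex_cyc_le
    have hn0 : (n : ZMod N) = 0 := by rw [ZMod.natCast_eq_zero_iff]; exact ⟨d, hNn.symm⟩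
    have hcast : ((h * (k * j) : ℕ) : ZMod N) = ((3 : ℕ) : ZMod N) := by
      rw [hA]
      obtain ⟨r, rfl⟩ : ∃ r, q = r + 1 := ⟨q - 1, by omega⟩
      have hnr : n = r * r + r + 1 := by
        have : (r + 1) ^ 2 = r * r + r + (r + 1) := by ring
        omega
      have e : (r + 1) ^ 3 * (r + 1 + 1) ^ 2 * r + n * (4 * (r + 1) + 5) = 3 + n * (n * ((r + 1 + 1) * (r + 1 + 2))) := by
        rw [hnr]; ring
      have := congrArg (fun x : ℕ => (x : ZMod N)) e
      simp only [Nat.cast_add, Nat.cast_mul, hn0, zero_mul, add_zero] at this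
      simpa using this
    rw [Nat.cast_mul, hkj1, mul_one, ZMod.natCast_eq_natCast_iff', Nat.mod_eq_of_lt (by omega),
      Nat.mod_eq_of_lt (by omega)] at hcast
    exact hcast
  have hmod : ∀ a : ℕ, (a : ZMod N) = 1 → a % N = 1 := fun a ha => by
    rw [← Nat.cast_one, ZMod.natCast_eq_natCast_iff', Nat.mod_eq_of_lt (a := 1) (by omega)] at ha
    exact ha
  have hA' : 3 * (k * j) = q ^ 3 * (q + 1) ^ 2 * (q - 1) := hh3 ▸ hA
  have hnp : ∀ a b : ℕ, a.Prime → b.Prime → a ≠ b → a ∣ q → ¬ b ∣ q := by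
    intro a b ha hb hab hda hdb
    obtain ⟨p, hp⟩ := CharP.exists F
    obtain ⟨c, hp', hc⟩ := FiniteField.card F p
    have hdiv : ∀ r : ℕ, r.Prime → r ∣ q → r = p := fun r hr hrq => (Nat.prime_dvd_prime_iff_eq hr hp').1
      (hr.dvd_of_dvd_pow (hc ▸ D.card ▸ hrq.trans (dvd_pow_self q two_ne_zero)))
    exact hab ((hdiv a ha hda).trans (hdiv b hb hdb).symm)
  have hcases := singer_arith hq (show N = (q * q - q + 1) / Nat.gcd 3 (q + 1) by rw [hN, sq]) (hmod k hk1) (hmod j hj1)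
    hA'
  rcases hcases with e | e | e | e | e | e | e | ⟨e, ek⟩ | ⟨e, ek⟩
  · exact Or.inl (le_antisymm (Subgroup.relIndex_eq_one.1 (hk ▸ e)) hKM)
  · exact Or.inr (Or.inl (le_antisymm hM (Subgroup.relIndex_eq_one.1 (hj ▸ e))))
  · exact absurd e hq3
  · exact absurd e hq5
  · exact absurd (show 3 ∣ q by omega) (hnp 2 3 Nat.prime_two Nat.prime_three (by norm_num) (by omega))
  · exact absurd (show 7 ∣ q by omega) (hnp 2 7 Nat.prime_two (by norm_num) (by norm_num) (by omega))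
  · exact absurd (show 7 ∣ q by omega) (hnp 5 7 (by norm_num) (by norm_num) (by norm_num) (by omega))
  · subst e ek
    exact Or.inr (Or.inr (Or.inl ⟨rfl, by rw [e2, e1, hh3]; norm_num⟩))
  · subst e
    refine Or.inr (Or.inr (Or.inr ⟨rfl, ?_⟩))
    rcases ek with rfl | rfl
    · exact Or.inl (by rw [e2, e1, hh3]; norm_num)
    · exact Or.inr (by rw [e2, e1, hh3]; norm_num)

end CfsgLib.Perm.Trans.UnitThree
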