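import Cfsg.Agent.Lib.Perm.Trans.UnitThree.MonoEight
import Cfsg.Agent.Lib.Perm.Trans.UnitThree.MonoArith
import Cfsg.Agent.Lib.Perm.Trans.UnitThree.SingerIndex
import Cfsg.Agent.Lib.Perm.Trans.UnitThree.Points
import Cfsg.Agent.Lib.Perm.Trans.UnitDecomp.Max
import Cfsg.Agent.Lib.PGroup.UnitThreeIndex.Final

/-!
# Stabilisers of orthonormal frames are maximal in the three-dimensional special unitary group
-/

set_option autoImplicit false
set_option linter.all false

namespace CfsgLib.Perm.Trans.UnitThree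

open scoped Matrix
open Matrix Cfsg Cfsg.Geo CfsgLib.Perm.Asch CfsgLib.Perm.Trans CfsgLib.Perm.Trans.Unit CfsgLib.Perm.LinDecomp
open CfsgLib.Perm.Trans.ThreeDim (Idx dg dg_prod exists_idx monoSub)

variable {F : Type*} [Field F] [Fintype F] {q : ℕ}

local notation "M3" => Matrix (Fin 3) (Fin 3) F
local notation "G3" => GL (Fin 3) F
local notation "V3" => Fin 3 → F

theorem mem_sl_three {g : G3} : g ∈ specialLinear (Fin 3) F ↔ (g : M3).det = 1 := by
  show Matrix.GeneralLinearGroup.det g = 1 ↔ _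
  rw [← Units.val_inj, Matrix.GeneralLinearGroup.val_det_apply, Units.val_one]

/-- a subgroup of index at most `q ^ 3` containing the monomial group is everything -/
theorem large_top (hq : 3 ≤ q) (hq5 : q ≠ 5) {σ : F ≃+* F} {M : Subgroup G3}
    (O : Over q σ (hermForm 3 F q) M)
    (hbig : Nat.card (suG F q) ≤ Nat.card M * q ^ 3) : suG F q ≤ M := by
  classical
  have hF := O.toStd.card
  obtain ⟨C⟩ := Unit.ctx_of_card (F := F) hF
  obtain ⟨ι, hι⟩ : ∃ ι : ↥(Cfsg.SU 3 F q) →* G3,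
      ι = (Matrix.SpecialLinearGroup.toGL).comp (Cfsg.SU 3 F q).subtype := ⟨_, rfl⟩
  have hιval : ∀ g, (ι g : M3) = g.1.1 := fun g => by rw [hι]; rfl
  have hιG : ∀ g, ι g ∈ suG F q := fun g => mem_suG.2 ⟨fun u v => by rw [hιval]; exact g.2 u v, by rw [hιval]; exact g.1.2⟩
  have hιinj : Function.Injective ι := fun a b h => Subtype.ext (Subtype.ext (by rw [← hιval, ← hιval, h]))
  have hιsurj : ∀ x ∈ suG F q, ∃ g, ι g = x := fun x hx =>
    ⟨⟨⟨(x : M3), (mem_suG.1 hx).2⟩, fun u v => (mem_suG.1 hx).1 u v⟩, Units.ext (hιval _)⟩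
  obtain ⟨H, hH⟩ : ∃ H : Subgroup ↥(Cfsg.SU 3 F q), H = M.comap ι := ⟨_, rfl⟩
  have hMG : M ≤ suG F q := O.le
  have htop : H = ⊤ := by
    refine CfsgLib.PGroup.UnitThreeIndex.eq_top (C := C) H hF hq hq5 ?_ fun z hz => ?_
    · have hcard : Nat.card H = Nat.card M := by
        refine Nat.card_congr (Equiv.ofBijective (fun g : H => (⟨ι g, Subgroup.mem_comap.1 (hH.le g.2)⟩ : M))
          ⟨fun a b h => Subtype.ext (hιinj (congrArg Subtype.val h)), fun x => ?_⟩)
        obtain ⟨g, hg⟩ := hιsurj x (hMG x.2)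
        exact ⟨⟨g, hH.ge (Subgroup.mem_comap.2 (hg ▸ x.2))⟩, Subtype.ext hg⟩
      rw [CfsgLib.PGroup.UnitThreeIndex.card_su3 C hF, hcard, ← card_suG hF]
      exact hbig
    · rw [hH, Subgroup.mem_comap]
      -- central elements are monomial
      have OG : Over q σ (hermForm 3 F q) (suG F q) :=
        { O.toStd with le := le_rfl, mon_mem := fun π d h1 h2 => hMG (O.mon_mem π d h1 h2) }
      obtain ⟨ζ, hζ⟩ := O.toStd.exists_prim
      have hζp : ζ ^ (q + 1) = 1 := hζ ▸ pow_orderOf_eq_one ζ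
      have hne : ∀ n, 0 < n → n < 4 → ζ ^ n ≠ 1 := fun n hn hn4 e => by
        have := orderOf_le_of_pow_eq_one hn e
        omega
      obtain ⟨d, hd⟩ : ∃ d : Fin 3 → Fˣ, d = ![ζ, 1, ζ⁻¹] := ⟨_, rfl⟩
      have htM := O.diag_mem (d := d) (fun k => by rw [hd]; fin_cases k <;> simp [hζp]) (by rw [hd]; simp)
      obtain ⟨t, ht⟩ := hιsurj _ (hMG htM)
      have hcomm : mon 1 d * ι z = ι z * mon 1 d := by
        rw [← ht, ← map_mul, ← map_mul, Subgroup.mem_center_iff.1 hz t]
      have hdist : ∀ r c : Fin 3, r ≠ c → d r ≠ d c := fun r c hrc e => by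
        have a1 : ζ ≠ 1 := fun h => hne 1 (by norm_num) (by norm_num) (by rw [pow_one, h])
        have a2 : ζ ≠ ζ⁻¹ := fun h => hne 2 (by norm_num) (by norm_num) (by rw [sq]; nth_rewrite 2 [h]; exact mul_inv_cancel ζ)
        rw [hd] at e
        fin_cases r <;> fin_cases c <;> simp_all
      have hmono : Mono (ι z) := mono_of_cols fun c => by
        obtain ⟨m, hm⟩ := col_of_simple hcomm (c := c) fun r hr => hdist r c hr
        exact ⟨m, hm⟩
      obtain ⟨π, e, he⟩ := hmono
      have hzG := hιG z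
      rw [he] at hzG ⊢
      refine O.mon_mem π e (fun k => O.toStd.norm_one_iff.2 (OG.mon_data hzG k)) ?_
      have := OG.det_one hzG
      rwa [det_mon] at this
  intro x hx
  obtain ⟨g, rfl⟩ := hιsurj x hx
  exact Subgroup.mem_comap.1 (hH.le (htop ▸ Subgroup.mem_top g))

/-- an overgroup of the monomial group is monomial or everything -/
theorem mono_or_top (hq : 3 ≤ q) (hq5 : q ≠ 5) {σ : F ≃+* F} {M : Subgroup G3}
    (O : Over q σ (hermForm 3 F q) M) : (∀ g ∈ M, Mono g) ∨ suG F q ≤ M := by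
  classical
  have hF := O.toStd.card
  have hf := O.toStd.form
  obtain ⟨p, hpc⟩ := CharP.exists F
  obtain ⟨n, hp, hn⟩ := FiniteField.card F p
  haveI : Fact p.Prime := ⟨hp⟩
  have hbigF : 4 < Fintype.card F := by
    rw [hF]
    calc 4 < 3 ^ 2 := by norm_num
      _ ≤ q ^ 2 := Nat.pow_le_pow_left hq 2
  by_cases hfull : ∃ (i j l : Fin 3) (H : Idx i j l) (γ : F), γ * σ γ = -1 ∧
      ∀ c : F, σ c = -c → TvIn σ (hermForm 3 F q) M (Pi.single i 1 + γ • Pi.single j 1) c
  · obtain ⟨i, j, l, H, γ, hγ, hall⟩ := hfull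
    right
    obtain ⟨u, hu⟩ : ∃ u : V3, u = Pi.single i 1 + γ • Pi.single j 1 := ⟨_, rfl⟩
    have huu : hermForm 3 F q u u = 0 := hu ▸ Over.iso_vec O.toStd H hγ
    have hu0 : u ≠ 0 := fun h => by simpa [hu, H.ij] using congrFun h i
    rw [← hu] at hall
    refine isoU_inf_SL_le hf (ThreeDim.hasTv_top_of_irreducible hf O.iso (fun W hW => O.irreducible (by omega) W hW)
      hu0 huu fun c hc => ?_) (Or.inr hbigF)
    obtain ⟨-, z, hz, hzx⟩ := hall c hc
    have h0 : (c • hv hf u) ⬝ᵥ u = 0 := by rw [smul_dotProduct, hv_dot, huu, smul_zero]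
    have e : tv u (c • hv hf u) h0 = z := gl_ext_vec fun x => by
      rw [tv_mulVec, hzx, smul_dotProduct, hv_dot, smul_eq_mul]
    exact ⟨h0, e ▸ hz⟩
  have hdich : ∀ (i j l : Fin 3) (H : Idx i j l) (γ : F) (hγ : γ * σ γ = -1),
      (∀ g ∈ M, ∀ μ : F, (g : M3) *ᵥ Pi.single l 1 = μ • Pi.single l 1 → Mono g) ∧
        Nat.card (O.tvGrp (Over.iso_vec O.toStd H hγ)) ≤ 2 ∧
        (p ≠ 2 → Nat.card (O.tvGrp (Over.iso_vec O.toStd H hγ)) = 1) := fun i j l H γ hγ =>
    (O.plane_dichotomy hp hq H hγ).resolve_left fun h => hfull ⟨i, j, l, H, γ, hγ, h⟩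
  obtain ⟨γ, hγ⟩ := exists_norm hf (d := (-1 : F)) (by rw [map_neg, map_one])
  have hC : ∀ g : G3, g ∈ M → ∀ (l : Fin 3) (μ : F),
      (g : M3) *ᵥ Pi.single l 1 = μ • Pi.single l 1 → Mono g := fun g hg l μ h => by
    obtain ⟨i, j, H⟩ := exists_idx l
    exact (hdich i j l H γ hγ).1 g hg μ h
  obtain ⟨k, hkM, hkdvd, hk1⟩ := O.frames_formula hC hq hq5
  by_cases hk : k = 1
  · exact Or.inl (hk1 hk)
  -- the arithmetic
  obtain ⟨j, hj⟩ : ∃ j, j = M.relIndex (suG F q) := ⟨_, rfl⟩
  have hG : 6 * (q + 1) ^ 2 * k * j = q ^ 3 * ((q ^ 2 - 1) * (q ^ 3 + 1)) := by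
    rw [← hkM, hj, card_mul_rel (show M ≤ suG F q from O.le), card_suG hF]
  obtain ⟨X, hX⟩ : ∃ X, X = (q - 1) * (q ^ 2 - q + 1) := ⟨_, rfl⟩
  have hqq : q ≤ q ^ 2 := Nat.le_self_pow two_ne_zero q
  have hfac : (q ^ 2 - 1) * (q ^ 3 + 1) = (q + 1) ^ 2 * X := by
    have e1 : q ^ 2 - 1 = (q + 1) * (q - 1) := by simpa using Nat.sq_sub_sq q 1
    have e2 : q ^ 3 + 1 = (q + 1) * (q ^ 2 - q + 1) := by
      have : (q + 1) * (q ^ 2 - q + 1) + (q + 1) * q = (q + 1) * (q ^ 2 + 1) := by rw [← mul_add]; congr 1; omega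
      have e3 : (q + 1) * (q ^ 2 + 1) = q ^ 3 + 1 + (q + 1) * q := by ring
      omega
    rw [e1, e2, hX]
    ring
  have hkj : 6 * (k * j) = q ^ 3 * X := by
    refine Nat.eq_of_mul_eq_mul_left (show 0 < (q + 1) ^ 2 by positivity) ?_
    calc (q + 1) ^ 2 * (6 * (k * j)) = 6 * (q + 1) ^ 2 * k * j := by ring
      _ = q ^ 3 * ((q + 1) ^ 2 * X) := by rw [hG, hfac]
      _ = _ := by ring
  have hXpos : 0 < q ^ 3 * X :=
    Nat.mul_pos (pow_pos (by omega) 3) (hX ▸ Nat.mul_pos (by omega) (Nat.succ_pos _))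
  have hk0 : 0 < k := Nat.pos_of_ne_zero fun h => by rw [h, zero_mul, mul_zero] at hkj; omega
  have hk2 : 1 < k := by omega
  by_cases hq3 : q = 3
  · exfalso
    subst hq3
    rw [hX] at hkj
    norm_num at hkj hkdvd
    have hkd : k ∣ 63 := ⟨j, by omega⟩
    have hle := Nat.le_of_dvd (by norm_num) hkd
    interval_cases k <;> omega
  -- the prime power
  obtain ⟨m, -, hm⟩ : ∃ m ≤ (n : ℕ), q = p ^ m := (Nat.dvd_prime_pow hp).1 (hn ▸ hF ▸ dvd_pow_self q two_ne_zero)
  have hm0 : m ≠ 0 := fun h => by rw [h, pow_zero] at hm; omega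
  have hpdiv : ∀ r : ℕ, r.Prime → r ∣ q → r = p := fun r hr hrq =>
    (Nat.prime_dvd_prime_iff_eq hr hp).1 (hr.dvd_of_dvd_pow (hm ▸ hrq))
  have hpart : ∀ S : Subgroup G3, IsPGroup p S → S ≤ M → Nat.card S ≤ q := by
    intro S hS hSM
    by_cases hp2 : p = 2
    · subst hp2
      obtain ⟨h8, h4⟩ := two_group_small O.toStd O.iso (fun x hx hxx => O.small_tv
        (fun i j l H γ hγ => (hdich i j l H γ hγ).2.1) hx hxx) hS hSM
      by_cases hq4 : q = 4
      · exact hq4 ▸ h4 hq4
      · refine h8.trans ?_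
        have hm2 : 3 ≤ m := by
          by_contra hlt
          push Not at hlt
          interval_cases m <;> omega
        rw [hm]
        calc (8 : ℕ) = 2 ^ 3 := by norm_num
          _ ≤ 2 ^ m := Nat.pow_le_pow_right (by norm_num) hm2
    · have hq7 : 7 ≤ q := by
        by_contra hlt
        push Not at hlt
        interval_cases q
        · exact hq3 rfl
        · exact hp2 (hpdiv 2 Nat.prime_two (by norm_num)).symm
        · exact hq5 rfl
        · exact hp2 (hpdiv 2 Nat.prime_two (by norm_num)).symm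
      have h2 : (2 : F) ≠ 0 := Ring.two_ne_zero (by rw [ringChar.eq F p]; exact hp2)
      refine p_group_bound O.toStd O.iso (fun x c hx hxx h => O.no_tv hC h2 hq7 (fun y a hy hyy ⟨l, hl⟩ hya => ?_)
        hx hxx h) hS hSM
      have hle : Nat.card {c : F // TvIn σ (hermForm 3 F q) M y c} ≤ 1 :=
        O.card_zero_coord (fun i j l H γ hγ => ((hdich i j l H γ hγ).2.2 hp2).le) hy hyy hl
      haveI := (Finite.card_le_one_iff_subsingleton.1 hle)
      have h0 : TvIn σ (hermForm 3 F q) M y 0 := ⟨by simp, 1, M.one_mem, fun t => by simp⟩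
      exact congrArg Subtype.val (Subsingleton.elim (⟨a, hya⟩ : {c : F // TvIn σ (hermForm 3 F q) M y c}) ⟨0, h0⟩)
  have hj2 : q ^ 2 ∣ j := by
    obtain ⟨t, ht⟩ : ∃ t, t = (Nat.card M).factorization p := ⟨_, rfl⟩
    have htm : t ≤ m := by
      obtain ⟨S', hS'⟩ := Sylow.exists_subgroup_card_pow_prime p (G := M) (n := t) (ht ▸ Nat.ordProj_dvd _ _)
      have h := hpart (S'.map M.subtype) ((IsPGroup.of_card hS').map _) (Subgroup.map_subtype_le _)
      rw [Subgroup.card_map_of_injective (Subgroup.subtype_injective M), hS', hm] at h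
      exact (Nat.pow_le_pow_iff_right hp.one_lt).1 h
    have hj0 : j ≠ 0 := fun h => by rw [h, mul_zero, mul_zero] at hkj; omega
    have hMj : Nat.card M * j = q ^ 3 * ((q ^ 2 - 1) * (q ^ 3 + 1)) := by rw [hkM, hG]
    have h3 : p ^ (3 * m) ∣ Nat.card M * j := ⟨(q ^ 2 - 1) * (q ^ 3 + 1), by rw [hMj, hm, ← pow_mul p m 3, mul_comm m 3]⟩
    rw [hp.pow_dvd_iff_le_factorization (mul_ne_zero Nat.card_pos.ne' hj0),
      Nat.factorization_mul Nat.card_pos.ne' hj0, Finsupp.add_apply, ← ht] at h3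
    rw [hm, ← pow_mul, hp.pow_dvd_iff_le_factorization hj0]
    omega
  obtain ⟨i, hi⟩ := hj2
  have he : 6 * (k * i) = q * ((q - 1) * (q ^ 2 - q + 1)) := by
    refine Nat.eq_of_mul_eq_mul_left (show 0 < q ^ 2 by positivity) ?_
    rw [← hX]
    calc q ^ 2 * (6 * (k * i)) = 6 * (k * j) := by rw [hi]; ring
      _ = q ^ 3 * X := hkj
      _ = _ := by ring
  rcases mono_arith hq hkdvd hk2 he with e | e | e | e | e | e
  · -- sixteen elements
    subst e
    norm_num at he hkdvd
    have hkd : k ∣ 26 := ⟨i, by omega⟩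
    have hle := Nat.le_of_dvd (by norm_num) hkd
    have hk26 : k = 26 := by interval_cases k <;> omega
    subst hk26
    exact Or.inr (large_top hq hq5 O (by rw [card_suG hF, hkM]; norm_num))
  · exact absurd e hq5
  · subst e
    norm_num at he hkdvd
    have hkd : k ∣ 532 := ⟨i, by omega⟩
    have hp2 : p = 2 := (hpdiv 2 Nat.prime_two (by norm_num)).symm
    subst hp2
    have htab : (List.range 533).all (fun k => !(532 % k == 0) || !(81 ∣ 9 * (k - 1)) || k == 1 || k == 19 || k == 28 ||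
        k == 532) = true := by decide +kernel
    rw [List.all_eq_true] at htab
    have hcase := htab k (List.mem_range.2 (by have := Nat.le_of_dvd (by norm_num) hkd; omega))
    simp [Nat.mod_eq_zero_of_dvd hkd, hk] at hcase
    rcases hcase with ((h | h) | h) | h
    · exact absurd hkdvd h
    · subst h
      exact (O.not_nineteen hC rfl (by rw [hkM]; norm_num)).elim
    · subst h
      exact (O.not_twenty_eight hC rfl (by rw [hkM]; norm_num)).elim
    · subst h
      exact Or.inr (large_top hq hq5 O (by rw [card_suG hF, hkM]; norm_num))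
  · exact absurd ((hpdiv 2 Nat.prime_two (e ▸ by norm_num)).trans (hpdiv 7 (by norm_num) (e ▸ by norm_num)).symm)
      (by norm_num)
  · exact absurd ((hpdiv 2 Nat.prime_two (e ▸ by norm_num)).trans (hpdiv 13 (by norm_num) (e ▸ by norm_num)).symm)
      (by norm_num)
  · exact absurd ((hpdiv 2 Nat.prime_two (e ▸ by norm_num)).trans (hpdiv 11 (by norm_num) (e ▸ by norm_num)).symm)
      (by norm_num)

/-- stabilisers of orthogonal frames -/
theorem frame_maximal (hF : Fintype.card F = q ^ 2) (hq : 3 ≤ q) (hq5 : q ≠ 5)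
    (D : Fin 3 → Submodule F V3) (hD : IsNondegenerateMDecomposition (hermForm 3 F q) 1 D) :
    IsMaximalIn (suG F q) (decompositionStabilizer D ⊓ suG F q) := by
  classical
  obtain ⟨C⟩ := Unit.ctx_of_card (F := F) hF
  have hf := Unit.isUnitary_hermForm C (n := 3)
  obtain ⟨σ, hσ, hfσ⟩ : ∃ σ : F ≃+* F, (∀ x, σ x = x ^ q) ∧ IsUnitaryForm σ (hermForm 3 F q) :=
    ⟨_, C.bar_eq, hf⟩
  have S : Std q σ (hermForm 3 F q) := ⟨hfσ, fun u v => by simp [hermForm, hσ], hF, hσ⟩
  choose b hbD hbb using fun i => Unit.Dec.exists_unit_vec hfσ hD i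
  have hb0 : ∀ i, b i ≠ 0 := fun i h => zero_ne_one ((herm_zero_left hfσ _).symm.trans (h ▸ hbb i))
  have hspan : ∀ i, D i = Submodule.span F ({b i} : Set V3) := fun i => by
    refine (Submodule.eq_of_le_of_finrank_le (Submodule.span_le.2 (by simpa using hbD i)) ?_).symm
    rw [finrank_span_singleton (hb0 i), hD.decomp.finrank_eq i]
  have hbij : ∀ i j, hermForm 3 F q (b i) (b j) = if i = j then 1 else 0 := fun i j => by
    by_cases h : i = j
    · subst h; rw [if_pos rfl, hbb]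
    · rw [if_neg h]; exact hD.orthogonal i j h _ (hbD i) _ (hbD j)
  obtain ⟨B, hB⟩ : ∃ B : G3, ∀ r : Fin 3, (B : M3) *ᵥ Pi.single r 1 = b r := by
    have hli : LinearIndependent F b := by
      rw [Fintype.linearIndependent_iff]
      intro g hg i
      have := congrArg (fun x => hermForm 3 F q x (b i)) hg
      simp only [Fin.sum_univ_three, hfσ.add_left, hfσ.smul_left, hbij, herm_zero_left hfσ] at this
      fin_cases i <;> simpa using this
    obtain ⟨Q, hQ⟩ := (Matrix.linearIndependent_cols_iff_isUnit (A := Matrix.of fun i j => b j i)).1 hli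
    exact ⟨Q, fun r => funext fun i => by rw [mulVec_single_one, hQ]; rfl⟩
  have hBiso : B ∈ isoU (hermForm 3 F q) := mem_isoU.2 fun x y => by
    have e : ∀ z : V3, z = z 0 • Pi.single 0 (1 : F) + z 1 • Pi.single 1 1 + z 2 • Pi.single 2 1 := fun z => by
      funext i; fin_cases i <;> simp
    conv_lhs => rw [e x, e y]
    simp only [mulVec_add, mulVec_smul, hB, hfσ.add_left, herm_add_right hfσ, hfσ.smul_left, herm_smul_right hfσ,
      hbij, Fin.isValue, Fin.reduceEq, if_true, if_false]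
    rw [S.std, Fin.sum_univ_three]
    ring
  have hstab : ∀ (π : Equiv.Perm (Fin 3)) (d : Fin 3 → Fˣ), B * mon π d * B⁻¹ ∈ decompositionStabilizer D := by
    intro π d
    refine ⟨π, fun i => ?_⟩
    rw [hspan, hspan, Submodule.map_span, Set.image_singleton, Matrix.toLin'_apply]
    have e : (((B * mon π d * B⁻¹ : G3)) : M3) *ᵥ b i = (d i : F) • b (π i) := by
      rw [gl_mul_mulVec, gl_mul_mulVec, ← hB i, gl_inv_mulVec, mon_mulVec_single, mul_one, ← hB (π i), ← mulVec_smul]
      congr 1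
      funext r
      by_cases hr : r = π i
      · subst hr; simp
      · simp [hr]
    rw [e, Submodule.span_singleton_smul_eq (d i).isUnit]
  refine isMaximalIn_of_full (Unit.Dec.not_le_stab hfσ hD (by simp)) fun M hHM hM hne => ?_
  obtain ⟨M', hM'⟩ : ∃ M' : Subgroup G3, M' = M.comap (MulAut.conj B).toMonoidHom := ⟨_, rfl⟩
  have hmem : ∀ g, g ∈ M' ↔ B * g * B⁻¹ ∈ M := fun g => by rw [hM']; exact Iff.rfl
  have hconjG : ∀ g : G3, B * g * B⁻¹ ∈ suG F q → g ∈ suG F q := fun g hg => by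
    refine ⟨?_, ?_⟩
    · have := (isoU (hermForm 3 F q)).mul_mem ((isoU (hermForm 3 F q)).mul_mem ((isoU (hermForm 3 F q)).inv_mem hBiso) hg.1) hBiso
      have e : B⁻¹ * (B * g * B⁻¹) * B = g := by group
      rw [e] at this
      exact this
    · have := mem_sl_three.1 hg.2
      rw [Units.val_mul, Units.val_mul, Matrix.det_units_conj] at this
      exact mem_sl_three.2 this
  have O : Over q σ (hermForm 3 F q) M' :=
    { S with
      le := fun g hg => hconjG g (hM ((hmem g).1 hg))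
      mon_mem := fun π d hd hdet => (hmem _).2 (hHM ⟨hstab π d, ⟨?_, ?_⟩⟩) }
  · rcases mono_or_top hq hq5 O with h | h
    · exact absurd (fun x hx => by
        obtain ⟨π, d, hd⟩ := h (B⁻¹ * x * B) ((hmem _).2 (by simpa [mul_assoc] using hx))
        have := hstab π d
        rw [← hd] at this
        simpa [mul_assoc] using this) hne
    · intro x hx
      have hg : B⁻¹ * x * B ∈ suG F q := hconjG _ (by simpa [mul_assoc] using hx)
      simpa [mul_assoc] using (hmem _).1 (h hg)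
  · refine (isoU (hermForm 3 F q)).mul_mem ((isoU (hermForm 3 F q)).mul_mem hBiso ?_)
      ((isoU (hermForm 3 F q)).inv_mem hBiso)
    refine mem_isoU.2 fun x y => ?_
    rw [S.std, S.std, ← Equiv.sum_comp π]
    refine Finset.sum_congr rfl fun k _ => ?_
    rw [mon_mulVec, mon_mulVec, Equiv.symm_apply_apply, map_mul]
    linear_combination (x k * σ (y k)) * hd k
  · show B * mon π d * B⁻¹ ∈ specialLinear (Fin 3) F
    rw [mem_sl_three, Units.val_mul, Units.val_mul, Matrix.det_units_conj, det_mon]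
    exact hdet

end CfsgLib.Perm.Trans.UnitThree
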