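import Cfsg.Agent.Lib.Perm.Trans.UnitThree.MonoFrames
import Cfsg.Agent.Lib.Perm.Trans.UnitThree.Involution

/-!
# Transvection centres in an overgroup of the monomial group

When the stabilisers of the frame vectors are monomial, the centres with a zero coordinate carry few
transvections, and in odd characteristic there are no other centres.
-/

set_option autoImplicit false
set_option linter.all false

namespace CfsgLib.Perm.Trans.UnitThree

open scoped Matrix
open Matrix Cfsg.Geo CfsgLib.Perm.Asch CfsgLib.Perm.Trans CfsgLib.Perm.Trans.Unit CfsgLib.Perm.LinDecomp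
open CfsgLib.Perm.Trans.ThreeDim (Idx dg dg_prod exists_idx monoSub)

variable {F : Type*} [Field F] [Fintype F] {q : ℕ} {σ : F ≃+* F}
variable {f : (Fin 3 → F) → (Fin 3 → F) → F}

local notation "M3" => Matrix (Fin 3) (Fin 3) F
local notation "G3" => GL (Fin 3) F
local notation "V3" => Fin 3 → F

omit [Fintype F] in
theorem TvIn.conj (hf : IsUnitaryForm σ f) {M : Subgroup G3} (hM : M ≤ isoU f) {u : V3} {c : F}
    (h : TvIn σ f M u c) {g : G3} (hg : g ∈ M) : TvIn σ f M ((g : M3) *ᵥ u) c := by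
  obtain ⟨hc, z, hz, hzx⟩ := h
  refine ⟨hc, g * z * g⁻¹, M.mul_mem (M.mul_mem hg hz) (M.inv_mem hg), fun x => ?_⟩
  rw [gl_mul_mulVec, gl_mul_mulVec, hzx, mulVec_add, mulVec_smul, gl_mulVec_inv,
    ← mem_isoU.1 (hM hg) _ u, gl_mulVec_inv]

theorem TvIn.smul (hf : IsUnitaryForm σ f) {M : Subgroup G3} {u : V3} {c a : F}
    (h : TvIn σ f M (a • u) c) : TvIn σ f M u (c * (a * σ a)) := by
  obtain ⟨hc, z, hz, hzx⟩ := h
  refine ⟨by rw [map_mul, map_mul, hc, hf.involutive]; ring, z, hz, fun x => ?_⟩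
  rw [hzx, herm_smul_right hf, smul_smul]
  congr 2
  ring

/-- a proportional centre has as many transvections -/
theorem card_tv_smul_le (hf : IsUnitaryForm σ f) {M : Subgroup G3} {u : V3} {a : F} (ha : a ≠ 0) :
    Nat.card {c : F // TvIn σ f M (a • u) c} ≤ Nat.card {c : F // TvIn σ f M u c} :=
  Nat.card_le_card_of_injective (fun c => ⟨c.1 * (a * σ a), c.2.smul hf⟩) fun x y h =>
    Subtype.ext (mul_right_cancel₀ (mul_ne_zero ha (by simpa using ha)) (congrArg Subtype.val h))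

omit [Fintype F] in
/-- a permutation fixing the last symbol -/
theorem perm_fix_two : ∀ π : Equiv.Perm (Fin 3), π 2 = 2 → π = 1 ∨ π = Equiv.swap 0 1 := by decide

/-- an isotropic vector with a zero coordinate -/
theorem zero_coord (S : Std q σ f) {x : V3} (hx : x ≠ 0) (hxx : f x x = 0) {l : Fin 3} (hl : x l = 0) :
    ∃ (i j : Fin 3) (γ : F), Idx i j l ∧ γ * σ γ = -1 ∧ x i ≠ 0 ∧
      x = x i • (Pi.single i 1 + γ • Pi.single j 1) := by
  obtain ⟨i, j, H⟩ := exists_idx l
  rw [S.std, H.sum, hl, zero_mul, add_zero] at hxx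
  have hi : x i ≠ 0 := fun h0 => by
    rw [h0, zero_mul, zero_add] at hxx
    have hj : x j = 0 := by simpa using hxx
    refine hx (funext fun k => ?_)
    rcases H.all k with rfl | rfl | rfl <;> simp [h0, hj, hl]
  have hσi : σ (x i) ≠ 0 := by simpa using hi
  refine ⟨i, j, x j / x i, H, ?_, hi, funext fun k => ?_⟩
  · rw [map_div₀]
    field_simp
    linear_combination hxx
  · rcases H.all k with rfl | rfl | rfl
    · simp [H.ij]
    · simp [H.ij.symm, hi]; field_simp
    · simp [H.il.symm, H.jl.symm, hl]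

namespace Over

variable {M : Subgroup (GL (Fin 3) F)} (O : Over q σ f M)
include O

/-- transvections at centres with a zero coordinate -/
theorem card_zero_coord {n : ℕ} (hsmall : ∀ (i j l : Fin 3) (H : Idx i j l) (γ : F) (hγ : γ * σ γ = -1),
      Nat.card (O.tvGrp (iso_vec O.toStd H hγ)) ≤ n)
    {x : V3} (hx : x ≠ 0) (hxx : f x x = 0) {l : Fin 3} (hl : x l = 0) :
    Nat.card {c : F // TvIn σ f M x c} ≤ n := by
  obtain ⟨i, j, γ, H, hγ, hi, e⟩ := zero_coord O.toStd hx hxx hl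
  rw [e]
  exact (card_tv_smul_le O.toStd.form hi).trans (hsmall i j l H γ hγ)

variable (hC : ∀ g : GL (Fin 3) F, g ∈ M → ∀ (l : Fin 3) (μ : F),
  (g : Matrix (Fin 3) (Fin 3) F) *ᵥ Pi.single l 1 = μ • Pi.single l 1 → Mono g)
include hC

/-- a torus element moving a full centre gives a relation of norms -/
theorem norm_rel (h2 : (2 : F) ≠ 0)
    (hZ : ∀ (x : V3) (c : F), x ≠ 0 → f x x = 0 → x 2 = 0 → TvIn σ f M x c → c = 0)
    {u : V3} (hu : ∀ k, u k ≠ 0) (huu : f u u = 0) {c : F} (hc : c ≠ 0) (hz : TvIn σ f M u c)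
    {d : Fin 3 → Fˣ} (hd : ∀ k, d k ^ (q + 1) = 1) (hdp : d 0 * d 1 * d 2 = 1)
    (h01 : d 0 ≠ d 1) (h02 : d 0 ≠ d 2) (h12 : d 1 ≠ d 2) :
    u 1 * σ (u 1) * (((d 2 : F) - d 1) * (σ (d 2) - σ (d 1))) =
      u 0 * σ (u 0) * (((d 0 : F) - d 2) * (σ (d 0) - σ (d 2))) := by
  classical
  have hf := O.toStd.form
  have hu0 : u ≠ 0 := fun h => hu 0 (congrFun h 0)
  have hne : ∀ a b : Fin 3, d a ≠ d b → (d a : F) - d b ≠ 0 := fun a b h e => h (Units.ext (sub_eq_zero.1 e))
  obtain ⟨v, hvdef⟩ : ∃ v, v = ((mon 1 d : G3) : M3) *ᵥ u := ⟨_, rfl⟩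
  have hdM := O.diag_mem hd hdp
  have hvk : ∀ k, v k = (d k : F) * u k := fun k => by
    rw [hvdef, mon_mulVec, Equiv.Perm.one_symm, Equiv.Perm.one_apply]
  have htv : TvIn σ f M v c := hvdef ▸ hz.conj hf O.iso hdM
  have hv0 : v ≠ 0 := fun h => by
    have := congrFun h 0
    rw [hvk] at this
    simp [hu 0] at this
  have hvv : f v v = 0 := by rw [hvdef, mem_isoU.1 (O.iso hdM), huu]
  have huv : f u v ≠ 0 := fun h0 => by
    obtain ⟨a, ha⟩ := Submodule.mem_span_singleton.1 (eq_smul_of_orth hf (by simp) hu0 huu hvv h0)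
    have e : ∀ k, (d k : F) = a := fun k => by
      have := congrFun ha k
      rw [Pi.smul_apply, hvk, smul_eq_mul] at this
      exact (mul_right_cancel₀ (hu k) this).symm
    exact h01 (Units.ext ((e 0).trans (e 1).symm))
  obtain ⟨hcσ, z, hzM, hzx⟩ := hz
  obtain ⟨-, z', hz'M, hzx'⟩ := htv
  obtain ⟨s, hsM, hsu, hsv, hsfix⟩ := exists_neg_plane hf h2 huu hvv huv hzM hz'M hc hc hzx hzx'
  -- the pole
  obtain ⟨cv, hcv⟩ : ∃ cv : V3, cv = ![σ (u 1 * v 2 - u 2 * v 1), σ (u 2 * v 0 - u 0 * v 2),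
      σ (u 0 * v 1 - u 1 * v 0)] := ⟨_, rfl⟩
  have hcne : ∀ k, cv k ≠ 0 := fun k => by
    rw [hcv]
    fin_cases k <;> simp only [Fin.zero_eta, Fin.mk_one, Fin.reduceFinMk, Fin.isValue, Matrix.cons_val_zero, Matrix.cons_val_one, Matrix.cons_val] <;>
      rw [map_ne_zero, hvk, hvk]
    · rw [show u 1 * ((d 2 : F) * u 2) - u 2 * ((d 1 : F) * u 1) = u 1 * u 2 * ((d 2 : F) - d 1) by ring]
      exact mul_ne_zero (mul_ne_zero (hu 1) (hu 2)) (hne _ _ h12.symm)
    · rw [show u 2 * ((d 0 : F) * u 0) - u 0 * ((d 2 : F) * u 2) = u 2 * u 0 * ((d 0 : F) - d 2) by ring]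
      exact mul_ne_zero (mul_ne_zero (hu 2) (hu 0)) (hne _ _ h02)
    · rw [show u 0 * ((d 1 : F) * u 1) - u 1 * ((d 0 : F) * u 0) = u 0 * u 1 * ((d 1 : F) - d 0) by ring]
      exact mul_ne_zero (mul_ne_zero (hu 0) (hu 1)) (hne _ _ h01.symm)
  have hcv0 : cv ≠ 0 := fun h => hcne 0 (congrFun h 0)
  have hcu : f cv u = 0 := by
    rw [O.toStd.std, Fin.sum_univ_three, hcv]
    simp only [Fin.isValue, Matrix.cons_val_zero, Matrix.cons_val_one, Matrix.cons_val, ← map_mul, ← map_add]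
    rw [show (u 1 * v 2 - u 2 * v 1) * u 0 + (u 2 * v 0 - u 0 * v 2) * u 1 + (u 0 * v 1 - u 1 * v 0) * u 2 = 0 by ring,
      map_zero]
  have hcv' : f cv v = 0 := by
    rw [O.toStd.std, Fin.sum_univ_three, hcv]
    simp only [Fin.isValue, Matrix.cons_val_zero, Matrix.cons_val_one, Matrix.cons_val, ← map_mul, ← map_add]
    rw [show (u 1 * v 2 - u 2 * v 1) * v 0 + (u 2 * v 0 - u 0 * v 2) * v 1 + (u 0 * v 1 - u 1 * v 0) * v 2 = 0 by ring,
      map_zero]
  have hscv : (s : M3) *ᵥ cv = cv := hsfix cv hcu hcv'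
  -- vectors orthogonal to both centres
  have hprop : ∀ y, f y u = 0 → f y v = 0 → ∀ k, y k * cv 0 = y 0 * cv k := by
    intro y h1 h2'
    rw [O.toStd.std, Fin.sum_univ_three] at h1 h2'
    intro k
    fin_cases k <;>
      simp only [hcv, Fin.zero_eta, Fin.mk_one, Fin.reduceFinMk, Fin.isValue, Matrix.cons_val_zero,
        Matrix.cons_val_one, Matrix.cons_val, map_sub, map_mul]
    · linear_combination σ (v 2) * h1 - σ (u 2) * h2'
    · linear_combination σ (u 1) * h2' - σ (v 1) * h1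
  have hcc : f cv cv ≠ 0 := fun h0 => by
    obtain ⟨b, hb⟩ := Submodule.mem_span_singleton.1
      (eq_smul_of_orth hf (by simp) hu0 huu h0 (herm_swap_zero hf hcu))
    rw [← hb, hf.smul_left] at hcv'
    rcases mul_eq_zero.1 hcv' with e | e
    · exact hcv0 (by rw [← hb, e, zero_smul])
    · exact huv e
  have hsfix' : ∀ y, (s : M3) *ᵥ y = y → f y u = 0 ∧ f y v = 0 := fun y hy => by
    have a1 := mem_isoU.1 (O.iso hsM) y u
    have a2 := mem_isoU.1 (O.iso hsM) y v
    rw [hy, hsu, ← neg_one_smul F u, herm_smul_right hf, map_neg, map_one] at a1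
    rw [hy, hsv, ← neg_one_smul F v, herm_smul_right hf, map_neg, map_one] at a2
    exact ⟨(mul_eq_zero.1 (show (2 : F) * f y u = 0 by linear_combination -a1)).resolve_left h2,
      (mul_eq_zero.1 (show (2 : F) * f y v = 0 by linear_combination -a2)).resolve_left h2⟩
  have hss : s * s = 1 := by
    refine gl_ext_vec fun x => ?_
    rw [gl_mul_mulVec, Units.val_one, one_mulVec]
    have hiso := mem_isoU.1 (O.iso hsM)
    have hfx : ∀ w, (s : M3) *ᵥ ((s : M3) *ᵥ w) = w →
        f ((s : M3) *ᵥ ((s : M3) *ᵥ x) - x) w = 0 := fun w hw => by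
      rw [herm_sub_left hf]
      conv_lhs => arg 1; rw [← hw]
      rw [hiso, hiso, sub_self]
    obtain ⟨y, hy⟩ : ∃ y, y = (s : M3) *ᵥ ((s : M3) *ᵥ x) - x := ⟨_, rfl⟩
    have b1 : f y u = 0 := hy ▸ hfx u (by rw [hsu, mulVec_neg, hsu, neg_neg])
    have b2 : f y v = 0 := hy ▸ hfx v (by rw [hsv, mulVec_neg, hsv, neg_neg])
    have b3 : f y cv = 0 := hy ▸ hfx cv (by rw [hscv, hscv])
    have e : cv 0 • y = y 0 • cv := funext fun k => by
      rw [Pi.smul_apply, Pi.smul_apply, smul_eq_mul, smul_eq_mul, mul_comm, hprop y b1 b2 k]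
    have e' := congrArg (fun w => f w cv) e
    simp only [hf.smul_left, b3, mul_zero] at e'
    have hy0 : y 0 = 0 := (mul_eq_zero.1 e'.symm).resolve_right hcc
    rw [hy0, zero_smul, smul_eq_zero] at e
    exact sub_eq_zero.1 (hy ▸ e.resolve_left (hcne 0))
  -- the diagonal involution
  obtain ⟨e, hedef⟩ : ∃ e : Fin 3 → Fˣ, e = ![-1, -1, 1] := ⟨_, rfl⟩
  obtain ⟨s₂, hs₂⟩ : ∃ s₂ : G3, s₂ = mon 1 e := ⟨_, rfl⟩
  have hs₂M : s₂ ∈ M := by
    rw [hs₂]
    refine O.mon_mem 1 e (fun k => ?_) ?_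
    · rw [hedef]; fin_cases k <;> simp
    · rw [map_one, Units.val_one, Int.cast_one, one_mul, Fin.prod_univ_three, hedef]; simp
  have hs₂x : ∀ y k, ((s₂ : M3) *ᵥ y) k = (e k : F) * y k := fun y k => by
    rw [hs₂, mon_mulVec, Equiv.Perm.one_symm, Equiv.Perm.one_apply]
  have hs₂s : s₂ * s₂ = 1 := gl_ext_vec fun x => funext fun k => by
    rw [gl_mul_mulVec, hs₂x, hs₂x, Units.val_one, one_mulVec, ← mul_assoc]
    rw [hedef]
    fin_cases k <;> simp
  rcases conj_or_commuting hsM hs₂M hss hs₂s with ⟨g, hg, hge⟩ | ⟨w, hwM, hww, hw1, hsw, hs₂w⟩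
  · exfalso
    have hgu : (s₂ : M3) *ᵥ ((g : M3) *ᵥ u) = -((g : M3) *ᵥ u) := by
      rw [← hge, gl_mul_mulVec, gl_mul_mulVec, gl_inv_mulVec, hsu, mulVec_neg]
    have hz2 : ((g : M3) *ᵥ u) 2 = 0 := by
      have := congrFun hgu 2
      rw [hs₂x, hedef] at this
      simp only [Fin.isValue, Matrix.cons_val, Units.val_one, one_mul, Pi.neg_apply] at this
      exact (mul_eq_zero.1 (show (2 : F) * ((g : M3) *ᵥ u) 2 = 0 by linear_combination this)).resolve_left h2
    exact hc (hZ _ c (fun h => hu0 (gl_mulVec_eq_zero.1 h)) (by rw [mem_isoU.1 (O.iso hg), huu]) hz2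
      ((show TvIn σ f M u c from ⟨hcσ, z, hzM, hzx⟩).conj hf O.iso hg))
  -- the commuting involution is a transposition
  have hwe : (w : M3) *ᵥ Pi.single 2 1 = (w : M3) 2 2 • Pi.single 2 1 := by
    have h' : (s₂ : M3) *ᵥ ((w : M3) *ᵥ Pi.single 2 1) = (w : M3) *ᵥ Pi.single 2 1 := by
      rw [← gl_mul_mulVec, hs₂w, gl_mul_mulVec, hs₂, eq_mon_smul, hedef]
      simp
    funext k
    have hk := congrFun h' k
    rw [hs₂x, hedef] at hk
    rw [Pi.smul_apply, mulVec_single_one] at *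
    fin_cases k
    · simp at hk ⊢
      exact (mul_eq_zero.1 (show (2 : F) * (w : M3) 0 2 = 0 by linear_combination -hk)).resolve_left h2
    · simp at hk ⊢
      exact (mul_eq_zero.1 (show (2 : F) * (w : M3) 1 2 = 0 by linear_combination -hk)).resolve_left h2
    · simp
  obtain ⟨π, d', rfl⟩ := hC w hwM 2 _ hwe
  have hπ2 : π 2 = 2 := by
    by_contra hne'
    have := congrFun hwe (π 2)
    rw [mon_mulVec_single, Pi.single_eq_same, mul_one, Pi.smul_apply, Pi.single_eq_of_ne hne', smul_zero] at this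
    exact (d' 2).ne_zero this
  have hwc : (s : M3) *ᵥ (((mon π d' : G3) : M3) *ᵥ cv) = ((mon π d' : G3) : M3) *ᵥ cv := by
    rw [← gl_mul_mulVec, hsw, gl_mul_mulVec, hscv]
  obtain ⟨p1, p2⟩ := hsfix' _ hwc
  have hp := hprop _ p1 p2
  rcases perm_fix_two π hπ2 with rfl | rfl
  · exfalso
    have hall : ∀ k, d' k = d' 0 := fun k => by
      have := hp k
      rw [mon_mulVec, mon_mulVec, Equiv.Perm.one_symm, Equiv.Perm.one_apply, Equiv.Perm.one_apply] at this
      refine Units.ext (mul_right_cancel₀ (mul_ne_zero (hcne k) (hcne 0)) ?_)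
      linear_combination this
    rw [mon_mul, one_mul, ← mon_one] at hww
    have h2' : d' 0 * d' 0 = 1 := congrFun (mon_d_inj hww) 0
    have h3 := O.diag_prod hwM
    rw [hall 1, hall 2, h2', one_mul] at h3
    refine hw1 ?_
    rw [show d' = fun _ => 1 from funext fun k => (hall k).trans h3, mon_one]
  · have h' := hp 2
    rw [mon_mulVec, mon_mulVec, Equiv.symm_swap, Equiv.swap_apply_of_ne_of_ne (by decide) (by decide),
      Equiv.swap_apply_left] at h'
    have hA : (d' 2 : F) * cv 0 = (d' 1 : F) * cv 1 := mul_right_cancel₀ (hcne 2) (by linear_combination h')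
    have n1 := O.toStd.norm_one_iff.2 (O.mon_data hwM 1)
    have n2 := O.toStd.norm_one_iff.2 (O.mon_data hwM 2)
    have hB : σ ((d' 2 : F) * cv 0) = σ ((d' 1 : F) * cv 1) := congrArg σ hA
    rw [map_mul, map_mul] at hB
    have hN : cv 0 * σ (cv 0) = cv 1 * σ (cv 1) := by
      calc cv 0 * σ (cv 0) = ((d' 2 : F) * σ (d' 2)) * (cv 0 * σ (cv 0)) := by rw [n2, one_mul]
        _ = ((d' 2 : F) * cv 0) * (σ (d' 2) * σ (cv 0)) := by ring
        _ = ((d' 1 : F) * cv 1) * (σ (d' 1) * σ (cv 1)) := by rw [hA, hB]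
        _ = ((d' 1 : F) * σ (d' 1)) * (cv 1 * σ (cv 1)) := by ring
        _ = _ := by rw [n1, one_mul]
    rw [hcv] at hN
    simp only [Fin.isValue, Matrix.cons_val_zero, Matrix.cons_val_one, hvk, map_sub, map_mul, hf.involutive] at hN
    refine mul_right_cancel₀ (mul_ne_zero (hu 2) (show σ (u 2) ≠ 0 by simpa using hu 2)) ?_
    linear_combination hN

/-- no transvections in odd characteristic -/
theorem no_tv (h2 : (2 : F) ≠ 0) (hq7 : 7 ≤ q)
    (hZ : ∀ (x : V3) (c : F), x ≠ 0 → f x x = 0 → (∃ k, x k = 0) → TvIn σ f M x c → c = 0)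
    {u : V3} (hu0 : u ≠ 0) (huu : f u u = 0) {c : F} (hz : TvIn σ f M u c) : c = 0 := by
  by_contra hc
  by_cases hu : ∀ k, u k ≠ 0
  swap
  · push Not at hu
    exact hc (hZ u c hu0 huu hu hz)
  have key := fun d hd hdp a b e => O.norm_rel hC h2 (fun x c hx hxx hx2 => hZ x c hx hxx ⟨2, hx2⟩)
    hu huu hc hz (d := d) hd hdp a b e
  obtain ⟨ζ, hζ⟩ := O.toStd.exists_prim
  have hord : 8 ≤ orderOf ζ := by omega
  have hpow : ζ ^ (q + 1) = 1 := hζ ▸ pow_orderOf_eq_one ζ
  have hne : ∀ m, 0 < m → m < 8 → ζ ^ m ≠ 1 := fun m hm hm8 e => by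
    have := orderOf_le_of_pow_eq_one hm e
    omega
  have hσ : ∀ x : Fˣ, x ^ (q + 1) = 1 → σ (x : F) = ((x⁻¹ : Fˣ) : F) := fun x hx => by
    rw [Units.val_inv_eq_inv_val]
    exact eq_inv_of_mul_eq_one_right (O.toStd.norm_one_iff.2 hx)
  obtain ⟨z, hzdef⟩ : ∃ z : F, z = (ζ : F) := ⟨_, rfl⟩
  have hz0 : z ≠ 0 := hzdef ▸ ζ.ne_zero
  have hσz : σ z = z⁻¹ := by rw [hzdef, hσ ζ hpow, Units.val_inv_eq_inv_val]
  have hzne : ∀ m, 0 < m → m < 8 → z ^ m ≠ 1 := fun m hm hm8 e => hne m hm hm8 (Units.ext (by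
    rw [Units.val_pow_eq_pow_val, ← hzdef, e, Units.val_one]))
  have ne_of : ∀ a b : Fˣ, ((a : F) - b ≠ 0) → a ≠ b := fun a b h e => h (by rw [e, sub_self])
  have k1 := key ![ζ, ζ⁻¹, 1] (fun k => by fin_cases k <;> simp [hpow]) (by simp)
    (ne_of _ _ (by
      simp [← hzdef]
      field_simp
      intro e
      exact hzne 2 (by norm_num) (by norm_num) (by linear_combination e)))
    (ne_of _ _ (by
      simp [← hzdef]
      intro e
      exact hzne 1 (by norm_num) (by norm_num) (by linear_combination e)))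
    (ne_of _ _ (by
      simp [← hzdef]
      field_simp
      intro e
      exact hzne 1 (by norm_num) (by norm_num) (by linear_combination -e)))
  simp only [Fin.isValue, Matrix.cons_val_zero, Matrix.cons_val_one, Matrix.cons_val, Units.val_one, map_one,
    Units.val_inv_eq_inv_val, map_inv₀, ← hzdef, hσz, inv_inv] at k1
  have hN : u 1 * σ (u 1) = u 0 * σ (u 0) := by
    have h1 : z - 1 ≠ 0 := fun e => hzne 1 (by norm_num) (by norm_num) (by linear_combination e)
    field_simp at k1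
    refine mul_right_cancel₀ (mul_ne_zero h1 h1) ?_
    linear_combination (1 - z) * k1
  have k2 := key ![ζ ^ 2, (ζ ^ 3)⁻¹, ζ] (fun k => by
      fin_cases k <;> simp [← pow_mul] <;> simp [mul_comm _ (q + 1), pow_mul, hpow])
    (by
      simp only [Fin.isValue, Matrix.cons_val_zero, Matrix.cons_val_one, Matrix.cons_val]
      rw [mul_right_comm, ← pow_succ, mul_inv_cancel])
    (ne_of _ _ (by
      simp [← hzdef]
      field_simp
      intro e
      exact hzne 5 (by norm_num) (by norm_num) (by linear_combination e)))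
    (ne_of _ _ (by
      simp [← hzdef]
      intro e
      exact hzne 1 (by norm_num) (by norm_num) (mul_left_cancel₀ hz0 (by linear_combination e))))
    (ne_of _ _ (by
      simp [← hzdef]
      field_simp
      intro e
      exact hzne 4 (by norm_num) (by norm_num) (by linear_combination -e)))
  simp only [Fin.isValue, Matrix.cons_val_zero, Matrix.cons_val_one, Matrix.cons_val, Units.val_pow_eq_pow_val,
    Units.val_inv_eq_inv_val, map_inv₀, map_pow, ← hzdef, hσz, inv_inv, inv_pow, hN] at k2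
  have hu1 : u 0 * σ (u 0) ≠ 0 := mul_ne_zero (hu 0) (by simpa using hu 0)
  have k3 := mul_left_cancel₀ hu1 k2
  field_simp at k3
  have : (z ^ 3 - 1) * (z ^ 5 - 1) * z ^ 2 = 0 := by linear_combination (-z ^ 2) * k3
  rcases mul_eq_zero.1 this with h | h
  · rcases mul_eq_zero.1 h with h | h
    · exact hzne 3 (by norm_num) (by norm_num) (by linear_combination h)
    · exact hzne 5 (by norm_num) (by norm_num) (by linear_combination h)
  · exact pow_ne_zero 2 hz0 h

end Over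

end CfsgLib.Perm.Trans.UnitThree
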