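import Mathlib

/-!
# Counting cosets by the orbits of a subgroup
-/

set_option autoImplicit false
set_option linter.all false

namespace CfsgLib.Perm.Trans.UnitThree

variable {G P : Type*} [Group G] [Finite G] [Group P] [Finite P]

/-- a group fixing one coset, with stabilisers of bounded order elsewhere -/
theorem dvd_index_pred (φ : P →* G) (H : Subgroup G) (hfix : φ.range ≤ H) {n b : ℕ}
    (hP : n ∣ Nat.card P)
    (hstab : ∀ g : G, g ∉ H → ∀ S : Subgroup P, (∀ x ∈ S, g⁻¹ * φ x * g ∈ H) → Nat.card S ∣ b)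
    : n ∣ b * (H.index - 1) := by
  classical
  letI : MulAction P (G ⧸ H) := MulAction.compHom (G ⧸ H) φ
  haveI : Fintype (G ⧸ H) := Fintype.ofFinite _
  obtain ⟨ω₁, hω₁⟩ : ∃ ω : G ⧸ H, ω = ((1 : G) : G ⧸ H) := ⟨_, rfl⟩
  have hfix₁ : ∀ x : P, x • ω₁ = ω₁ := fun x => by
    rw [hω₁]
    show ((φ x * 1 : G) : G ⧸ H) = _
    rw [mul_one, QuotientGroup.eq, mul_one]
    exact H.inv_mem (hfix ⟨x, rfl⟩)
  have horb : ∀ ω : G ⧸ H, ω ≠ ω₁ → n ∣ b * Nat.card (MulAction.orbit P ω) := by
    intro ω hω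
    induction ω using QuotientGroup.induction_on with
    | _ g =>
    have hg : g ∉ H := fun h => hω (by
      rw [hω₁, QuotientGroup.eq, mul_one]
      exact H.inv_mem h)
    have hd : Nat.card (MulAction.stabilizer P (g : G ⧸ H)) ∣ b := by
      refine hstab g hg _ fun x hx => ?_
      have h : ((φ x * g : G) : G ⧸ H) = (g : G ⧸ H) := hx
      rw [QuotientGroup.eq] at h
      have h' := H.inv_mem h
      simpa [mul_assoc] using h'
    haveI : Fintype P := Fintype.ofFinite P
    have hmul := MulAction.card_orbit_mul_card_stabilizer_eq_card_group P (g : G ⧸ H)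
    rw [← Nat.card_eq_fintype_card, ← Nat.card_eq_fintype_card, ← Nat.card_eq_fintype_card] at hmul
    obtain ⟨e, he⟩ := hd
    refine hP.trans ⟨e, ?_⟩
    rw [← hmul, he]
    ring
  have hsum : Nat.card (G ⧸ H) =
      ∑ o : MulAction.orbitRel.Quotient P (G ⧸ H), Nat.card (MulAction.orbit P o.out) := by
    rw [Nat.card_congr (MulAction.selfEquivSigmaOrbits P (G ⧸ H)), Nat.card_sigma]
  have hone : Nat.card (MulAction.orbit P (Quotient.mk'' ω₁ : MulAction.orbitRel.Quotient P (G ⧸ H)).out) = 1 := by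
    have hmem : (Quotient.mk'' ω₁ : MulAction.orbitRel.Quotient P (G ⧸ H)).out ∈ MulAction.orbit P ω₁ :=
      Quotient.mk_out' (s₁ := MulAction.orbitRel P (G ⧸ H)) ω₁
    have hone : MulAction.orbit P ω₁ = {ω₁} :=
      Set.eq_singleton_iff_unique_mem.2 ⟨MulAction.mem_orbit_self _, fun z ⟨x, hx⟩ => hx ▸ hfix₁ x⟩
    rw [hone, Set.mem_singleton_iff] at hmem
    rw [hmem, hone, Nat.card_coe_set_eq, Set.ncard_singleton]
  rw [Subgroup.index_eq_card, hsum, ← Finset.add_sum_erase _ _ (Finset.mem_univ (Quotient.mk'' ω₁)), hone,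
    Nat.add_sub_cancel_left, Finset.mul_sum]
  refine Finset.dvd_sum fun o ho => horb _ fun h => (Finset.mem_erase.1 ho).1 ?_
  rw [← Quotient.out_eq' o, h]

end CfsgLib.Perm.Trans.UnitThree
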