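import Cfsg.Agent.Lib.Perm.Trans.UnitThree.MonoBase
import Cfsg.Agent.Lib.Perm.Trans.UnitThree.OrbitCount
import Cfsg.Agent.Lib.Perm.Trans.ThreeDim.MonoSmall

/-!
# The stabiliser of a frame vector in an overgroup of the monomial group

The torus is transitive on the isotropic points of the plane and nearly semiregular on the other frames of the
plane; so the stabiliser is monomial, or contains a full transvection group.
-/

set_option autoImplicit false
set_option linter.all false
set_option quotPrecheck false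

namespace CfsgLib.Perm.Trans.UnitThree

open scoped Matrix
open Matrix Cfsg.Geo CfsgLib.Perm.Asch CfsgLib.Perm.Trans CfsgLib.Perm.Trans.Unit CfsgLib.Perm.LinDecomp
open CfsgLib.Perm.Trans.ThreeDim (Idx dg dg_prod exists_idx monoSub)

variable {F : Type*} [Field F] [Fintype F] {q : ℕ} {σ : F ≃+* F}
variable {f : (Fin 3 → F) → (Fin 3 → F) → F}

local notation "M3" => Matrix (Fin 3) (Fin 3) F
local notation "G3" => GL (Fin 3) F
local notation "V3" => Fin 3 → F
local notation "N1" => (powMonoidHom (q + 1) : Fˣ →* Fˣ).ker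

/-- the group contains the transvection with the given centre and coefficient -/
def TvIn (σ : F ≃+* F) (f : (Fin 3 → F) → (Fin 3 → F) → F) (M : Subgroup (GL (Fin 3) F)) (u : Fin 3 → F)
    (c : F) : Prop :=
  σ c = -c ∧ ∃ g ∈ M, ∀ x, (g : Matrix (Fin 3) (Fin 3) F) *ᵥ x = x + (c * f x u) • u

theorem mem_line {M : Subgroup G3} {v : V3} (hv : v ≠ 0) {g : G3} :
    g ∈ M ⊓ subspaceStabilizer (Submodule.span F ({v} : Set V3)) ↔
      g ∈ M ∧ ∃ μ : F, μ ≠ 0 ∧ (g : M3) *ᵥ v = μ • v := by
  constructor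
  · rintro ⟨hg, hst⟩
    obtain ⟨μ, hμ⟩ := Submodule.mem_span_singleton.1 ((hst v).1 (Submodule.mem_span_singleton_self v))
    exact ⟨hg, μ, fun h0 => hv (by rw [h0, zero_smul] at hμ; exact gl_mulVec_eq_zero.1 hμ.symm), hμ.symm⟩
  · rintro ⟨hg, μ, hμ, hgv⟩
    exact ⟨hg, mem_stab_span hμ hgv⟩

theorem eq_mon_smul {d : Fin 3 → Fˣ} (k : Fin 3) :
    ((mon 1 d : G3) : M3) *ᵥ Pi.single k 1 = (d k : F) • Pi.single k 1 := by
  rw [mon_mulVec_single, Equiv.Perm.one_apply, ← Pi.single_smul, smul_eq_mul]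

namespace Over

variable {M : Subgroup (GL (Fin 3) F)} (O : Over q σ f M)
include O

/-- the entries of a monomial element -/
theorem mon_data {π : Equiv.Perm (Fin 3)} {d : Fin 3 → Fˣ} (h : mon π d ∈ M) (k : Fin 3) :
    d k ^ (q + 1) = 1 := by
  have h1 := O.col_orth h k k
  rw [if_pos rfl, Finset.sum_eq_single (π k)] at h1
  · rw [mon_apply, if_pos rfl] at h1
    exact O.toStd.norm_one_iff.1 h1
  · intro r _ hr
    rw [mon_apply, if_neg hr, zero_mul]
  · simp

theorem diag_prod {d : Fin 3 → Fˣ} (h : mon 1 d ∈ M) : d 0 * d 1 * d 2 = 1 := by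
  have h1 := O.det_one h
  rw [det_mon, map_one, Units.val_one, Int.cast_one, one_mul, Fin.prod_univ_three] at h1
  exact Units.ext (by rw [Units.val_mul, Units.val_mul, h1, Units.val_one])

/-- coefficients of the transvections at a point -/
def tvGrp {u : V3} (huu : f u u = 0) : AddSubgroup F where
  carrier := {c | TvIn σ f M u c}
  zero_mem' := ⟨by simp, 1, M.one_mem, fun x => by simp⟩
  add_mem' := fun {a b} ⟨ha, g, hg, hgx⟩ ⟨hb, h, hh, hhx⟩ => ⟨by rw [map_add, ha, hb, neg_add],
    g * h, M.mul_mem hg hh, fun x => by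
      rw [gl_mul_mulVec, hhx, hgx, O.toStd.form.add_left, O.toStd.form.smul_left, huu, mul_zero, add_zero,
        add_assoc, ← add_smul]
      congr 2
      ring⟩
  neg_mem' := fun {a} ⟨ha, g, hg, hgx⟩ => ⟨by rw [map_neg, ha], g⁻¹, M.inv_mem hg, fun x => by
    have h := congrArg (fun y => ((g⁻¹ : G3) : M3) *ᵥ y) (hgx x)
    simp only [gl_inv_mulVec, mulVec_add, mulVec_smul] at h
    have hu : ((g⁻¹ : G3) : M3) *ᵥ u = u := by
      have := congrArg (fun y => ((g⁻¹ : G3) : M3) *ᵥ y) (hgx u)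
      simp only [gl_inv_mulVec, mulVec_add, mulVec_smul, huu, mul_zero, zero_smul, add_zero] at this
      exact this.symm
    rw [hu] at h
    linear_combination (norm := module) -h⟩

theorem mem_tvGrp {u : V3} (huu : f u u = 0) {c : F} : c ∈ O.tvGrp huu ↔ TvIn σ f M u c := Iff.rfl

/-- at most `q` coefficients -/
theorem card_tvGrp_le {u : V3} (huu : f u u = 0) : Nat.card (O.tvGrp huu) ≤ q := by
  classical
  have hq := O.toStd.one_lt
  let P : Polynomial F := Polynomial.X ^ q + Polynomial.X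
  have hP : P.natDegree ≤ q :=
    (Polynomial.natDegree_add_le _ _).trans (max_le (Polynomial.natDegree_X_pow_le q)
      (Polynomial.natDegree_X_le.trans hq.le))
  have hP0 : P ≠ 0 := fun e => by
    have := congrArg (fun r : Polynomial F => r.coeff 1) e
    simp [P, Polynomial.coeff_X_pow, show (1 : ℕ) ≠ q by omega] at this
  have hroot : ∀ c : O.tvGrp huu, (c : F) ∈ P.roots.toFinset := fun c => by
    rw [Multiset.mem_toFinset, Polynomial.mem_roots hP0]
    simp [P, Polynomial.IsRoot, ← O.toStd.frob, c.2.1]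
  refine (Nat.card_le_card_of_injective (fun c : O.tvGrp huu => (⟨(c : F), hroot c⟩ : P.roots.toFinset)) fun a b h =>
    Subtype.ext (congrArg Subtype.val h :)).trans ?_
  rw [Nat.card_eq_fintype_card, Fintype.card_coe]
  exact (Multiset.toFinset_card_le _).trans ((Polynomial.card_roots' P).trans hP)

section Plane

variable {i j l : Fin 3} (H : Idx i j l) {γ : F} (hγ : γ * σ γ = -1)

omit O in
/-- the isotropic vector of the plane -/
theorem iso_vec (S : Std q σ f) (H : Idx i j l) (hγ : γ * σ γ = -1) :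
    f (Pi.single i 1 + γ • Pi.single j 1) (Pi.single i 1 + γ • Pi.single j 1) = 0 := by
  rw [S.std, H.sum]
  simp [H.ij, H.ij.symm, H.il.symm, H.jl.symm, hγ]

/-- the order of the stabiliser of a frame vector -/
theorem plane_formula :
    ∃ r, r ∣ q - 1 ∧ r ∣ Nat.card (O.tvGrp (iso_vec O.toStd H hγ)) - 1 ∧
      Nat.card (M ⊓ subspaceStabilizer (Submodule.span F ({Pi.single l 1} : Set V3)) : Subgroup G3) =
        (q + 1) ^ 2 * Nat.card (O.tvGrp (iso_vec O.toStd H hγ)) * r := by
  classical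
  have hq := O.toStd.one_lt
  have hf := O.toStd.form
  obtain ⟨el, hel⟩ : ∃ el : V3, el = Pi.single l 1 := ⟨_, rfl⟩
  obtain ⟨ei, hei⟩ : ∃ ei : V3, ei = Pi.single i 1 := ⟨_, rfl⟩
  obtain ⟨ej, hej⟩ : ∃ ej : V3, ej = Pi.single j 1 := ⟨_, rfl⟩
  obtain ⟨u, hu⟩ : ∃ u : V3, u = ei + γ • ej := ⟨_, rfl⟩
  have huu : f u u = 0 := by rw [hu, hei, hej]; exact iso_vec O.toStd H hγ
  have hAeq : O.tvGrp (iso_vec O.toStd H hγ) = O.tvGrp huu := by subst hu hei hej; rfl
  rw [hAeq, ← hel]
  have hγ0 : γ ≠ 0 := fun h => by rw [h, zero_mul] at hγ; exact one_ne_zero (neg_eq_zero.1 hγ.symm)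
  have hui : u i = 1 := by simp [hu, hei, hej, H.ij]
  have huj : u j = γ := by simp [hu, hei, hej, H.ij.symm]
  have hul : u l = 0 := by simp [hu, hei, hej, H.il.symm, H.jl.symm]
  have hu0 : u ≠ 0 := fun h => by rw [h] at hui; exact zero_ne_one hui
  have hel0 : el ≠ 0 := fun h => by simpa [hel] using congrFun h l
  obtain ⟨C, hC⟩ : ∃ C : Subgroup G3, C = M ⊓ subspaceStabilizer (Submodule.span F ({el} : Set V3)) := ⟨_, rfl⟩
  obtain ⟨B, hB⟩ : ∃ B : Subgroup G3, B = C ⊓ subspaceStabilizer (Submodule.span F ({u} : Set V3)) := ⟨_, rfl⟩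
  rw [← hC]
  have hmemB : ∀ g, g ∈ B ↔ g ∈ C ∧ ∃ lam : F, lam ≠ 0 ∧ (g : M3) *ᵥ u = lam • u := fun g => by
    rw [hB]; exact mem_line hu0
  have hmemC : ∀ g, g ∈ C ↔ g ∈ M ∧ ∃ μ : F, μ ≠ 0 ∧ (g : M3) *ᵥ el = μ • el := fun g => by
    rw [hC]; exact mem_line hel0
  -- the torus
  have htorC : ∀ d : Fin 3 → Fˣ, (∀ k, d k ^ (q + 1) = 1) → d 0 * d 1 * d 2 = 1 → mon 1 d ∈ C := fun d h1 h2 =>
    (hmemC _).2 ⟨O.diag_mem h1 h2, d l, (d l).ne_zero, by rw [hel]; exact eq_mon_smul l⟩
  have hprod : ∀ d : Fin 3 → Fˣ, d i * d j * d l = 1 → d 0 * d 1 * d 2 = 1 := fun d h => by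
    have e := (Fin.prod_univ_three (fun k => (d k : F))).symm.trans (H.prod fun k => (d k : F))
    refine Units.ext ?_
    simp only [Units.val_mul, Units.val_one]
    rw [e, ← Units.val_mul, ← Units.val_mul, h, Units.val_one]
  have hdij : ∀ (a b : Fˣ), a ^ (q + 1) = 1 → b ^ (q + 1) = 1 →
      ∃ d : Fin 3 → Fˣ, d i = a ∧ d j = b ∧ d l = (a * b)⁻¹ ∧ mon 1 d ∈ C := by
    intro a b ha hb
    refine ⟨fun k => if k = i then a else if k = j then b else (a * b)⁻¹, if_pos rfl, by simp [H.ij.symm],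
      by simp [H.il.symm, H.jl.symm], htorC _ (fun k => ?_) (hprod (fun k => if k = i then a else if k = j then b else (a * b)⁻¹) ?_)⟩
    · split_ifs <;> simp [ha, hb, mul_pow]
    · simp [H.ij.symm, H.il.symm, H.jl.symm]
  -- transitivity on isotropic points
  have hmove : ∀ g : C, ∃ t : G3, t ∈ tor q F ∧ t ∈ C ∧ t⁻¹ * g ∈ B := by
    rintro ⟨g, hg⟩
    obtain ⟨hgM, μ, -, hgl⟩ := (hmemC g).1 hg
    obtain ⟨x, hx⟩ : ∃ x, x = (g : M3) *ᵥ u := ⟨_, rfl⟩
    have hxl : x l = 0 := by
      rw [hx, Matrix.mulVec, dotProduct, H.sum, O.row_zero hgM (hel ▸ hgl) H.il, O.row_zero hgM (hel ▸ hgl) H.jl, hul]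
      simp
    have hxx : f x x = 0 := by rw [hx, mem_isoU.1 (O.iso hgM), huu]
    rw [O.toStd.std, H.sum, hxl, zero_mul, add_zero] at hxx
    have hxi : x i ≠ 0 := fun h0 => by
      rw [h0, zero_mul, zero_add] at hxx
      have hxj : x j = 0 := by simpa using hxx
      have hzero : (g : M3) *ᵥ u = 0 := by
        rw [← hx]
        funext k
        rcases H.all k with rfl | rfl | rfl <;> simp [h0, hxj, hxl]
      exact hu0 (gl_mulVec_eq_zero.1 hzero)
    have hxj : x j ≠ 0 := fun h0 => by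
      rw [h0, zero_mul, add_zero] at hxx
      exact hxi (by simpa using hxx)
    have hρ0 : x j / (x i * γ) ≠ 0 := div_ne_zero hxj (mul_ne_zero hxi hγ0)
    have hρ : (Units.mk0 _ hρ0) ^ (q + 1) = 1 := by
      rw [← O.toStd.norm_one_iff, Units.val_mk0, map_div₀, map_mul, div_mul_div_comm, div_eq_one_iff_eq
        (mul_ne_zero (mul_ne_zero hxi hγ0) (mul_ne_zero (by simpa using hxi) (by simpa using hγ0)))]
      linear_combination hxx - (x i * σ (x i)) * hγ
    obtain ⟨d, hdi, hdj, -, hdC⟩ := hdij 1 _ (one_pow _) hρ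
    have hdM := ((hmemC _).1 hdC).1
    refine ⟨mon 1 d, (mem_tor_iff O.toStd).2 ⟨d, rfl, fun k => O.mon_data hdM k, O.diag_prod hdM⟩, hdC,
      (hmemB _).2 ⟨C.mul_mem (C.inv_mem hdC) hg, x i, hxi, ?_⟩⟩
    have e : x = x i • ((mon 1 d : G3) : M3) *ᵥ u := funext fun k => by
      rw [Pi.smul_apply, mon_mulVec, Equiv.Perm.one_symm, Equiv.Perm.one_apply, smul_eq_mul]
      rcases H.all k with rfl | rfl | rfl
      · rw [hdi, hui]; simp
      · rw [hdj, huj, Units.val_mk0]; field_simp
      · rw [hul, hxl]; simp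
    show ((((mon 1 d : G3))⁻¹ * g : G3) : M3) *ᵥ u = x i • u
    rw [gl_mul_mulVec, ← hx]
    conv_lhs => rw [e, mulVec_smul, gl_inv_mulVec]
  choose s hst hsC hsB using hmove
  -- the stabiliser of the point in the torus
  obtain ⟨Tu, hTu⟩ : ∃ Tu : Subgroup G3, Tu = tor q F ⊓ B := ⟨_, rfl⟩
  have hTuval : ∀ d : Fin 3 → Fˣ, mon 1 d ∈ B → d i = d j := by
    intro d hd
    obtain ⟨-, lam, -, hlam⟩ := (hmemB _).1 hd
    have h1 := congrFun hlam i
    have h2 := congrFun hlam j
    rw [mon_mulVec, Equiv.Perm.one_symm, Equiv.Perm.one_apply, Pi.smul_apply, smul_eq_mul, hui, mul_one, mul_one] at h1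
    rw [mon_mulVec, Equiv.Perm.one_symm, Equiv.Perm.one_apply, Pi.smul_apply, smul_eq_mul, huj] at h2
    exact Units.ext (h1.trans (mul_right_cancel₀ hγ0 h2).symm)
  have hTuof : ∀ d : Fin 3 → Fˣ, mon 1 d ∈ C → d i = d j → mon 1 d ∈ B ∧ ((mon 1 d : G3) : M3) *ᵥ u = (d i : F) • u := by
    intro d hd hij
    have h : ((mon 1 d : G3) : M3) *ᵥ u = (d i : F) • u := funext fun k => by
      rw [mon_mulVec, Equiv.Perm.one_symm, Equiv.Perm.one_apply, Pi.smul_apply, smul_eq_mul]
      rcases H.all k with rfl | rfl | rfl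
      · rfl
      · rw [hij]
      · rw [hul, mul_zero, mul_zero]
    exact ⟨(hmemB _).2 ⟨hd, _, (d i).ne_zero, h⟩, h⟩
  have hBC : B ≤ C := hB ▸ inf_le_left
  have htoC : tor q F ≤ C := fun t ht => by
    obtain ⟨d, rfl, h1, h2⟩ := (mem_tor_iff O.toStd).1 ht
    exact htorC d h1 h2
  have hTucard : Nat.card Tu = q + 1 := by
    have hd0 : ∀ ζ : N1, ∃ d : Fin 3 → Fˣ, d i = ζ ∧ d j = ζ ∧ d l = ((ζ : Fˣ) * ζ)⁻¹ ∧ mon 1 d ∈ C :=
      fun ζ => hdij ζ ζ ζ.2 ζ.2
    choose d hd1 hd2 hd3 hd4 using hd0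
    have hmem : ∀ ζ, mon 1 (d ζ) ∈ Tu := fun ζ => by
      have hM' := ((hmemC _).1 (hd4 ζ)).1
      rw [hTu]
      exact ⟨(mem_tor_iff O.toStd).2 ⟨d ζ, rfl, fun k => O.mon_data hM' k, O.diag_prod hM'⟩,
        (hTuof _ (hd4 ζ) (by rw [hd1, hd2])).1⟩
    refine (Nat.card_congr (Equiv.ofBijective (fun ζ => (⟨mon 1 (d ζ), hmem ζ⟩ : Tu)) ⟨fun a b h => ?_, ?_⟩)).symm.trans
      O.toStd.card_norm_one
    · have h' := congrFun (mon_d_inj (congrArg Subtype.val h : (mon 1 (d a) : G3) = mon 1 (d b))) i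
      rw [hd1, hd1] at h'
      exact Subtype.ext h'
    · rintro ⟨t, ht⟩
      rw [hTu] at ht
      obtain ⟨e, rfl, he, hep⟩ := (mem_tor_iff O.toStd).1 ht.1
      have hij' := hTuval e ht.2
      refine ⟨⟨e i, he i⟩, Subtype.ext ?_⟩
      show mon 1 (d _) = mon 1 e
      congr 1
      funext k
      rcases H.all k with rfl | rfl | rfl
      · exact hd1 _
      · rw [hd2]; exact hij'
      · rw [hd3]
        have : e i * e j * e k = 1 := Units.ext (by
          have := congrArg Units.val hep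
          simp only [Units.val_mul, Units.val_one] at this ⊢
          rw [← H.prod fun r => (e r : F), Fin.prod_univ_three]
          exact this)
        refine Eq.trans ?_ (eq_inv_of_mul_eq_one_right this).symm
        show (e i * e i)⁻¹ = _
        rw [← hij']
  have hkey : Nat.card C * (q + 1) = (q + 1) ^ 2 * Nat.card B := by
    rw [← card_tor O.toStd, ← hTucard, ← Nat.card_prod, ← Nat.card_prod]
    refine Nat.card_congr
      { toFun := fun x => (⟨s x.1 * x.2, (tor q F).mul_mem (hst _) (hTu.le x.2.2).1⟩,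
          ⟨(x.2 : G3)⁻¹ * ((s x.1)⁻¹ * x.1), B.mul_mem (B.inv_mem (hTu.le x.2.2).2)
            (hsB _)⟩)
        invFun := fun y => (⟨(y.1 : G3) * y.2, C.mul_mem (htoC y.1.2) (hBC y.2.2)⟩,
          ⟨(s ⟨(y.1 : G3) * y.2, C.mul_mem (htoC y.1.2) (hBC y.2.2)⟩)⁻¹ * y.1, by
            rw [hTu]
            refine ⟨(tor q F).mul_mem ((tor q F).inv_mem (hst _)) y.1.2, ?_⟩
            have h := B.mul_mem (hsB ⟨(y.1 : G3) * y.2, C.mul_mem (htoC y.1.2) (hBC y.2.2)⟩) (B.inv_mem y.2.2)
            simpa [mul_assoc] using h⟩)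
        left_inv := fun x => by
          have e : (s x.1 * (x.2 : G3)) * ((x.2 : G3)⁻¹ * ((s x.1)⁻¹ * (x.1 : G3))) = (x.1 : G3) := by group
          refine Prod.ext (Subtype.ext e) (Subtype.ext ?_)
          show (s _)⁻¹ * (s x.1 * (x.2 : G3)) = (x.2 : G3)
          rw [show (⟨_, _⟩ : C) = x.1 from Subtype.ext e, inv_mul_cancel_left]
        right_inv := fun y => by
          refine Prod.ext (Subtype.ext ?_) (Subtype.ext ?_) <;> simp [mul_assoc] }
  -- the multiplier
  have hlam : ∀ g : B, ((g : G3) : M3) *ᵥ u = (((g : G3) : M3) *ᵥ u) i • u := fun g => by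
    obtain ⟨-, lam, -, h⟩ := (hmemB _).1 g.2
    rw [h, Pi.smul_apply, hui, smul_eq_mul, mul_one]
  have hlam0 : ∀ g : B, (((g : G3) : M3) *ᵥ u) i ≠ 0 := fun g h0 => hu0 (gl_mulVec_eq_zero.1 (by
    rw [hlam g, h0, zero_smul]))
  let ν : B →* Fˣ :=
    { toFun := fun g => (Units.mk0 _ (hlam0 g)) ^ (q + 1)
      map_one' := by
        rw [show Units.mk0 _ (hlam0 1) = 1 from Units.ext (by simp [hui]), one_pow]
      map_mul' := fun a b => by
        rw [← mul_pow]
        congr 1
        refine Units.ext ?_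
        rw [Units.val_mul, Units.val_mk0, Units.val_mk0, Units.val_mk0, Subgroup.coe_mul, gl_mul_mulVec, hlam b,
          mulVec_smul, Pi.smul_apply, smul_eq_mul, mul_comm, Pi.smul_apply, hui, smul_eq_mul, mul_one] }
  have hν : ∀ g : B, ((ν g : Fˣ) : F) = (((g : G3) : M3) *ᵥ u) i * σ ((((g : G3) : M3) *ᵥ u) i) := fun g => by
    rw [O.toStd.norm_eq]
    rfl
  have hrange : Nat.card ν.range ∣ q - 1 := by
    have hle : ν.range ≤ (powMonoidHom (q - 1) : Fˣ →* Fˣ).ker := by
      rintro _ ⟨g, rfl⟩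
      show ν g ^ (q - 1) = 1
      show ((Units.mk0 _ (hlam0 g)) ^ (q + 1)) ^ (q - 1) = 1
      rw [← pow_mul, show (q + 1) * (q - 1) = Fintype.card Fˣ by
        rw [Fintype.card_units, O.toStd.card]; simpa using (Nat.sq_sub_sq q 1).symm]
      exact pow_card_eq_one
    refine (Subgroup.card_dvd_of_le hle).trans ?_
    rw [IsCyclic.card_powMonoidHom_ker]
    exact Nat.gcd_dvd_right _ _
  have hAmul : ∀ g : B, ∀ c, TvIn σ f M u c → TvIn σ f M u (c * ν g) := by
    rintro g c ⟨hc, z, hz, hzx⟩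
    have hgM := ((hmemC _).1 (hBC g.2)).1
    refine ⟨by rw [map_mul, hν, map_mul, hc, hf.involutive]; ring, (g : G3) * z * (g : G3)⁻¹,
      M.mul_mem (M.mul_mem hgM hz) (M.inv_mem hgM), fun x => ?_⟩
    rw [gl_mul_mulVec, gl_mul_mulVec, hzx, mulVec_add, mulVec_smul, gl_mulVec_inv, hν,
      ← mem_isoU.1 (O.iso hgM) _ u, gl_mulVec_inv]
    conv_lhs => rw [hlam g, herm_smul_right hf, smul_smul]
    congr 2
    ring
  have hdiv : Nat.card ν.range ∣ Nat.card (O.tvGrp huu) - 1 := by
    obtain ⟨S, hS⟩ : ∃ S : Set Fˣ, S = {x : Fˣ | TvIn σ f M u (x : F)} := ⟨_, rfl⟩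
    have hpre : (QuotientGroup.mk : Fˣ → Fˣ ⧸ ν.range) ⁻¹' (QuotientGroup.mk '' S) = S := by
      refine Set.Subset.antisymm ?_ (Set.subset_preimage_image _ _)
      rintro x ⟨y, hy, hyx⟩
      obtain ⟨g, hg⟩ := QuotientGroup.eq.1 hyx
      rw [hS] at hy ⊢
      have := hAmul g _ hy
      rwa [hg, ← Units.val_mul, mul_inv_cancel_left] at this
    have hcard : Nat.card S = Nat.card (O.tvGrp huu) - 1 := by
      have h1 : Nat.card (O.tvGrp huu) = Nat.card S + 1 := by
        rw [← Finite.card_option, eq_comm]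
        refine Nat.card_congr (Equiv.ofBijective (fun o => o.elim 0 fun x => ⟨(x.1 : F), hS.le x.2⟩) ⟨?_, ?_⟩)
        · rintro (_ | a) (_ | b) h
          · rfl
          · exact absurd (congrArg Subtype.val h).symm b.1.ne_zero
          · exact absurd (congrArg Subtype.val h) a.1.ne_zero
          · exact congrArg _ (Subtype.ext (Units.ext (congrArg Subtype.val h :)))
        · rintro ⟨c, hc⟩
          by_cases hc0 : c = 0
          · exact ⟨none, Subtype.ext hc0.symm⟩
          · exact ⟨some ⟨Units.mk0 c hc0, by rw [hS]; exact hc⟩, rfl⟩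
      omega
    rw [← hcard, ← hpre]
    exact Dvd.intro _ (by rw [← Nat.card_prod]; exact (Nat.card_congr (QuotientGroup.preimageMkEquivSubgroupProdSet _ _)).symm)
  -- the kernel
  have hker : Nat.card ν.ker = (q + 1) * Nat.card (O.tvGrp huu) := by
    rw [← hTucard, ← Nat.card_prod]
    have htv : ∀ c : O.tvGrp huu, ∃ z : B, ∀ x, ((z : G3) : M3) *ᵥ x = x + ((c : F) * f x u) • u := by
      rintro ⟨c, hc, z, hz, hzx⟩
      refine ⟨⟨z, (hmemB _).2 ⟨(hmemC _).2 ⟨hz, 1, one_ne_zero, ?_⟩, 1, one_ne_zero, ?_⟩⟩, hzx⟩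
      · rw [hzx, O.toStd.std, H.sum, hul, huj, hui, hel]
        simp [H.il, H.jl]
      · rw [hzx, huu, mul_zero, zero_smul, add_zero, one_smul]
    choose z hz using htv
    have htu : ∀ t : Tu, ∃ d : Fin 3 → Fˣ, (t : G3) = mon 1 d ∧ ((t : G3) : M3) *ᵥ u = (d i : F) • u ∧
        d i ^ (q + 1) = 1 ∧ (t : G3) ∈ B := by
      rintro ⟨t, ht⟩
      rw [hTu] at ht
      obtain ⟨d, rfl, hd, -⟩ := (mem_tor_iff O.toStd).1 ht.1
      exact ⟨d, rfl, (hTuof d (hBC ht.2) (hTuval d ht.2)).2, hd i, ht.2⟩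
    choose d hd1 hd2 hd3 hd4 using htu
    have hφmem : ∀ x : Tu × O.tvGrp huu, (⟨_, hd4 x.1⟩ : B) * z x.2 ∈ ν.ker := by
      intro x
      refine Units.ext ?_
      rw [hν, Subgroup.coe_mul, gl_mul_mulVec, hz, huu, mul_zero, zero_smul, add_zero, hd2, Pi.smul_apply, hui,
        smul_eq_mul, mul_one, O.toStd.norm_eq, ← Units.val_pow_eq_pow_val, hd3]
    refine (Nat.card_congr (Equiv.ofBijective (fun x => (⟨_, hφmem x⟩ : ν.ker)) ⟨fun a b h => ?_, fun g => ?_⟩)).symm
    · have h' : (a.1 : G3) * (z a.2 : G3) = (b.1 : G3) * (z b.2 : G3) :=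
        congrArg (fun w : ν.ker => ((w : B) : G3)) h
      have e := congrArg (fun g : G3 => (g : M3) *ᵥ u) h'
      simp only [gl_mul_mulVec, hz, huu, mul_zero, zero_smul, add_zero, hd2] at e
      have hdi : d a.1 i = d b.1 i := Units.ext (smul_left_injective F hu0 e)
      have ha : a.1 = b.1 := by
        refine Subtype.ext ?_
        rw [hd1, hd1]
        congr 1
        funext k
        have hB1 := hd4 a.1
        have hB2 := hd4 b.1
        rw [hd1] at hB1 hB2
        have hM1 := ((hmemC _).1 (hBC hB1)).1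
        have hM2 := ((hmemC _).1 (hBC hB2)).1
        have hj1 := hTuval _ hB1
        have hj2 := hTuval _ hB2
        rcases H.all k with rfl | rfl | rfl
        · exact hdi
        · rw [← hj1, ← hj2, hdi]
        · have e1 : d a.1 i * d a.1 j * d a.1 k = 1 := Units.ext (by
            have := O.det_one hM1
            rw [det_mon, map_one, Units.val_one, Int.cast_one, one_mul, H.prod] at this
            simpa using this)
          have e2 : d b.1 i * d b.1 j * d b.1 k = 1 := Units.ext (by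
            have := O.det_one hM2
            rw [det_mon, map_one, Units.val_one, Int.cast_one, one_mul, H.prod] at this
            simpa using this)
          rw [eq_inv_of_mul_eq_one_right e1, eq_inv_of_mul_eq_one_right e2, ← hj1, ← hj2, hdi]
      refine Prod.ext ha (Subtype.ext ?_)
      rw [ha, mul_right_inj] at h'
      have e2 := congrArg (fun g : G3 => (g : M3) *ᵥ ei) h'
      simp only [hz, add_right_inj] at e2
      have := smul_left_injective F hu0 e2
      have hfi : f ei u = 1 := by rw [O.toStd.std, H.sum, hui, huj, hul, hei]; simp [H.ij.symm, H.il.symm]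
      rwa [hfi, mul_one, mul_one] at this
    · obtain ⟨lam, hlamdef⟩ : ∃ lam, lam = (((g : B) : G3) : M3) *ᵥ u := ⟨_, rfl⟩
      have hg1 : (Units.mk0 _ (hlam0 (g : B))) ^ (q + 1) = 1 := g.2
      obtain ⟨e, hei', hej', hel', heC⟩ := hdij _ _ hg1 hg1
      obtain ⟨heB, heu⟩ := hTuof e heC (by rw [hei', hej'])
      have heM := ((hmemC _).1 heC).1
      have heT : mon 1 e ∈ Tu := by
        rw [hTu]; exact ⟨(mem_tor_iff O.toStd).2 ⟨e, rfl, fun k => O.mon_data heM k, O.diag_prod heM⟩, heB⟩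
      obtain ⟨h, hh⟩ : ∃ h : G3, h = (mon 1 e)⁻¹ * ((g : B) : G3) := ⟨_, rfl⟩
      obtain ⟨hhM, μ, -, hhl⟩ := (hmemC h).1 (hh ▸ C.mul_mem (C.inv_mem heC) (hBC (g : B).2))
      have hhu : (h : M3) *ᵥ u = u := by
        have := congrArg (fun y => (((mon 1 e : G3)⁻¹ : G3) : M3) *ᵥ y) (heu.trans (by rw [hei', Units.val_mk0, ← hlam (g : B)]))
        simp only [gl_inv_mulVec] at this
        rw [hh, gl_mul_mulVec, ← this]
      obtain ⟨w, hw⟩ : ∃ w, w = (h : M3) *ᵥ ei := ⟨_, rfl⟩
      have hwl : w l = 0 := by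
        rw [hw, hei, mulVec_single_one]
        exact O.row_zero hhM (hel ▸ hhl) H.il
      obtain ⟨a, ha⟩ : ∃ a, a = w j / γ := ⟨_, rfl⟩
      have hwi : w i = 1 + a := by
        have h1 := mem_isoU.1 (O.iso hhM) ei u
        rw [← hw, hhu] at h1
        rw [show f ei u = 1 by rw [O.toStd.std, H.sum, hui, huj, hul, hei]; simp [H.ij.symm, H.il.symm],
          O.toStd.std, H.sum, hui, huj, hul, hwl, map_one, mul_one, zero_mul, add_zero] at h1
        rw [ha]
        field_simp
        linear_combination γ * h1 - w j * hγ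
      have hwj : w j = a * γ := by rw [ha, div_mul_cancel₀ _ hγ0]
      have hdiag : ∀ x, (h : M3) *ᵥ x = (x + (a * f x u) • u) + ((μ - 1) * x l) • el := by
        intro x
        have hx : x = (x j / γ) • u + (x i - x j / γ) • ei + x l • el := funext fun k => by
          rcases H.all k with rfl | rfl | rfl
          · simp [hu, hei, hej, hel, H.ij, H.il]
          · simp [hu, hei, hej, hel, H.ij.symm, H.jl, hγ0]
          · simp [hu, hei, hej, hel, H.il.symm, H.jl.symm]
        have hfx : f x u = x i - x j / γ := by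
          rw [O.toStd.std, H.sum, hui, huj, hul, map_one, map_zero, mul_one, mul_zero, add_zero]
          field_simp
          linear_combination x j * hγ
        rw [hfx]
        conv_lhs => rw [hx]
        rw [mulVec_add, mulVec_add, mulVec_smul, mulVec_smul, mulVec_smul, hhu, hhl, ← hw]
        funext k
        rcases H.all k with rfl | rfl | rfl
        · simp [hwi, hui, hel, H.il]; ring
        · simp [hwj, huj, hel, H.jl]; field_simp
        · simp [hwl, hul, hel]; ring
      have hμ : μ = 1 := by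
        have hdet := O.det_one hhM
        have hφ : (a • hv hf u) ⬝ᵥ u = 0 := by rw [smul_dotProduct, hv_dot, huu, smul_zero]
        obtain ⟨dμ, hdμ⟩ : ∃ d : Fin 3 → Fˣ, d = fun k => if k = l then Units.mk0 μ (fun h0 => by
            rw [h0, zero_smul, gl_mulVec_eq_zero] at hhl; exact hel0 hhl) else 1 := ⟨_, rfl⟩
        have e : h = tv u (a • hv hf u) hφ * mon 1 dμ := gl_ext_vec fun x => by
          have hfx' : f ((mon 1 dμ : M3) *ᵥ x) u = f x u := by
            rw [O.toStd.std, O.toStd.std, H.sum, H.sum, hul]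
            simp [mon_mulVec, hdμ, H.il, H.jl, Equiv.Perm.one_symm]
          rw [gl_mul_mulVec, tv_mulVec, smul_dotProduct, hv_dot, hfx', hdiag, smul_eq_mul,
            add_right_comm]
          congr 1
          funext k
          simp only [Pi.add_apply, mon_mulVec, Equiv.Perm.one_symm, Equiv.Perm.one_apply, hdμ, Pi.smul_apply, hel]
          by_cases hk : k = l
          · simp [hk]; ring
          · simp [hk]
        rw [e, Units.val_mul, det_mul, ThreeDim.det_one_of_mem le_rfl (tv_mem_SL _ _ hφ), one_mul, det_mon, hdμ] at hdet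
        rw [map_one, Units.val_one, Int.cast_one, one_mul, H.prod] at hdet
        simpa [H.il, H.jl] using hdet
      have hσa : σ a = -a := by
        have h1 := mem_isoU.1 (O.iso hhM) ei ei
        rw [← hw, O.toStd.std, H.sum, hwl, hwi, hwj,
          show f ei ei = 1 by rw [hei]; exact O.toStd.single_single i] at h1
        simp only [map_mul, map_add, map_one, zero_mul, add_zero] at h1
        linear_combination h1 - a * σ a * hγ
      have hzmem : TvIn σ f M u a := ⟨hσa, h, hhM, fun x => by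
        rw [hdiag, hμ, sub_self, zero_mul, zero_smul, add_zero]⟩
      refine ⟨(⟨_, heT⟩, ⟨a, hzmem⟩), Subtype.ext (Subtype.ext ?_)⟩
      show (mon 1 e : G3) * (z ⟨a, hzmem⟩ : G3) = ((g : B) : G3)
      rw [show (z ⟨a, hzmem⟩ : G3) = h from gl_ext_vec fun x => by
        rw [hz, hdiag, hμ, sub_self, zero_mul, zero_smul, add_zero], hh, mul_inv_cancel_left]
  refine ⟨Nat.card ν.range, hrange, hdiv, Nat.eq_of_mul_eq_mul_right (show 0 < q + 1 by omega) ?_⟩
  rw [hkey, ← Subgroup.card_mul_index ν.ker, Subgroup.index_ker, hker]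
  ring

/-- the other frames of the plane -/
theorem plane_frames {i j l : Fin 3} (H : Idx i j l) :
    ∃ k, Nat.card (M ⊓ subspaceStabilizer (Submodule.span F ({Pi.single l 1} : Set V3)) : Subgroup G3) =
        2 * (q + 1) ^ 2 * k ∧ q + 1 ∣ 2 * (k - 1) ∧
      (k = 1 → ∀ g ∈ M, ∀ μ : F, (g : M3) *ᵥ Pi.single l 1 = μ • Pi.single l 1 → Mono g) := by
  classical
  have hel0 : (Pi.single l 1 : V3) ≠ 0 := fun h => by simpa using congrFun h l
  obtain ⟨C, hC⟩ : ∃ C : Subgroup G3, C = M ⊓ subspaceStabilizer (Submodule.span F ({Pi.single l 1} : Set V3)) :=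
    ⟨_, rfl⟩
  rw [← hC]
  have hmemC : ∀ g, g ∈ C ↔ g ∈ M ∧ ∃ μ : F, μ ≠ 0 ∧ (g : M3) *ᵥ Pi.single l 1 = μ • Pi.single l 1 := fun g => by
    rw [hC]; exact mem_line hel0
  have htorC : tor q F ≤ C := fun t ht => by
    obtain ⟨d, rfl, hd, hp⟩ := (mem_tor_iff O.toStd).1 ht
    exact (hmemC _).2 ⟨O.diag_mem hd hp, d l, (d l).ne_zero, eq_mon_smul l⟩
  obtain ⟨w, hwdef⟩ : ∃ w : G3, w = mon (Equiv.swap i j) (fun k => if k = l then -1 else 1) := ⟨_, rfl⟩
  have hwC : w ∈ C := (hmemC _).2 ⟨hwdef ▸ O.swap_mem H, -1, neg_ne_zero.2 one_ne_zero, by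
    rw [hwdef, mon_mulVec_single, Equiv.swap_apply_of_ne_of_ne H.il.symm H.jl.symm, ← Pi.single_smul]
    simp⟩
  -- the monomial part
  have hperm : ∀ π d, mon π d ∈ C → π = 1 ∨ π = Equiv.swap i j := by
    intro π d h
    obtain ⟨-, μ, hμ, he⟩ := (hmemC _).1 h
    rw [mon_mulVec_single, mul_one] at he
    have hπl : π l = l := by
      by_contra hne
      have := congrFun he (π l)
      simp [hne] at this
    rcases H.all (π i) with e | e | e
    · left
      refine Equiv.ext fun k => ?_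
      rcases H.all k with rfl | rfl | rfl
      · exact e
      · rcases H.all (π k) with e' | e' | e'
        · exact absurd (π.injective (e'.trans e.symm)) H.ij.symm
        · exact e'
        · exact absurd (π.injective (e'.trans hπl.symm)) H.jl
      · exact hπl
    · right
      refine Equiv.ext fun k => ?_
      rcases H.all k with rfl | rfl | rfl
      · rw [Equiv.swap_apply_left]; exact e
      · rw [Equiv.swap_apply_right]
        rcases H.all (π k) with e' | e' | e'
        · exact e'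
        · exact absurd (π.injective (e'.trans e.symm)) H.ij.symm
        · exact absurd (π.injective (e'.trans hπl.symm)) H.jl
      · rw [Equiv.swap_apply_of_ne_of_ne H.il.symm H.jl.symm]; exact hπl
    · exact absurd (π.injective (e.trans hπl.symm)) H.il
  obtain ⟨Nl, hNl⟩ : ∃ Nl : Subgroup G3, Nl = C ⊓ monoSub F := ⟨_, rfl⟩
  have hdiagmem : ∀ d, mon 1 d ∈ C → mon 1 d ∈ tor q F := fun d h => by
    have hM' := ((hmemC _).1 h).1
    exact (mem_tor_iff O.toStd).2 ⟨d, rfl, fun k => O.mon_data hM' k, O.diag_prod hM'⟩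
  have hNcard : Nat.card Nl = 2 * (q + 1) ^ 2 := by
    rw [← card_tor O.toStd, two_mul, ← Nat.card_sum]
    have hmem : ∀ x : tor q F ⊕ tor q F,
        x.elim (fun t : tor q F => (t : G3)) (fun t : tor q F => w * (t : G3)) ∈ Nl := by
      rw [hNl]
      rintro (t | t)
      · obtain ⟨d, hd, -⟩ := (mem_tor_iff O.toStd).1 t.2
        exact ⟨htorC t.2, ⟨_, _, hd⟩⟩
      · obtain ⟨d, hd, -⟩ := (mem_tor_iff O.toStd).1 t.2
        exact ⟨C.mul_mem hwC (htorC t.2), Mono.mul ⟨_, _, hwdef⟩ ⟨_, _, hd⟩⟩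
    refine (Nat.card_congr (Equiv.ofBijective (fun x => (⟨_, hmem x⟩ : Nl)) ⟨?_, ?_⟩)).symm
    · have hne : ∀ t t' : tor q F, (t : G3) ≠ w * t' := by
        intro t t' h
        obtain ⟨d, hd, -⟩ := (mem_tor_iff O.toStd).1 t.2
        obtain ⟨d', hd', -⟩ := (mem_tor_iff O.toStd).1 t'.2
        rw [hd, hd', hwdef, mon_mul, mul_one] at h
        have := Equiv.ext_iff.1 (mon_perm_inj h) i
        rw [Equiv.swap_apply_left, Equiv.Perm.one_apply] at this
        exact H.ij this
      rintro (a | a) (b | b) h <;> have h' := congrArg Subtype.val h <;> simp only [Sum.elim_inl, Sum.elim_inr] at h'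
      · exact congrArg _ (Subtype.ext h')
      · exact absurd h' (hne a b)
      · exact absurd h'.symm (hne b a)
      · exact congrArg _ (Subtype.ext (mul_left_cancel h'))
    · rintro ⟨g, hg⟩
      rw [hNl] at hg
      obtain ⟨hgC, π, d, rfl⟩ := hg
      rcases hperm π d hgC with rfl | rfl
      · exact ⟨.inl ⟨_, hdiagmem d hgC⟩, rfl⟩
      · have h' := C.mul_mem (C.inv_mem hwC) hgC
        have e : ∃ d', w⁻¹ * mon (Equiv.swap i j) d = mon 1 d' := ⟨_, by
          rw [hwdef, mon_inv, mon_mul, inv_mul_cancel]⟩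
        obtain ⟨d', hd'⟩ := e
        rw [hd'] at h'
        exact ⟨.inr ⟨_, hdiagmem d' h'⟩, Subtype.ext (by show w * mon 1 d' = _; rw [← hd', mul_inv_cancel_left])⟩
  have hle : Nl ≤ C := hNl ▸ inf_le_left
  obtain ⟨k, hk⟩ : ∃ k, k = (Nl.subgroupOf C).index := ⟨_, rfl⟩
  have hcardC : Nat.card C = 2 * (q + 1) ^ 2 * k := by
    rw [← hNcard, hk, ← Subgroup.card_mul_index (Nl.subgroupOf C), Nat.card_congr (Subgroup.subgroupOfEquivOfLe hle).toEquiv]
  refine ⟨k, hcardC, ?_, fun hk1 g hg μ hgl => ?_⟩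
  · -- orbits of the torus
    let φ : tor q F →* C := Subgroup.inclusion htorC
    have hfix : φ.range ≤ Nl.subgroupOf C := by
      rintro _ ⟨t, rfl⟩
      rw [Subgroup.mem_subgroupOf, hNl]
      obtain ⟨d, hd, -⟩ := (mem_tor_iff O.toStd).1 t.2
      exact ⟨htorC t.2, ⟨_, _, hd⟩⟩
    have key := dvd_index_pred φ (Nl.subgroupOf C) hfix (n := (q + 1) ^ 2) (b := 2 * (q + 1))
      (dvd_of_eq (card_tor O.toStd).symm) fun g hg S hS => ?_
    · rw [← hk, sq, mul_assoc 2, mul_left_comm] at key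
      exact Nat.dvd_of_mul_dvd_mul_left (Nat.succ_pos q) key
    -- squares of stabilising elements are scalar on the plane
    have hgC := g.2
    obtain ⟨hgM, μ, -, hgl⟩ := (hmemC _).1 hgC
    have hgm : ¬ Mono ((g : C) : G3) := fun h => hg (by rw [Subgroup.mem_subgroupOf, hNl]; exact ⟨hgC, h⟩)
    obtain ⟨r, hri, hrj⟩ : ∃ r, ((g : C) : G3).1 i r ≠ 0 ∧ ((g : C) : G3).1 j r ≠ 0 := by
      by_contra hcon
      push Not at hcon
      refine hgm (mono_of_cols fun c => ?_)
      by_cases hc : c = l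
      · subst hc
        refine ⟨c, fun s hs => ?_⟩
        have := congrFun hgl s
        rw [mulVec_single_one] at this
        simpa [hs] using this
      · by_cases h0 : ((g : C) : G3).1 i c = 0
        · refine ⟨j, fun s hs => ?_⟩
          rcases H.all s with rfl | rfl | rfl
          · exact h0
          · exact absurd rfl hs
          · exact O.row_zero hgM hgl hc
        · refine ⟨i, fun s hs => ?_⟩
          rcases H.all s with rfl | rfl | rfl
          · exact absurd rfl hs
          · exact hcon c h0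
          · exact O.row_zero hgM hgl hc
    have hsq : ∀ t ∈ S, ∀ d : Fin 3 → Fˣ, ((t : tor q F) : G3) = mon 1 d → d i * d i = d j * d j := by
      intro t ht d hd
      have h := hS t ht
      rw [Subgroup.mem_subgroupOf, hNl] at h
      obtain ⟨hmC, π, e, he⟩ := h
      have he' : ((g : C) : G3)⁻¹ * mon 1 d * ((g : C) : G3) = mon π e := by rw [← hd]; exact he
      rw [show ((((g : C))⁻¹ * φ t * (g : C) : C) : G3) = _ from he] at hmC
      obtain ⟨e', he2⟩ : ∃ e', (mon π e : G3) * mon π e = mon 1 e' := by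
        rcases hperm π e hmC with rfl | rfl
        · exact ⟨_, by rw [mon_mul, one_mul]⟩
        · exact ⟨_, by rw [mon_mul, Equiv.swap_mul_self]⟩
      have hcomm : mon 1 (fun s => d s * d s) * ((g : C) : G3) = ((g : C) : G3) * mon 1 e' := by
        have hdd : (mon 1 d : G3) * mon 1 d = mon 1 (fun s => d s * d s) := by rw [mon_mul, one_mul]; rfl
        rw [← he2, ← he', ← hdd]
        group
      have hij : ∀ s, ((g : C) : G3).1 s r ≠ 0 → (d s * d s : Fˣ) = e' r := fun s hs => by
        have := congrArg (fun A : G3 => (A : M3) s r) hcomm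
        rw [Units.val_mul, Units.val_mul, Matrix.mul_apply, Matrix.mul_apply, Finset.sum_eq_single s, Finset.sum_eq_single r] at this
        rotate_left
        · intro b _ hb; rw [mon_apply, if_neg (by simpa using hb), mul_zero]
        · simp
        · intro b _ hb; rw [mon_apply, if_neg (by simpa using hb.symm), zero_mul]
        · simp
        rw [mon_apply, mon_apply, if_pos (by simp), if_pos (by simp), Units.val_mul] at this
        refine Units.ext (mul_right_cancel₀ hs ?_)
        rw [Units.val_mul]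
        rw [mul_comm _ (e' r : F)] at this
        exact this
      exact (hij i hri).trans (hij j hrj).symm
    -- count
    have hd : ∀ t : tor q F, ∃ d : Fin 3 → Fˣ, (t : G3) = mon 1 d ∧ (∀ s, d s ^ (q + 1) = 1) ∧ d 0 * d 1 * d 2 = 1 :=
      fun t => (mem_tor_iff O.toStd).1 t.2
    choose d hd1 hd2 hd3 using hd
    let ψ : tor q F →* Fˣ :=
      { toFun := fun t => d t i / d t j
        map_one' := by
          have := mon_d_inj (show (mon 1 (d 1) : G3) = mon 1 (fun _ => 1) by rw [← hd1, mon_one]; rfl)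
          simp [this]
        map_mul' := fun a b => by
          have := mon_d_inj (show (mon 1 (d (a * b)) : G3) = mon 1 (fun s => d a s * d b s) by
            rw [← hd1, Subgroup.coe_mul, hd1 a, hd1 b, mon_mul, one_mul]; rfl)
          rw [this]
          exact mul_div_mul_comm _ _ _ _ }
    have hrange : (ψ.domRestrict S).range ≤ (powMonoidHom 2 : Fˣ →* Fˣ).ker := by
      rintro _ ⟨⟨t, ht⟩, rfl⟩
      show (d t i / d t j) ^ 2 = 1
      rw [div_pow, sq, sq, hsq t ht _ (hd1 t), div_self']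
    have hk2 : Nat.card (ψ.domRestrict S).range ∣ 2 := (Subgroup.card_dvd_of_le hrange).trans (by
      rw [IsCyclic.card_powMonoidHom_ker]; exact Nat.gcd_dvd_right _ _)
    have hkerψ : Nat.card (ψ.domRestrict S).ker ∣ q + 1 := by
      let χ : ψ.ker →* N1 :=
        { toFun := fun t => ⟨d t.1 i, hd2 _ _⟩
          map_one' := Subtype.ext (by
            have := mon_d_inj (show (mon 1 (d 1) : G3) = mon 1 (fun _ => 1) by rw [← hd1, mon_one]; rfl)
            show d (1 : tor q F) i = 1
            simp [this])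
          map_mul' := fun a b => Subtype.ext (by
            have := mon_d_inj (show (mon 1 (d ((a : tor q F) * b)) : G3) = mon 1 (fun s => d a.1 s * d b.1 s) by
              rw [← hd1, Subgroup.coe_mul, hd1 a.1, hd1 b.1, mon_mul, one_mul]; rfl)
            show d ((a : tor q F) * b) i = _
            rw [this]
            rfl) }
      have hχ : Function.Injective χ := fun a b h => by
        have hi : d a.1 i = d b.1 i := congrArg Subtype.val h
        have hja : d a.1 i = d a.1 j := div_eq_one.1 a.2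
        have hjb : d b.1 i = d b.1 j := div_eq_one.1 b.2
        refine Subtype.ext (Subtype.ext ?_)
        rw [hd1, hd1]
        congr 1
        funext s
        rcases H.all s with rfl | rfl | rfl
        · exact hi
        · rw [← hja, ← hjb, hi]
        · have hp : ∀ t : tor q F, d t i * d t j * d t s = 1 := fun t => Units.ext (by
            have := congrArg Units.val (hd3 t)
            simp only [Units.val_mul, Units.val_one] at this ⊢
            rw [← H.prod fun r => (d t r : F), Fin.prod_univ_three]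
            exact this)
          rw [eq_inv_of_mul_eq_one_right (hp a.1), eq_inv_of_mul_eq_one_right (hp b.1), ← hja, ← hjb, hi]
      have h1 := Subgroup.card_dvd_of_injective χ hχ
      rw [O.toStd.card_norm_one] at h1
      refine (Subgroup.card_dvd_of_injective
        ({ toFun := fun t => (⟨(t.1 : tor q F), t.2⟩ : ψ.ker)
           map_one' := rfl
           map_mul' := fun _ _ => rfl } : (ψ.domRestrict S).ker →* ψ.ker) fun a b h => ?_).trans h1
      exact Subtype.ext (Subtype.ext (congrArg (fun x : ψ.ker => (x : tor q F)) h))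
    rw [← Subgroup.card_mul_index (ψ.domRestrict S).ker, Subgroup.index_ker, mul_comm 2]
    exact mul_dvd_mul hkerψ hk2
  · have hgC : g ∈ C := (hmemC g).2 ⟨hg, μ, fun h0 => by
      rw [h0, zero_smul, gl_mulVec_eq_zero] at hgl; exact hel0 hgl, hgl⟩
    have htop := Subgroup.index_eq_one.1 (hk.symm.trans hk1)
    have : (⟨g, hgC⟩ : C) ∈ Nl.subgroupOf C := htop ▸ Subgroup.mem_top _
    rw [Subgroup.mem_subgroupOf, hNl] at this
    exact this.2

end Plane

/-- either a full transvection group, or monomial point stabilisers with few transvections -/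
theorem plane_dichotomy {p : ℕ} (hp : p.Prime) [CharP F p] (hq3 : 3 ≤ q) {i j l : Fin 3} (H : Idx i j l) {γ : F}
    (hγ : γ * σ γ = -1) :
    (∀ c : F, σ c = -c → TvIn σ f M (Pi.single i 1 + γ • Pi.single j 1) c) ∨
      ((∀ g ∈ M, ∀ μ : F, (g : M3) *ᵥ Pi.single l 1 = μ • Pi.single l 1 → Mono g) ∧
        Nat.card (O.tvGrp (iso_vec O.toStd H hγ)) ≤ 2 ∧
        (p ≠ 2 → Nat.card (O.tvGrp (iso_vec O.toStd H hγ)) = 1)) := by
  classical
  obtain ⟨r, hr1, hr2, hcard⟩ := O.plane_formula H hγ
  obtain ⟨k, hcard', hk, hmono⟩ := O.plane_frames H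
  obtain ⟨A, hA⟩ : ∃ A, A = Nat.card (O.tvGrp (iso_vec O.toStd H hγ)) := ⟨_, rfl⟩
  rw [← hA] at hr2 hcard ⊢
  have hAr : A * r = 2 * k := Nat.eq_of_mul_eq_mul_left (show 0 < (q + 1) ^ 2 by positivity)
    (by rw [← mul_assoc, ← hcard, hcard']; ring)
  obtain ⟨n, hp', hn⟩ := FiniteField.card F p
  obtain ⟨m, -, hm⟩ : ∃ m ≤ (n : ℕ), q = p ^ m :=
    (Nat.dvd_prime_pow hp').1 (hn ▸ O.toStd.card ▸ dvd_pow_self q two_ne_zero)
  have hAdvd : A ∣ p ^ (n : ℕ) := by
    rw [← hn, ← Nat.card_eq_fintype_card, hA]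
    exact AddSubgroup.card_addSubgroup_dvd_card _
  obtain ⟨a, -, ha⟩ := (Nat.dvd_prime_pow hp').1 hAdvd
  have hAq : A ≤ q := hA ▸ O.card_tvGrp_le _
  have hr0 : 0 < r := Nat.pos_of_ne_zero fun e => by rw [e] at hr1; simp at hr1; omega
  have hrq : r ≤ q - 1 := Nat.le_of_dvd (by omega) hr1
  rcases lt_or_eq_of_le hAq with hlt | heq
  · right
    have hprod : A * r ≤ q := by
      have ham : a < m := by
        rw [ha, hm] at hlt
        exact (Nat.pow_lt_pow_iff_right hp'.one_lt).1 hlt
      rcases Nat.eq_zero_or_pos a with rfl | hapos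
      · rw [ha, pow_zero, one_mul]; omega
      have hco : Nat.Coprime r (p ^ a) := Nat.Coprime.pow_right a (Nat.Coprime.symm
        ((hp'.coprime_iff_not_dvd).2 fun h => by
          have h1 := h.trans hr2
          rw [ha] at h1
          have h2 : p ∣ p ^ a := dvd_pow_self p hapos.ne'
          have := Nat.dvd_sub h2 h1
          rw [Nat.sub_sub_self (Nat.one_le_pow _ _ hp'.pos)] at this
          exact hp'.one_lt.ne' (Nat.dvd_one.1 this)))
      have hr3 : r ∣ p ^ (m - a) - 1 := hco.dvd_of_dvd_mul_left (by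
        rw [Nat.mul_sub_one, ← pow_add, Nat.add_sub_cancel' ham.le, ← hm]
        rw [ha] at hr2
        have := Nat.dvd_sub hr1 hr2
        rwa [show q - 1 - (p ^ a - 1) = q - p ^ a by
          have := Nat.one_le_pow a p hp'.pos; omega] at this)
      have hlt' : r < p ^ (m - a) := by
        have h1 : 1 < p ^ (m - a) := Nat.one_lt_pow (by omega) hp'.one_lt
        have := Nat.le_of_dvd (by omega) hr3
        omega
      rw [ha]
      calc p ^ a * r ≤ p ^ a * p ^ (m - a) := Nat.mul_le_mul_left _ hlt'.le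
        _ = q := by rw [← pow_add, Nat.add_sub_cancel' ham.le, hm]
    have hk1 : k = 1 := by
      have hpos : 0 < k := Nat.pos_of_ne_zero fun e => by
        rw [e, mul_zero] at hAr
        rcases Nat.mul_eq_zero.1 hAr with h | h
        · rw [ha] at h; exact absurd h (pow_ne_zero _ hp'.ne_zero)
        · omega
      rcases Nat.eq_zero_or_pos (2 * (k - 1)) with h | h
      · omega
      · have := Nat.le_of_dvd h hk
        omega
    rw [hk1, mul_one] at hAr
    refine ⟨hmono hk1, Nat.le_of_dvd two_pos ⟨r, hAr.symm⟩, fun hp2 => ?_⟩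
    have hA2 : A ∣ 2 := ⟨r, hAr.symm⟩
    rcases (Nat.dvd_prime Nat.prime_two).1 hA2 with e | e
    · exact e
    · exfalso
      rcases Nat.eq_zero_or_pos a with rfl | hapos
      · simp [ha] at e
      exact hp2 ((Nat.prime_dvd_prime_iff_eq hp' Nat.prime_two).1 (e ▸ ha ▸ dvd_pow_self p hapos.ne'))
  · left
    intro c hc
    -- all coefficients occur
    let P : Polynomial F := Polynomial.X ^ q + Polynomial.X
    have hP0 : P ≠ 0 := fun e => by
      have := congrArg (fun r : Polynomial F => r.coeff 1) e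
      simp [P, Polynomial.coeff_X_pow, show (1 : ℕ) ≠ q by omega] at this
    have hdeg : P.natDegree ≤ q :=
      (Polynomial.natDegree_add_le _ _).trans (max_le (Polynomial.natDegree_X_pow_le q)
        (Polynomial.natDegree_X_le.trans (by omega)))
    have hroot : ∀ x : F, σ x = -x → x ∈ P.roots.toFinset := fun x hx => by
      rw [Multiset.mem_toFinset, Polynomial.mem_roots hP0]
      simp [P, Polynomial.IsRoot, ← O.toStd.frob, hx]
    obtain ⟨T, hT⟩ : ∃ T : Finset F, T = Finset.univ.filter fun x => x ∈ O.tvGrp (iso_vec O.toStd H hγ) := ⟨_, rfl⟩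
    have hTcard : T.card = q := by
      rw [hT, ← Fintype.card_subtype]
      exact (Nat.card_eq_fintype_card (α := {x // x ∈ O.tvGrp (iso_vec O.toStd H hγ)})).symm.trans (hA.symm.trans heq)
    have hsub : T ⊆ P.roots.toFinset := fun x hx => hroot x (by
      rw [hT] at hx
      exact (Finset.mem_filter.1 hx).2.1)
    have := Finset.eq_of_subset_of_card_le hsub
      ((Multiset.toFinset_card_le _).trans ((Polynomial.card_roots' P).trans (hdeg.trans hTcard.ge)))
    have hc' := hroot c hc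
    rw [← this, hT] at hc'
    exact (Finset.mem_filter.1 hc').2

end Over

end CfsgLib.Perm.Trans.UnitThree
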