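import Cfsg.Agent.Lib.Perm.Trans.UnitThree.MonoNoTv
import Cfsg.Agent.Lib.Perm.Trans.UnitThree.EvenTv

/-!
# The Sylow subgroups of the defining characteristic

A subgroup of order a power of the characteristic fixes an isotropic point; with few transvections at each
centre it has order at most `q`, or at most eight in characteristic two.
-/

set_option autoImplicit false
set_option linter.all false

namespace CfsgLib.Perm.Trans.UnitThree

open scoped Matrix
open Matrix Cfsg.Geo CfsgLib.Perm.Asch CfsgLib.Perm.Trans CfsgLib.Perm.Trans.Unit CfsgLib.Perm.LinDecomp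
open CfsgLib.Perm.Trans.ThreeDim (Idx dg dg_prod exists_idx monoSub)

variable {F : Type*} [Field F] [Fintype F] {q : ℕ} {σ : F ≃+* F}
variable {f : (Fin 3 → F) → (Fin 3 → F) → F}

local notation "M3" => Matrix (Fin 3) (Fin 3) F
local notation "G3" => GL (Fin 3) F
local notation "V3" => Fin 3 → F

omit [Fintype F] in
theorem one_of_pow_char {p : ℕ} [Fact p.Prime] [CharP F p] {x : F} {j : ℕ} (h : x ^ p ^ j = 1) : x = 1 := by
  have h' : (x - 1) ^ p ^ j = 0 := by rw [sub_pow_char_pow, h, one_pow, sub_self]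
  exact sub_eq_zero.1 (pow_eq_zero_iff (pow_ne_zero _ (Fact.out : p.Prime).ne_zero) |>.1 h')

/-- an invariant nonzero subgroup contains a fixed nonzero vector -/
theorem exists_fixed_vec {p : ℕ} [Fact p.Prime] [CharP F p] {S : Subgroup G3} (hS : IsPGroup p S)
    (A : AddSubgroup V3) (hA : ∀ g ∈ S, ∀ x ∈ A, (g : M3) *ᵥ x ∈ A) (hne : ∃ x ∈ A, x ≠ 0) :
    ∃ x ∈ A, x ≠ 0 ∧ ∀ g ∈ S, (g : M3) *ᵥ x = x := by
  letI : MulAction S A :=
    { smul := fun g x => ⟨((g : G3) : M3) *ᵥ x, hA g g.2 x x.2⟩
      one_smul := fun x => Subtype.ext (one_mulVec _)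
      mul_smul := fun g h x => Subtype.ext (gl_mul_mulVec _ _ _) }
  obtain ⟨x, hx, hx0⟩ := hne
  have hord : addOrderOf (⟨x, hx⟩ : A) = p :=
    addOrderOf_eq_prime (Subtype.ext (funext fun k => by simp)) fun h => hx0 (by simpa using congrArg Subtype.val h)
  have hdvd : p ∣ Nat.card A := hord ▸ addOrderOf_dvd_natCard (⟨x, hx⟩ : A)
  obtain ⟨w, hw, hw0⟩ := IsPGroup.exists_fixed_point_of_prime_dvd_card_of_fixed_point (p := p) hS A hdvd
    (a := (0 : A)) fun g => Subtype.ext (mulVec_zero ((g : G3) : M3))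
  exact ⟨w, w.2, fun h => hw0 (Subtype.ext h.symm), fun g hg => congrArg Subtype.val (hw ⟨g, hg⟩)⟩

/-- a nontrivial subgroup of prime power order fixes an isotropic vector -/
theorem fixed_iso (hf : IsUnitaryForm σ f) {p : ℕ} [Fact p.Prime] [CharP F p] {S : Subgroup G3}
    (hS : IsPGroup p S) (hSU : S ≤ isoU f) (hne : S ≠ ⊥) :
    ∃ u, u ≠ 0 ∧ f u u = 0 ∧ ∀ g ∈ S, (g : M3) *ᵥ u = u := by
  by_contra hcon
  push Not at hcon
  have haniso : ∀ x, x ≠ 0 → (∀ g ∈ S, (g : M3) *ᵥ x = x) → f x x ≠ 0 := fun x hx hfx hxx => by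
    obtain ⟨g, hg, hgx⟩ := hcon x hx hxx
    exact hgx (hfx g hg)
  obtain ⟨a, -, ha, hafix⟩ := exists_fixed_vec hS ⊤ (fun _ _ _ _ => trivial)
    ⟨Pi.single 0 1, trivial, fun h => by simpa using congrFun h 0⟩
  have haa := haniso a ha hafix
  let A : AddSubgroup V3 :=
    { carrier := {x | f x a = 0}
      zero_mem' := herm_zero_left hf _
      add_mem' := fun {x y} hx hy => by
        show f (x + y) a = 0
        rw [hf.add_left, show f x a = 0 from hx, show f y a = 0 from hy, add_zero]
      neg_mem' := fun {x} hx => by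
        show f (-x) a = 0
        rw [← neg_one_smul F x, hf.smul_left, show f x a = 0 from hx, mul_zero] }
  have hAinv : ∀ g ∈ S, ∀ x ∈ A, (g : M3) *ᵥ x ∈ A := fun g hg x hx => by
    show f _ a = 0
    rw [← hafix g hg, mem_isoU.1 (hSU hg)]
    exact hx
  obtain ⟨e, -, hea, -, -, -, -, he0, -, -⟩ := exists_pair_perp hf (by simp) haa
  obtain ⟨b, hb, hb0, hbfix⟩ := exists_fixed_vec hS A hAinv ⟨e, hea, he0⟩
  have hbb := haniso b hb0 hbfix
  let L : V3 →ₗ[F] F × F :=
    { toFun := fun x => (f x a, f x b)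
      map_add' := fun x y => by simp [hf.add_left]
      map_smul' := fun c x => by simp [hf.smul_left] }
  have hker : LinearMap.ker L ≠ ⊥ := by
    refine LinearMap.ker_ne_bot_of_finrank_lt ?_
    rw [Module.finrank_prod, Module.finrank_self, Module.finrank_fin_fun]
    norm_num
  obtain ⟨r, hr, hr0⟩ := Submodule.exists_mem_ne_zero_of_ne_bot hker
  obtain ⟨c, hc, hc0, hcfix⟩ := exists_fixed_vec hS (LinearMap.ker L).toAddSubgroup (fun g hg x hx => by
    have hx' : f x a = 0 ∧ f x b = 0 := ⟨congrArg Prod.fst (LinearMap.mem_ker.1 hx), congrArg Prod.snd (LinearMap.mem_ker.1 hx)⟩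
    refine LinearMap.mem_ker.2 (Prod.ext ?_ ?_)
    · show f _ a = 0
      rw [← hafix g hg, mem_isoU.1 (hSU hg)]
      exact hx'.1
    · show f _ b = 0
      rw [← hbfix g hg, mem_isoU.1 (hSU hg)]
      exact hx'.2) ⟨r, hr, hr0⟩
  have hcc := haniso c hc0 hcfix
  have hca : f c a = 0 := congrArg Prod.fst (LinearMap.mem_ker.1 hc)
  have hcb : f c b = 0 := congrArg Prod.snd (LinearMap.mem_ker.1 hc)
  have hba : f b a = 0 := hb
  have hli : LinearIndependent F ![a, b, c] := by
    rw [Fintype.linearIndependent_iff]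
    intro g hg i
    rw [Fin.sum_univ_three] at hg
    simp only [Matrix.cons_val_zero, Matrix.cons_val_one, Matrix.cons_val] at hg
    have k1 := congrArg (fun x => f x a) hg
    have k2 := congrArg (fun x => f x b) hg
    have k3 := congrArg (fun x => f x c) hg
    simp only [hf.add_left, hf.smul_left, herm_zero_left hf, hba, hca, hcb, herm_swap_zero hf hba,
      herm_swap_zero hf hca, herm_swap_zero hf hcb, mul_zero, add_zero, zero_add, mul_eq_zero, haa, hbb, hcc,
      or_false] at k1 k2 k3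
    fin_cases i <;> assumption
  refine hne ((Subgroup.eq_bot_iff_forall S).2 fun g hg => gl_ext_vec fun x => ?_)
  rw [Units.val_one, one_mulVec]
  have hx : x ∈ Submodule.span F (Set.range ![a, b, c]) := by
    rw [hli.span_eq_top_of_card_eq_finrank (by simp)]
    exact Submodule.mem_top
  obtain ⟨t, ht⟩ := (Submodule.mem_span_range_iff_exists_fun F).1 hx
  rw [← ht, Fin.sum_univ_three]
  simp only [Matrix.cons_val_zero, Matrix.cons_val_one, Matrix.cons_val, mulVec_add, mulVec_smul, hafix g hg,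
    hbfix g hg, hcfix g hg]

/-- coordinates at an isotropic vector -/
theorem iso_coords (hf : IsUnitaryForm σ f) {u : V3} (hu : u ≠ 0) (huu : f u u = 0) :
    ∃ v e, f v v = 0 ∧ f u v = 1 ∧ f v u = 1 ∧ f e u = 0 ∧ f e v = 0 ∧ f e e ≠ 0 ∧
      ∀ x, x = f x v • u + f x u • v + (f x e / f e e) • e := by
  obtain ⟨y, hy⟩ := (hf.nondegenerate u hu).2
  obtain ⟨v, -, hvv, huv, hvu⟩ := exists_partner hf (X := ⊤) Submodule.mem_top huu (y := y) Submodule.mem_top hy
  let L : V3 →ₗ[F] F × F :=
    { toFun := fun x => (f x u, f x v)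
      map_add' := fun x y => by simp [hf.add_left]
      map_smul' := fun c x => by simp [hf.smul_left] }
  have hker : LinearMap.ker L ≠ ⊥ := by
    refine LinearMap.ker_ne_bot_of_finrank_lt ?_
    rw [Module.finrank_prod, Module.finrank_self, Module.finrank_fin_fun]
    norm_num
  obtain ⟨e, he, he0⟩ := Submodule.exists_mem_ne_zero_of_ne_bot hker
  have heu : f e u = 0 := congrArg Prod.fst (LinearMap.mem_ker.1 he)
  have hev : f e v = 0 := congrArg Prod.snd (LinearMap.mem_ker.1 he)
  have hee : f e e ≠ 0 := fun h0 => by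
    obtain ⟨a, ha⟩ := Submodule.mem_span_singleton.1
      (eq_smul_of_orth hf (by simp) hu huu h0 (herm_swap_zero hf heu))
    rw [← ha, hf.smul_left, huv, mul_one] at hev
    exact he0 (by rw [← ha, hev, zero_smul])
  have hli : LinearIndependent F ![u, v, e] := by
    rw [Fintype.linearIndependent_iff]
    intro g hg i
    rw [Fin.sum_univ_three] at hg
    simp only [Matrix.cons_val_zero, Matrix.cons_val_one, Matrix.cons_val] at hg
    have k1 := congrArg (fun x => f x v) hg
    have k2 := congrArg (fun x => f x u) hg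
    have k3 := congrArg (fun x => f x e) hg
    simp only [hf.add_left, hf.smul_left, herm_zero_left hf, huu, hvv, huv, hvu, heu, hev, herm_swap_zero hf heu,
      herm_swap_zero hf hev, mul_zero, mul_one, add_zero, zero_add, mul_eq_zero, hee, or_false] at k1 k2 k3
    fin_cases i <;> assumption
  refine ⟨v, e, hvv, huv, hvu, heu, hev, hee, fun x => ?_⟩
  have hx : x ∈ Submodule.span F (Set.range ![u, v, e]) := by
    rw [hli.span_eq_top_of_card_eq_finrank (by simp)]
    exact Submodule.mem_top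
  obtain ⟨t, ht⟩ := (Submodule.mem_span_range_iff_exists_fun F).1 hx
  rw [← ht, Fin.sum_univ_three]
  simp only [Matrix.cons_val_zero, Matrix.cons_val_one, Matrix.cons_val, hf.add_left, hf.smul_left, huu, hvv, huv, hvu,
    heu, hev, herm_swap_zero hf heu, herm_swap_zero hf hev, mul_zero, mul_one, add_zero, zero_add,
    mul_div_cancel_right₀ _ hee]

/-- at most `q` fixed elements -/
theorem card_fix_le (S : Std q σ f) : Nat.card {x : F // σ x = x} ≤ q := by
  classical
  have hq := S.one_lt
  let P : Polynomial F := Polynomial.X ^ q - Polynomial.X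
  have hP : P.natDegree ≤ q :=
    (Polynomial.natDegree_sub_le _ _).trans (max_le (Polynomial.natDegree_X_pow_le q)
      (Polynomial.natDegree_X_le.trans hq.le))
  have hP0 : P ≠ 0 := fun e => by
    have := congrArg (fun r : Polynomial F => r.coeff 1) e
    simp [P, Polynomial.coeff_X_pow, show (1 : ℕ) ≠ q by omega] at this
  have hroot : ∀ c : {x : F // σ x = x}, (c : F) ∈ P.roots.toFinset := fun c => by
    rw [Multiset.mem_toFinset, Polynomial.mem_roots hP0]
    simp [P, Polynomial.IsRoot, ← S.frob, c.2]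
  refine (Nat.card_le_card_of_injective (fun c : {x : F // σ x = x} => (⟨(c : F), hroot c⟩ : P.roots.toFinset))
    fun a b h => Subtype.ext (congrArg Subtype.val h :)).trans ?_
  rw [Nat.card_eq_fintype_card, Fintype.card_coe]
  exact (Multiset.toFinset_card_le _).trans ((Polynomial.card_roots' P).trans hP)

/-- without transvections a subgroup of prime power order has order at most `q` -/
theorem p_group_bound (S' : Std q σ f) {p : ℕ} [Fact p.Prime] [CharP F p] {M : Subgroup G3} (hM : M ≤ isoU f)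
    (hno : ∀ (x : V3) (c : F), x ≠ 0 → f x x = 0 → TvIn σ f M x c → c = 0)
    {S : Subgroup G3} (hS : IsPGroup p S) (hSM : S ≤ M) : Nat.card S ≤ q := by
  classical
  have hq := S'.one_lt
  by_cases hne : S = ⊥
  · rw [hne, Subgroup.card_bot]; omega
  have hf := S'.form
  obtain ⟨u, hu, huu, hfix⟩ := fixed_iso hf hS (hSM.trans hM) hne
  obtain ⟨v, e, hvv, huv, hvu, heu, hev, hee, hco⟩ := iso_coords hf hu huu
  have hiso : ∀ g : S, ∀ x y, f (((g : G3) : M3) *ᵥ x) (((g : G3) : M3) *ᵥ y) = f x y := fun g =>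
    mem_isoU.1 (hM (hSM g.2))
  have hfu : ∀ g : S, ∀ x, f (((g : G3) : M3) *ᵥ x) u = f x u := fun g x => by
    conv_lhs => arg 2; rw [← hfix g g.2]
    exact hiso g x u
  obtain ⟨A, hA⟩ : ∃ A : S → F, A = fun g : S => f (((g : G3) : M3) *ᵥ e) v := ⟨_, rfl⟩
  obtain ⟨β, hβ⟩ : ∃ β : S → F, β = fun g : S => f (((g : G3) : M3) *ᵥ e) e / f e e := ⟨_, rfl⟩
  have hge0 : ∀ g : S, ((g : G3) : M3) *ᵥ e = A g • u + β g • e := fun g => by
    rw [hA, hβ]
    conv_lhs => rw [hco (((g : G3) : M3) *ᵥ e), hfu, heu, zero_smul, add_zero]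
  have hβ1 : ∀ g, β g = 1 := fun g => by
    have hmul : ∀ a b : S, β (a * b) = β a * β b := fun a b => by
      conv_lhs => rw [hβ]
      simp only
      rw [Subgroup.coe_mul, gl_mul_mulVec, hge0 b, mulVec_add, mulVec_smul, mulVec_smul, hfix a a.2, hge0 a,
        hf.add_left, hf.smul_left, hf.smul_left, hf.add_left, hf.smul_left, hf.smul_left, herm_swap_zero hf heu]
      field_simp
      ring
    have hone : β 1 = 1 := by simp [hβ, hee]
    obtain ⟨j, hj⟩ := hS g
    have hpw : ∀ n : ℕ, β (g ^ n) = β g ^ n := fun n => by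
      induction n with
      | zero => simpa using hone
      | succ n ih => rw [pow_succ, pow_succ, hmul, ih]
    have h2 := hpw (p ^ j)
    rw [hj, hone] at h2
    exact one_of_pow_char (p := p) h2.symm
  have hge : ∀ g : S, ((g : G3) : M3) *ᵥ e = A g • u + e := fun g => by rw [hge0, hβ1, one_smul]
  have hgv : ∀ g : S, ((g : G3) : M3) *ᵥ v =
      f (((g : G3) : M3) *ᵥ v) v • u + v + (-σ (A g) / f e e) • e := fun g => by
    have h2 : f (((g : G3) : M3) *ᵥ v) e = -σ (A g) := by
      have h3 := hiso g v e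
      rw [hge g, herm_add_right hf, herm_smul_right hf, hfu, hvu, mul_one, herm_swap_zero hf hev] at h3
      linear_combination h3
    conv_lhs => rw [hco (((g : G3) : M3) *ᵥ v), hfu, hvu, one_smul, h2]
  let μ : S →* Multiplicative F :=
    { toFun := fun g => Multiplicative.ofAdd (A g)
      map_one' := by simp [hA, hev]
      map_mul' := fun a b => by
        rw [← ofAdd_add]
        congr 1
        conv_lhs => rw [hA]
        simp only
        rw [Subgroup.coe_mul, gl_mul_mulVec, hge b, mulVec_add, mulVec_smul, hfix a a.2, hge a, hf.add_left,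
          hf.add_left, hf.smul_left, hf.smul_left, huv, hev, mul_one, mul_one, add_zero, add_comm] }
  have hinj : Function.Injective μ := by
    rw [← MonoidHom.ker_eq_bot_iff, Subgroup.eq_bot_iff_forall]
    intro g hg
    have hA0 : A g = 0 := Multiplicative.ofAdd.injective (hg.trans ofAdd_zero.symm)
    obtain ⟨δ, hδ⟩ : ∃ δ, δ = f (((g : G3) : M3) *ᵥ v) v := ⟨_, rfl⟩
    have k1 := hge g
    have k2 := hgv g
    rw [hA0] at k1 k2
    rw [map_zero, neg_zero, zero_div, zero_smul, add_zero, ← hδ] at k2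
    rw [zero_smul, zero_add] at k1
    have hform : ∀ x, ((g : G3) : M3) *ᵥ x = x + (δ * f x u) • u := fun x => by
      obtain ⟨a, b, c, hb, hx⟩ : ∃ a b c : F, b = f x u ∧ x = a • u + b • v + c • e := ⟨_, _, _, rfl, hco x⟩
      rw [← hb, hx, mulVec_add, mulVec_add, mulVec_smul, mulVec_smul, mulVec_smul, hfix g g.2, k1, k2]
      module
    have hσ : σ δ = -δ := by
      have h3 := hiso g v v
      rw [k2, hf.add_left, herm_add_right hf, herm_add_right hf, hf.smul_left, hf.smul_left, herm_smul_right hf,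
        herm_smul_right hf, hvv, huu, huv, hvu] at h3
      linear_combination h3
    have h0 := hno u δ hu huu ⟨hσ, g, hSM g.2, hform⟩
    refine Subtype.ext (gl_ext_vec fun x => ?_)
    rw [hform, h0, zero_mul, zero_smul, add_zero, Subgroup.coe_one, Units.val_one, one_mulVec]
  have hcomm : ∀ g h : S, A g * σ (A h) = A h * σ (A g) := fun g h => by
    have hgh : g * h = h * g := hinj (by rw [map_mul, map_mul, mul_comm])
    have key : ∀ a b : S, f ((((a * b : S)) : G3).1 *ᵥ v) v =
        f (((b : G3) : M3) *ᵥ v) v + f (((a : G3) : M3) *ᵥ v) v + -σ (A b) / f e e * A a := fun a b => by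
      rw [Subgroup.coe_mul, gl_mul_mulVec]
      conv_lhs => rw [hgv b]
      rw [mulVec_add, mulVec_add, mulVec_smul, mulVec_smul, hfix a a.2, hge a]
      simp only [hf.add_left, hf.smul_left, huv, hev, mul_one, mul_zero, add_zero]
    have e1 := key g h
    rw [hgh, key h g] at e1
    field_simp at e1
    linear_combination e1
  by_cases hall : ∀ g, A g = 0
  · have : Nat.card S ≤ Nat.card (Unit) := Nat.card_le_card_of_injective (fun _ => ()) fun a b _ =>
      hinj (show Multiplicative.ofAdd (A a) = Multiplicative.ofAdd (A b) by rw [hall a, hall b])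
    rw [Nat.card_eq_one_iff_unique.2 ⟨inferInstance, ⟨()⟩⟩] at this
    omega
  push Not at hall
  obtain ⟨g₀, hg₀⟩ := hall
  refine le_trans (Nat.card_le_card_of_injective (fun g => (⟨A g / A g₀, ?_⟩ : {x : F // σ x = x})) ?_) (card_fix_le S')
  · rw [map_div₀, div_eq_div_iff (by simpa using hg₀) hg₀]
    linear_combination hcomm g₀ g
  · intro a b h
    refine hinj (show Multiplicative.ofAdd (A a) = Multiplicative.ofAdd (A b) from congrArg _ ?_)
    exact (div_left_inj' hg₀).1 (congrArg Subtype.val h :)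

section Even

variable [CharP F 2]

omit [Fintype F] in
theorem tvAt_iff {M : Subgroup G3} {u : V3} {c : F} : TvAt σ f M u c ↔ TvIn σ f M u c := by
  rw [TvAt, TvIn, CharTwo.neg_eq]

theorem card_tvAt {M : Subgroup G3} {u : V3} :
    Nat.card {c : F // TvAt σ f M u c} = Nat.card {c : F // TvIn σ f M u c} :=
  Nat.card_congr (Equiv.subtypeEquivRight fun _ => tvAt_iff)

/-- in characteristic two every centre has at most two transvections -/
theorem Over.small_tv {M : Subgroup G3} (O : Over q σ f M)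
    (hsmall : ∀ (i j l : Fin 3) (H : Idx i j l) (γ : F) (hγ : γ * σ γ = -1),
      Nat.card (O.tvGrp (Over.iso_vec O.toStd H hγ)) ≤ 2)
    {x : V3} (hx : x ≠ 0) (hxx : f x x = 0) : Nat.card {c : F // TvIn σ f M x c} ≤ 2 := by
  classical
  have hf := O.toStd.form
  by_cases hzero : ∃ l, x l = 0
  · obtain ⟨l, hl⟩ := hzero
    exact O.card_zero_coord hsmall hx hxx hl
  by_cases hall : ∀ c, TvIn σ f M x c → c = 0
  · have : Nat.card {c : F // TvIn σ f M x c} ≤ Nat.card Unit := Nat.card_le_card_of_injective (fun _ => ())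
      fun a b _ => Subtype.ext ((hall _ a.2).trans (hall _ b.2).symm)
    rw [Nat.card_eq_one_iff_unique.2 ⟨inferInstance, ⟨()⟩⟩] at this
    omega
  push Not at hall
  obtain ⟨c, ⟨hcσ, z, hz, hzx⟩, hc⟩ := hall
  have H : Idx (0 : Fin 3) 1 2 := ⟨by decide, by decide, by decide⟩
  obtain ⟨u₀, hu₀⟩ : ∃ u₀ : V3, u₀ = ![1, 1, 0] := ⟨_, rfl⟩
  have hu00 : u₀ ≠ 0 := fun h => by simpa [hu₀] using congrFun h 0
  have huu₀ : f u₀ u₀ = 0 := by
    rw [O.toStd.std, Fin.sum_univ_three, hu₀]
    simp [CharTwo.add_self_eq_zero]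
  obtain ⟨w, hwdef⟩ : ∃ w : G3, w = mon (Equiv.swap 0 1) (fun k => if k = 2 then -1 else 1) := ⟨_, rfl⟩
  have hwM : w ∈ M := hwdef ▸ O.swap_mem H
  have hwx : ∀ y, (w : M3) *ᵥ y = y + ((1 : F) * f y u₀) • u₀ := fun y => funext fun k => by
    rw [hwdef, mon_mulVec, O.toStd.std, Fin.sum_univ_three, hu₀, Equiv.symm_swap]
    fin_cases k <;> simp [Equiv.swap_apply_of_ne_of_ne, CharTwo.neg_eq] <;>
      first
      | linear_combination -(y 0) * (CharTwo.two_eq_zero : (2 : F) = 0)
      | linear_combination -(y 1) * (CharTwo.two_eq_zero : (2 : F) = 0)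
  have htv2 : ∀ {g : G3} {a : F} {y : V3}, f y y = 0 → (∀ t, (g : M3) *ᵥ t = t + (a * f t y) • y) → g * g = 1 :=
    fun {g a y} hy hg => gl_ext_vec fun t => by
      rw [gl_mul_mulVec, hg, hg, Units.val_one, one_mulVec, hf.add_left, hf.smul_left, hy, mul_zero, add_zero,
        add_assoc, ← add_smul, CharTwo.add_self_eq_zero, zero_smul, add_zero]
  rcases conj_or_commuting hz hwM (htv2 hxx hzx) (htv2 huu₀ hwx) with ⟨g, hg, hge⟩ | ⟨y, hy, hyy, hy1, hzy, hwy⟩
  · obtain ⟨g', hg'⟩ : ∃ g', g' = (g : M3) *ᵥ x := ⟨_, rfl⟩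
    have hg'x : ∀ t, (w : M3) *ᵥ t = t + (c * f t g') • g' := fun t => by
      rw [← hge, gl_mul_mulVec, gl_mul_mulVec, hzx, mulVec_add, mulVec_smul, gl_mulVec_inv,
        ← mem_isoU.1 (O.iso hg) _ x, gl_mulVec_inv, hg']
    obtain ⟨b, hb, -⟩ := tv_eq hf hu00 huu₀ one_ne_zero hg'x hwx
    have hb0 : b ≠ 0 := fun h0 => hu00 (by rw [hb, h0, zero_smul])
    have h2 : g' 2 = 0 := by
      have := congrFun hb 2
      rw [hu₀] at this
      simpa [hb0] using this.symm
    refine le_trans (Nat.card_le_card_of_injective (fun a : {c : F // TvIn σ f M x c} =>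
      (⟨a.1, hg' ▸ a.2.conj hf O.iso hg⟩ : {c : F // TvIn σ f M g' c})) fun a b h => Subtype.ext
        (congrArg Subtype.val h :)) (O.card_zero_coord hsmall (fun h => hx (gl_mulVec_eq_zero.1 (hg' ▸ h)))
          (by rw [hg', mem_isoU.1 (O.iso hg), hxx]) h2)
  · exfalso
    obtain ⟨t, d, ht, hd, htt, -, htx⟩ := involution_tv hf O.iso hy hyy hy1
    obtain ⟨a, ha⟩ := Submodule.mem_span_singleton.1
      (eq_smul_of_orth hf (by simp) hx hxx htt (orth_of_comm hf hx hxx hc hd hzx htx hzy))
    obtain ⟨b, hb⟩ := Submodule.mem_span_singleton.1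
      (eq_smul_of_orth hf (by simp) hu00 huu₀ htt (orth_of_comm hf hu00 huu₀ one_ne_zero hd hwx htx hwy))
    have h2 := congrFun (ha.trans hb.symm) 2
    rw [hu₀] at h2
    simp only [Fin.isValue, Pi.smul_apply, Matrix.cons_val, smul_eq_mul, mul_zero, mul_eq_zero] at h2
    rcases h2 with h2 | h2
    · exact ht (by rw [← ha, h2, zero_smul])
    · exact hzero ⟨2, h2⟩

/-- two-subgroups have order at most eight, and four over the field with sixteen elements -/
theorem two_group_small (S' : Std q σ f) {M : Subgroup G3} (hM : M ≤ isoU f)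
    (hsmall : ∀ x : V3, x ≠ 0 → f x x = 0 → Nat.card {c : F // TvIn σ f M x c} ≤ 2)
    {S : Subgroup G3} (hS : IsPGroup 2 S) (hSM : S ≤ M) : Nat.card S ≤ 8 ∧ (q = 4 → Nat.card S ≤ 4) := by
  classical
  have hf := S'.form
  by_cases hne : S = ⊥
  · rw [hne, Subgroup.card_bot]; omega
  obtain ⟨u, c₀, W, ε, hu, hc₀, huu, hε, htv, hle, hsq⟩ := two_group_bound hf hM hS hSM hne
  rw [card_tvAt] at hle
  have hA := hsmall u hu huu
  have hN : ∀ a : F, a ≠ 0 → a * σ a ≠ 0 := fun a ha => mul_ne_zero ha (by simpa using ha)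
  have huniq : ∀ c, TvIn σ f M u c → c = 0 ∨ c = c₀ := by
    intro c hc
    by_contra hcon
    push Not at hcon
    have h3 : Nat.card ({0, c₀, c} : Finset F) ≤ Nat.card {c : F // TvIn σ f M u c} :=
      Nat.card_le_card_of_injective (fun a => ⟨a.1, by
        rcases Finset.mem_insert.1 a.2 with h | h
        · rw [h]; exact ⟨by simp, 1, M.one_mem, fun x => by simp⟩
        · rcases Finset.mem_insert.1 h with h | h
          · rw [h]; exact tvAt_iff.1 htv
          · rw [Finset.mem_singleton.1 h]; exact hc⟩) fun a b h => Subtype.ext (congrArg Subtype.val h :)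
    rw [Nat.card_eq_fintype_card, Fintype.card_coe, Finset.card_insert_of_notMem (by simp [hc₀.symm, hcon.1.symm]),
      Finset.card_insert_of_notMem (by simpa using hcon.2.symm), Finset.card_singleton] at h3
    omega
  have hnorm : ∀ m ∈ W, m ≠ 0 → m * σ m = c₀ * ε := fun m hm hm0 => by
    rcases huniq _ (tvAt_iff.1 (hsq m hm)) with h | h
    · exact absurd h (div_ne_zero (hN m hm0) hε)
    · rw [← h, div_mul_cancel₀ _ hε]
  have hW : Nat.card W ≤ 4 ∧ (q = 4 → Nat.card W ≤ 2) := by
    by_cases hall : ∀ m ∈ W, m = 0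
    · have : Nat.card W ≤ Nat.card Unit := Nat.card_le_card_of_injective (fun _ : W => ())
        fun a b _ => Subtype.ext ((hall _ a.2).trans (hall _ b.2).symm)
      rw [Nat.card_eq_one_iff_unique.2 ⟨inferInstance, ⟨()⟩⟩] at this
      omega
    push Not at hall
    obtain ⟨m₀, hm₀, hm00⟩ := hall
    have hr : ∀ m ∈ W, m ≠ 0 → m ≠ m₀ → (m / m₀) ^ 2 + m / m₀ + 1 = 0 ∧
        σ (m / m₀) = m / m₀ + 1 := fun m hm hm0 hne => by
      obtain ⟨r, hrdef⟩ : ∃ r, r = m / m₀ := ⟨_, rfl⟩
      have hrm : m = r * m₀ := by rw [hrdef, div_mul_cancel₀ _ hm00]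
      have h0 := hnorm m₀ hm₀ hm00
      have h1 := hnorm m hm hm0
      have h2 := hnorm (m + m₀) (W.add_mem hm hm₀) (fun e => hne (CharTwo.add_eq_zero.1 e))
      rw [hrm, map_mul, ← h0] at h1
      rw [hrm, map_add, map_mul, ← h0] at h2
      have e1 : r * σ r = 1 := mul_right_cancel₀ (hN m₀ hm00) (by linear_combination h1)
      have e2 : (r + 1) * (σ r + 1) = 1 := mul_right_cancel₀ (hN m₀ hm00) (by linear_combination h2)
      have e3 : σ r = r + 1 := by
        rw [← CharTwo.add_eq_zero]
        linear_combination e2 - e1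
      rw [← hrdef]
      refine ⟨?_, e3⟩
      rw [e3] at e1
      linear_combination e1 + (CharTwo.two_eq_zero : (2 : F) = 0)
    by_cases hall2 : ∀ m ∈ W, m = 0 ∨ m = m₀
    · have h2 : Nat.card W ≤ 2 := by
        refine (Nat.card_le_card_of_injective (fun m : W => decide (m.1 = 0)) fun a b hab => Subtype.ext ?_).trans
          (by simp)
        simp only [decide_eq_decide] at hab
        rcases hall2 _ a.2 with ha | ha <;> rcases hall2 _ b.2 with hb | hb
        · rw [ha, hb]
        · exact (absurd (hab.1 ha) (hb ▸ hm00))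
        · exact (absurd (hab.2 hb) (ha ▸ hm00))
        · rw [ha, hb]
      omega
    push Not at hall2
    obtain ⟨m, hm, hm0, hne'⟩ := hall2
    obtain ⟨hr2, hrσ⟩ := hr m hm hm0 hne'
    refine ⟨?_, fun hq4 => ?_⟩
    · have hsub : ∀ x ∈ W, x ∈ ({0, m₀, m, m + m₀} : Finset F) := fun x hx => by
        simp only [Finset.mem_insert, Finset.mem_singleton]
        by_cases hx0 : x = 0
        · exact Or.inl hx0
        by_cases hx1 : x = m₀
        · exact Or.inr (Or.inl hx1)
        obtain ⟨hs, -⟩ := hr x hx hx0 hx1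
        have : (x / m₀ + m / m₀) * (x / m₀ + m / m₀ + 1) = 0 := by
          linear_combination hs + hr2 + (x / m₀ * (m / m₀) - 1) * (CharTwo.two_eq_zero : (2 : F) = 0)
        rcases mul_eq_zero.1 this with h | h
        · exact Or.inr (Or.inr (Or.inl (by
            have := CharTwo.add_eq_zero.1 h
            field_simp at this
            exact this)))
        · refine Or.inr (Or.inr (Or.inr ?_))
          rw [add_assoc, CharTwo.add_eq_zero] at h
          field_simp at h
          exact h
      refine (Nat.card_le_card_of_injective (fun x : W => (⟨x.1, hsub _ x.2⟩ : ({0, m₀, m, m + m₀} : Finset F)))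
        fun a b hab => Subtype.ext (congrArg Subtype.val hab :)).trans ?_
      rw [Nat.card_eq_fintype_card, Fintype.card_coe]
      exact Finset.card_le_four
    · exfalso
      have h3 : (m / m₀) ^ 3 = 1 := by linear_combination (m / m₀ - 1) * hr2
      rw [S'.frob, hq4, pow_succ, h3, one_mul] at hrσ
      exact one_ne_zero (α := F) (add_eq_left.1 hrσ.symm)
  have h1 := hle.trans (Nat.mul_le_mul hA le_rfl)
  refine ⟨h1.trans (by omega), fun hq4 => h1.trans ?_⟩
  have := hW.2 hq4
  omega

end Even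

end CfsgLib.Perm.Trans.UnitThree
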