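import Cfsg.Agent.Lib.Perm.Trans.UnitSubf
import Cfsg.Agent.Lib.Perm.Trans.SmallOrth
import Cfsg.Agent.Lib.Perm.Trans.UnitThree.MonoSylow

/-!
# Orthogonal structures on three-dimensional unitary spaces: frames and rational elements
-/

set_option autoImplicit false
set_option linter.all false

namespace CfsgLib.Perm.Trans.UnitThree.OSub

open scoped Matrix
open Matrix Cfsg.Geo CfsgLib.Perm.Asch CfsgLib.Perm.Trans CfsgLib.Perm.Trans.Unit CfsgLib.Perm.Trans.UnitThree
open CfsgLib.Perm.Trans.Subf (em em_add em_neg em_sub em_smul em_zero em_injective em_ne_zero exists_coords)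

attribute [local instance] CfsgLib.Perm.Trans.Unit.subfieldFintype

variable {F : Type*} [Field F] [Fintype F]

local notation "M3" => Matrix (Fin 3) (Fin 3) F
local notation "G3" => GL (Fin 3) F
local notation "V3" => Fin 3 → F

variable {σ : F ≃+* F} {f : (Fin 3 → F) → (Fin 3 → F) → F} {F₀ : Subfield F} {P : GL (Fin 3) F} {θ : F}

/-- the data of an orthogonal structure -/
structure Str (σ : F ≃+* F) (f : (Fin 3 → F) → (Fin 3 → F) → F) (F₀ : Subfield F) (P : GL (Fin 3) F) (θ : F) : Prop where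
  form : IsUnitaryForm σ f
  fix : ∀ x : F, x ∈ F₀ ↔ σ x = x
  two : (2 : F) ≠ 0
  θ0 : θ ≠ 0
  θσ : σ θ = -θ
  rat : ∀ a b : Fin 3 → F₀, f (em F₀ P a) (em F₀ P b) ∈ F₀

/-- a rational vector -/
def IsRat (F₀ : Subfield F) (P : GL (Fin 3) F) (x : Fin 3 → F) : Prop := ∃ a : Fin 3 → F₀, em F₀ P a = x

/-- a rational hyperbolic pair with a vector orthogonal to it -/
structure O3 (σ : F ≃+* F) (f : (Fin 3 → F) → (Fin 3 → F) → F) (F₀ : Subfield F) (P : GL (Fin 3) F) (θ : F)
    (U V E : Fin 3 → F) : Prop where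
  str : Str σ f F₀ P θ
  uu : f U U = 0
  vv : f V V = 0
  uv : f U V = 1
  eu : f E U = 0
  ev : f E V = 0
  ee : f E E ≠ 0
  Urat : IsRat F₀ P U
  Vrat : IsRat F₀ P V
  Erat : IsRat F₀ P E

/-- the symmetric form on rational vectors -/
def rb (S : Str σ f F₀ P θ) (a b : Fin 3 → F₀) : F₀ := ⟨f (em F₀ P a) (em F₀ P b), S.rat a b⟩

theorem Str.symmetric (S : Str σ f F₀ P θ) : IsSymmetricForm (rb S) where
  bilinear :=
    ⟨fun x y v => Subtype.ext (by
      show f _ _ = f _ _ + f _ _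
      rw [em_add, S.form.add_left]),
    fun c x v => Subtype.ext (by
      show f _ _ = _ * f _ _
      rw [em_smul, S.form.smul_left]),
    fun x y v => Subtype.ext (by
      show f _ _ = f _ _ + f _ _
      rw [em_add, herm_add_right S.form]),
    fun c x v => Subtype.ext (by
      show f _ _ = _ * f _ _
      rw [em_smul, herm_smul_right S.form, (S.fix _).1 c.2])⟩
  symm a b := Subtype.ext (by
    show f _ _ = f _ _
    rw [S.form.herm (em F₀ P b) (em F₀ P a), (S.fix _).1 (S.rat a b)])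
  nondegenerate v hv := by
    have hex : ∃ y, f (em F₀ P v) (em F₀ P y) ≠ 0 := by
      by_contra hcon
      push Not at hcon
      obtain ⟨z, hz⟩ := (S.form.nondegenerate _ (em_ne_zero F₀ P hv)).2
      obtain ⟨a, rfl⟩ := exists_coords F₀ P z
      refine hz ?_
      simp only [Fin.sum_univ_three, herm_add_right S.form, herm_smul_right S.form, hcon, mul_zero, add_zero]
    obtain ⟨y, hy⟩ := hex
    exact ⟨⟨y, fun h => hy (herm_swap_zero S.form (congrArg Subtype.val h))⟩,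
      ⟨y, fun h => hy (congrArg Subtype.val h)⟩⟩

theorem exists_o3 (S : Str σ f F₀ P θ) : ∃ U V E, O3 σ f F₀ P θ U V E := by
  classical
  have h2 : (2 : F₀) ≠ 0 := fun h => S.two (congrArg Subtype.val h)
  have hs := S.symmetric
  obtain ⟨a, -, ha0, haa⟩ := SmallOrth.exists_singular hs h2 (X := (⊤ : Submodule F₀ (Fin 3 → F₀)))
    (by rw [finrank_top, Module.finrank_fin_fun])
  obtain ⟨y, hy⟩ := (hs.nondegenerate a ha0).2
  obtain ⟨b, -, hbb, hab, hba⟩ := SmallOrth.exists_partner hs h2 (X := (⊤ : Submodule F₀ (Fin 3 → F₀)))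
    Submodule.mem_top haa (y := y) Submodule.mem_top hy
  let L : (Fin 3 → F₀) →ₗ[F₀] F₀ × F₀ :=
    { toFun := fun x => (rb S x a, rb S x b)
      map_add' := fun x y => Prod.ext (hs.bilinear.add_left _ _ _) (hs.bilinear.add_left _ _ _)
      map_smul' := fun c x => Prod.ext (hs.bilinear.smul_left _ _ _) (hs.bilinear.smul_left _ _ _) }
  have hker : LinearMap.ker L ≠ ⊥ := by
    refine LinearMap.ker_ne_bot_of_finrank_lt ?_
    rw [Module.finrank_prod, Module.finrank_self, Module.finrank_fin_fun]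
    norm_num
  obtain ⟨e, he, he0⟩ := Submodule.exists_mem_ne_zero_of_ne_bot hker
  have heu : f (em F₀ P e) (em F₀ P a) = 0 := congrArg (fun z => ((Prod.fst z : F₀) : F)) (LinearMap.mem_ker.1 he)
  have hev : f (em F₀ P e) (em F₀ P b) = 0 := congrArg (fun z => ((Prod.snd z : F₀) : F)) (LinearMap.mem_ker.1 he)
  have huu : f (em F₀ P a) (em F₀ P a) = 0 := congrArg Subtype.val haa
  have huv : f (em F₀ P a) (em F₀ P b) = 1 := congrArg Subtype.val hab
  refine ⟨em F₀ P a, em F₀ P b, em F₀ P e, S, huu, congrArg Subtype.val hbb, huv, heu, hev, fun hee => ?_, ⟨a, rfl⟩,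
    ⟨b, rfl⟩, ⟨e, rfl⟩⟩
  obtain ⟨c, hc⟩ := Submodule.mem_span_singleton.1
    (eq_smul_of_orth S.form (by simp) (em_ne_zero F₀ P ha0) huu hee (herm_swap_zero S.form heu))
  rw [← hc, S.form.smul_left, huv, mul_one] at hev
  exact em_ne_zero F₀ P he0 (by rw [← hc, hev, zero_smul])

variable {U V E : Fin 3 → F}

namespace O3

variable (D : O3 σ f F₀ P θ U V E)
include D

theorem hf : IsUnitaryForm σ f := D.str.form

theorem sfix {x : F} (hx : x ∈ F₀) : σ x = x := (D.str.fix x).1 hx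

theorem mem_of_fix {x : F} (hx : σ x = x) : x ∈ F₀ := (D.str.fix x).2 hx

theorem vu : f V U = 1 := by rw [D.hf.herm V U, D.uv, map_one]

theorem ue : f U E = 0 := herm_swap_zero D.hf D.eu

theorem ve : f V E = 0 := herm_swap_zero D.hf D.ev

theorem nσ : σ (f E E) = f E E := (D.hf.herm E E).symm

theorem n_mem : f E E ∈ F₀ := D.mem_of_fix D.nσ

theorem U0 : U ≠ 0 := fun h => zero_ne_one (by rw [← D.uv, h, herm_zero_left D.hf])

theorem form_eq (a b c a' b' c' : F) : f (a • U + b • V + c • E) (a' • U + b' • V + c' • E) =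
    a * σ b' + b * σ a' + f E E * (c * σ c') := by
  simp only [D.hf.add_left, herm_add_right D.hf, D.hf.smul_left, herm_smul_right D.hf, D.uu, D.vv, D.uv, D.vu, D.eu,
    D.ev, D.ue, D.ve]
  ring

theorem zero_of_coords {a b c : F} (h : a • U + b • V + c • E = 0) : a = 0 ∧ b = 0 ∧ c = 0 := by
  have k1 := congrArg (fun x => f x V) h
  have k2 := congrArg (fun x => f x U) h
  have k3 := congrArg (fun x => f x E) h
  simp only [D.hf.add_left, D.hf.smul_left, herm_zero_left D.hf, D.uu, D.vv, D.uv, D.vu, D.eu, D.ev, D.ue, D.ve,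
    mul_zero, mul_one, add_zero, zero_add, mul_eq_zero, D.ee, or_false] at k1 k2 k3
  exact ⟨k1, k2, k3⟩

theorem eq_of_coords {a b c a' b' c' : F} (h : a • U + b • V + c • E = a' • U + b' • V + c' • E) :
    a = a' ∧ b = b' ∧ c = c' := by
  obtain ⟨h1, h2, h3⟩ := D.zero_of_coords (a := a - a') (b := b - b') (c := c - c')
    (by linear_combination (norm := module) h)
  exact ⟨sub_eq_zero.1 h1, sub_eq_zero.1 h2, sub_eq_zero.1 h3⟩

theorem coords (x : V3) : x = f x V • U + f x U • V + (f x E / f E E) • E := by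
  have hli : LinearIndependent F ![U, V, E] := by
    rw [Fintype.linearIndependent_iff]
    intro g hg i
    rw [Fin.sum_univ_three] at hg
    simp only [Matrix.cons_val_zero, Matrix.cons_val_one, Matrix.cons_val] at hg
    obtain ⟨k1, k2, k3⟩ := D.zero_of_coords hg
    fin_cases i <;> assumption
  have hx : x ∈ Submodule.span F (Set.range ![U, V, E]) := by
    rw [hli.span_eq_top_of_card_eq_finrank (by simp)]
    exact Submodule.mem_top
  obtain ⟨t, ht⟩ := (Submodule.mem_span_range_iff_exists_fun F).1 hx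
  rw [← ht, Fin.sum_univ_three]
  simp only [Matrix.cons_val_zero, Matrix.cons_val_one, Matrix.cons_val, D.hf.add_left, D.hf.smul_left, D.uu, D.vv,
    D.uv, D.vu, D.eu, D.ev, D.ue, D.ve, mul_zero, mul_one, add_zero, zero_add, mul_div_cancel_right₀ _ D.ee]

theorem apply_vec (g : G3) (x : V3) : (g : M3) *ᵥ x =
    f x V • ((g : M3) *ᵥ U) + f x U • ((g : M3) *ᵥ V) + (f x E / f E E) • ((g : M3) *ᵥ E) := by
  conv_lhs => rw [D.coords x]
  simp only [mulVec_add, mulVec_smul]

theorem ext {g h : G3} (hU : (g : M3) *ᵥ U = (h : M3) *ᵥ U) (hV : (g : M3) *ᵥ V = (h : M3) *ᵥ V)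
    (hE : (g : M3) *ᵥ E = (h : M3) *ᵥ E) : g = h :=
  gl_ext_vec fun x => by rw [D.apply_vec g, D.apply_vec h, hU, hV, hE]

omit D in
/-- the columns of a change of the frame -/
def col (U V E : Fin 3 → F) (T : Matrix (Fin 3) (Fin 3) F) (j : Fin 3) : Fin 3 → F :=
  T 0 j • U + T 1 j • V + T 2 j • E

omit D in
/-- the matrix with the frame as columns -/
def frame (U V E : Fin 3 → F) : Matrix (Fin 3) (Fin 3) F := (Matrix.of ![U, V, E])ᵀ

omit D in
theorem frame_col (T : M3) (i j : Fin 3) : (frame U V E * T) i j = col U V E T j i := by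
  simp [frame, col, Matrix.mul_apply, Fin.sum_univ_three, mul_comm]

theorem frame_det : (frame U V E).det ≠ 0 := by
  intro h
  obtain ⟨v, hv0, hv⟩ := Matrix.exists_mulVec_eq_zero_iff.2 h
  have hv' : v 0 • U + v 1 • V + v 2 • E = 0 := by
    rw [← hv]
    funext i
    simp [frame, Matrix.mulVec, dotProduct, Fin.sum_univ_three, mul_comm]
  obtain ⟨h1, h2, h3⟩ := D.zero_of_coords hv'
  refine hv0 (funext fun i => ?_)
  fin_cases i <;> assumption

theorem det_eq {g : G3} {T : M3} (hU : (g : M3) *ᵥ U = col U V E T 0) (hV : (g : M3) *ᵥ V = col U V E T 1)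
    (hE : (g : M3) *ᵥ E = col U V E T 2) : (g : M3).det = T.det := by
  have h : (g : M3) * frame U V E = frame U V E * T := by
    ext i j
    rw [frame_col]
    have hj : ((g : M3) * frame U V E) i j = ((g : M3) *ᵥ ![U, V, E] j) i := rfl
    rw [hj]
    fin_cases j
    · exact congrFun hU i
    · exact congrFun hV i
    · exact congrFun hE i
  have h' := congrArg Matrix.det h
  rw [det_mul, det_mul, mul_comm (frame U V E).det] at h'
  exact mul_right_cancel₀ D.frame_det h'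

theorem exists_rat_coords (a : Fin 3 → F₀) : ∃ x y z : F₀,
    em F₀ P a = (x : F) • U + (y : F) • V + (z : F) • E := by
  obtain ⟨u, rfl⟩ := D.Urat
  obtain ⟨v, rfl⟩ := D.Vrat
  obtain ⟨e, rfl⟩ := D.Erat
  exact ⟨⟨_, D.str.rat a v⟩, ⟨_, D.str.rat a u⟩, ⟨_, F₀.div_mem (D.str.rat a e) D.n_mem⟩, D.coords _⟩

theorem rat_comb {a b c : F} (ha : a ∈ F₀) (hb : b ∈ F₀) (hc : c ∈ F₀) :
    IsRat F₀ P (a • U + b • V + c • E) := by
  obtain ⟨u, rfl⟩ := D.Urat
  obtain ⟨v, rfl⟩ := D.Vrat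
  obtain ⟨e, rfl⟩ := D.Erat
  exact ⟨(⟨a, ha⟩ : F₀) • u + (⟨b, hb⟩ : F₀) • v + (⟨c, hc⟩ : F₀) • e, by
    simp only [em_add, em_smul]⟩

/-- a matrix on the frame preserving the form gives an element of the group -/
theorem exists_el {T : M3} (hdet : T.det = 1)
    (hG : ∀ i j, f (col U V E T i) (col U V E T j) = f (![U, V, E] i) (![U, V, E] j)) :
    ∃ g ∈ isoU f ⊓ specialLinear (Fin 3) F, (g : M3) *ᵥ U = col U V E T 0 ∧ (g : M3) *ᵥ V = col U V E T 1 ∧
      (g : M3) *ᵥ E = col U V E T 2 := by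
  obtain ⟨A, hA⟩ : ∃ A : M3, A = frame U V E * T * (frame U V E)⁻¹ := ⟨_, rfl⟩
  have hu : IsUnit (frame U V E).det := isUnit_iff_ne_zero.2 D.frame_det
  have hAdet : A.det = 1 := by
    rw [hA, det_mul, det_mul, hdet, mul_one, det_nonsing_inv, Ring.mul_inverse_cancel _ hu]
  obtain ⟨g, hg⟩ : ∃ g : G3, (g : M3) = A :=
    ⟨Matrix.GeneralLinearGroup.mkOfDetNeZero A (by rw [hAdet]; exact one_ne_zero), rfl⟩
  have hcol : ∀ j, (g : M3) *ᵥ ![U, V, E] j = col U V E T j := by
    intro j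
    funext i
    have h : ((g : M3) * frame U V E) i j = (frame U V E * T) i j := by
      rw [hg, hA, Matrix.mul_assoc _ (frame U V E)⁻¹, nonsing_inv_mul _ hu, Matrix.mul_one]
    rw [frame_col] at h
    exact h
  refine ⟨g, ⟨mem_isoU.2 fun x y => ?_, Units.ext (show (g : M3).det = 1 by rw [hg, hAdet])⟩, hcol 0, hcol 1, hcol 2⟩
  have hU : (g : M3) *ᵥ U = col U V E T 0 := hcol 0
  have hV : (g : M3) *ᵥ V = col U V E T 1 := hcol 1
  have hE : (g : M3) *ᵥ E = col U V E T 2 := hcol 2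
  rw [D.apply_vec g x, D.apply_vec g y, hU, hV, hE]
  conv_rhs => rw [D.coords x, D.coords y]
  simp only [D.hf.add_left, herm_add_right D.hf, D.hf.smul_left, herm_smul_right D.hf, hG]
  simp only [Matrix.cons_val_zero, Matrix.cons_val_one, Matrix.cons_val]

/-- an element with rational matrix on the frame is in the subfield group -/
theorem rational_el {g : G3} (hU : IsRat F₀ P ((g : M3) *ᵥ U)) (hV : IsRat F₀ P ((g : M3) *ᵥ V))
    (hE : IsRat F₀ P ((g : M3) *ᵥ E)) : g ∈ subfieldSubgroup F₀ P := by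
  refine Subf.mem_subfieldSubgroup_of_image F₀ P one_ne_zero fun i => ?_
  obtain ⟨x, y, z, h⟩ := D.exists_rat_coords (Pi.single i 1)
  obtain ⟨u, hu⟩ := hU
  obtain ⟨v, hv⟩ := hV
  obtain ⟨e, he⟩ := hE
  exact ⟨x • u + y • v + z • e, by
    rw [h, one_smul, mulVec_add, mulVec_add, mulVec_smul, mulVec_smul, mulVec_smul, ← hu, ← hv, ← he]
    simp only [em_add, em_smul]⟩

theorem rational_of_cols {g : G3} {T : M3} (hU : (g : M3) *ᵥ U = col U V E T 0)
    (hV : (g : M3) *ᵥ V = col U V E T 1) (hE : (g : M3) *ᵥ E = col U V E T 2) (hT : ∀ i j, T i j ∈ F₀) :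
    g ∈ subfieldSubgroup F₀ P :=
  D.rational_el (hU ▸ D.rat_comb (hT _ _) (hT _ _) (hT _ _)) (hV ▸ D.rat_comb (hT _ _) (hT _ _) (hT _ _))
    (hE ▸ D.rat_comb (hT _ _) (hT _ _) (hT _ _))

/-- a rational matrix on the frame preserving the form gives an element of the rational group -/
theorem exists_rational {T : M3} (hdet : T.det = 1) (hT : ∀ i j, T i j ∈ F₀)
    (hG : ∀ i j, f (col U V E T i) (col U V E T j) = f (![U, V, E] i) (![U, V, E] j)) :
    ∃ g ∈ subfieldSubgroup F₀ P ⊓ (isoU f ⊓ specialLinear (Fin 3) F),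
      (g : M3) *ᵥ U = col U V E T 0 ∧ (g : M3) *ᵥ V = col U V E T 1 ∧ (g : M3) *ᵥ E = col U V E T 2 := by
  obtain ⟨g, hg, hU, hV, hE⟩ := D.exists_el hdet hG
  exact ⟨g, ⟨D.rational_of_cols hU hV hE hT, hg⟩, hU, hV, hE⟩

theorem exists_tor {b : F} (hb : b ∈ F₀) (hb0 : b ≠ 0) :
    ∃ g ∈ subfieldSubgroup F₀ P ⊓ (isoU f ⊓ specialLinear (Fin 3) F),
      (g : M3) *ᵥ U = b • U ∧ (g : M3) *ᵥ V = b⁻¹ • V ∧ (g : M3) *ᵥ E = E := by
  obtain ⟨g, hg, hU, hV, hE⟩ := D.exists_rational (T := !![b, 0, 0; 0, b⁻¹, 0; 0, 0, 1])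
    (by rw [det_fin_three]; simp [hb0])
    (fun i j => by fin_cases i <;> fin_cases j <;> simp [hb, F₀.inv_mem hb, F₀.zero_mem, F₀.one_mem])
    (fun i j => by
      fin_cases i <;> fin_cases j <;>
        simp [col, D.hf.smul_left, herm_smul_right D.hf, D.uu, D.vv, D.uv, D.vu, D.eu, D.ev, D.ue, D.ve,
          D.sfix hb, hb0])
  exact ⟨g, hg, by simpa [col] using hU, by simpa [col] using hV, by simpa [col] using hE⟩

theorem exists_swap :
    ∃ g ∈ subfieldSubgroup F₀ P ⊓ (isoU f ⊓ specialLinear (Fin 3) F),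
      (g : M3) *ᵥ U = V ∧ (g : M3) *ᵥ V = U ∧ (g : M3) *ᵥ E = -E := by
  obtain ⟨g, hg, hU, hV, hE⟩ := D.exists_rational (T := !![0, 1, 0; 1, 0, 0; 0, 0, -1])
    (by rw [det_fin_three]; simp)
    (fun i j => by fin_cases i <;> fin_cases j <;> simp [F₀.zero_mem, F₀.one_mem, F₀.neg_mem F₀.one_mem])
    (fun i j => by
      fin_cases i <;> fin_cases j <;>
        simp [col, D.hf.smul_left, herm_smul_right D.hf, herm_neg_left D.hf, herm_neg_right D.hf,
          D.uu, D.vv, D.uv, D.vu, D.eu, D.ev, D.ue, D.ve])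
  exact ⟨g, hg, by simpa [col] using hU, by simpa [col] using hV, by simpa [col] using hE⟩

theorem exists_heis {s : F} (hs : s ∈ F₀) :
    ∃ g ∈ subfieldSubgroup F₀ P ⊓ (isoU f ⊓ specialLinear (Fin 3) F),
      (g : M3) *ᵥ U = U ∧ (g : M3) *ᵥ V = V + s • E - (f E E * s * s / 2) • U ∧
        (g : M3) *ᵥ E = E - (f E E * s) • U := by
  have h2 := D.str.two
  have hσ2 : σ (2 : F) = 2 := map_ofNat σ 2
  obtain ⟨g, hg, hU, hV, hE⟩ := D.exists_rational
    (T := !![1, -(f E E * s * s / 2), -(f E E * s); 0, 1, 0; 0, s, 1])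
    (by rw [det_fin_three]; simp)
    (fun i j => by
      fin_cases i <;> fin_cases j <;>
        simp [F₀.zero_mem, F₀.one_mem, hs, F₀.neg_mem (F₀.mul_mem D.n_mem hs),
          F₀.neg_mem (F₀.div_mem (F₀.mul_mem (F₀.mul_mem D.n_mem hs) hs) (ofNat_mem F₀ 2))])
    (fun i j => by
      fin_cases i <;> fin_cases j <;>
        simp [col, D.hf.add_left, herm_add_right D.hf, D.hf.smul_left, herm_smul_right D.hf, herm_neg_left D.hf,
          herm_neg_right D.hf, D.uu, D.vv, D.uv, D.vu, D.eu, D.ev, D.ue, D.ve, D.sfix hs, D.nσ, hσ2] <;>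
        field_simp <;> ring)
  refine ⟨g, hg, ?_, ?_, ?_⟩
  · simpa [col] using hU
  · rw [hV]; simp [col]; module
  · rw [hE]; simp [col]; module

end O3

end CfsgLib.Perm.Trans.UnitThree.OSub
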