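import Cfsg.Agent.Lib.Perm.Trans.UnitThree.OrthParam
import Cfsg.Agent.Lib.Perm.Trans.UnitThree.OrthArith

/-!
# Orthogonal structures on three-dimensional unitary spaces: the index of a point stabiliser in an overgroup
-/

set_option autoImplicit false
set_option linter.all false

namespace CfsgLib.Perm.Trans.UnitThree.OSub

open scoped Matrix
open Matrix Cfsg.Geo CfsgLib.Perm.Asch CfsgLib.Perm.Trans CfsgLib.Perm.Trans.Unit CfsgLib.Perm.Trans.UnitThree
open CfsgLib.Perm.Trans.Subf (em em_add em_neg em_sub em_smul em_zero em_injective em_ne_zero exists_coords)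

attribute [local instance] CfsgLib.Perm.Trans.Unit.subfieldFintype

variable {F : Type*} [Field F] [Fintype F]

local notation "M3" => Matrix (Fin 3) (Fin 3) F
local notation "G3" => GL (Fin 3) F
local notation "V3" => Fin 3 → F

variable {σ : F ≃+* F} {f : (Fin 3 → F) → (Fin 3 → F) → F} {F₀ : Subfield F} {P : GL (Fin 3) F} {θ : F}
variable {U V E : Fin 3 → F}
variable {M : Subgroup (GL (Fin 3) F)}

/-- the image of the base point is a multiple of a rational vector -/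
def RatImg (F₀ : Subfield F) (P : GL (Fin 3) F) (U : Fin 3 → F) (M : Subgroup (GL (Fin 3) F)) :
    Set (M ⧸ pointStab M U) :=
  {ω | ∃ g : M, ((g : M) : M ⧸ pointStab M U) = ω ∧
    ∃ (t : F) (a : Fin 3 → F₀), ((g : GL (Fin 3) F) : Matrix (Fin 3) (Fin 3) F) *ᵥ U = t • em F₀ P a}

omit [Fintype F] in
theorem mk_eq_iff {g h : M} : ((g : M) : M ⧸ pointStab M U) = (h : M ⧸ pointStab M U) ↔
    ∃ a : F, a ≠ 0 ∧ ((h : G3) : M3) *ᵥ U = a • (((g : G3) : M3) *ᵥ U) := by
  rw [QuotientGroup.eq]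
  show (∃ a : F, a ≠ 0 ∧ (((g⁻¹ * h : M) : G3) : M3) *ᵥ U = a • U) ↔ _
  rw [Subgroup.coe_mul, Subgroup.coe_inv]
  refine exists_congr fun a => and_congr_right fun _ => ⟨fun e => ?_, fun e => ?_⟩
  · have := congrArg (fun x => ((g : G3) : M3) *ᵥ x) e
    simpa only [← gl_mul_mulVec, mul_inv_cancel_left, mulVec_smul] using this
  · rw [gl_mul_mulVec, e, mulVec_smul, ← gl_mul_mulVec, inv_mul_cancel, Units.val_one, one_mulVec]

namespace O3

variable (D : O3 σ f F₀ P θ U V E)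
  (hHM : subfieldSubgroup F₀ P ⊓ (isoU f ⊓ specialLinear (Fin 3) F) ≤ M)
  (hM : M ≤ isoU f ⊓ specialLinear (Fin 3) F) (hno : NoTv f M U)
include D hHM hM hno

omit hno in
/-- elements for all rational isotropic points -/
theorem exists_to_rat {s : F} (hs : s ∈ F₀) :
    ∃ g : M, (g : G3) ∈ subfieldSubgroup F₀ P ∧
      ((g : G3) : M3) *ᵥ U = (-(f E E * s * s / 2)) • U + (1 : F) • V + s • E := by
  obtain ⟨g, hg, gU, gV, gE⟩ := D.exists_heis hs
  obtain ⟨r, hr, rU, rV, rE⟩ := D.exists_swap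
  refine ⟨⟨g * r, M.mul_mem (hHM hg) (hHM hr)⟩, mul_mem hg.1 hr.1, ?_⟩
  rw [gl_mul_mulVec, rU, gV]
  module

/-- rational points form one orbit of the rational group, of length one more than the field -/
theorem card_ratImg : Nat.card (RatImg F₀ P U M) = Nat.card F₀ + 1 ∧
    ∀ g : M, ((g : M) : M ⧸ pointStab M U) ∈ RatImg F₀ P U M → (g : G3) ∈ subfieldSubgroup F₀ P := by
  classical
  obtain ⟨u₀, hu₀⟩ := D.Urat
  choose e he1 he2 using fun s : F₀ => D.exists_to_rat hHM hM s.2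
  let φ : Option F₀ → (M ⧸ pointStab M U) := fun o => o.elim ((1 : M) : M ⧸ pointStab M U) fun s => (e s : M ⧸ _)
  have hone : (((1 : M) : G3) : M3) *ᵥ U = U := by rw [Subgroup.coe_one, Units.val_one, one_mulVec]
  have hkey : ∀ g : M, (∃ (t : F) (a : Fin 3 → F₀), ((g : G3) : M3) *ᵥ U = t • em F₀ P a) →
      ∃ o, φ o = (g : M ⧸ pointStab M U) := by
    rintro g ⟨t, a, hga⟩
    have hw0 : ((g : G3) : M3) *ᵥ U ≠ 0 := fun h => D.U0 (gl_mulVec_eq_zero.1 h)
    have ht : t ≠ 0 := fun h => hw0 (by rw [hga, h, zero_smul])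
    have ha0 : em F₀ P a ≠ 0 := fun h => hw0 (by rw [hga, h, smul_zero])
    have haa : f (em F₀ P a) (em F₀ P a) = 0 := by
      have h1 := mem_isoU.1 ((hM g.2).1) U U
      rw [hga, D.uu, D.hf.smul_left, herm_smul_right D.hf, mul_eq_zero, mul_eq_zero] at h1
      exact (h1.resolve_left ht).resolve_left (by simpa using ht)
    rcases D.iso_cases ha0 haa with ⟨c, hc, hac⟩ | ⟨y, l, s, hy, has, hiso⟩
    · refine ⟨none, ?_⟩
      show ((1 : M) : M ⧸ pointStab M U) = _
      exact mk_eq_iff.2 ⟨t * c, mul_ne_zero ht hc, by rw [hone, hga, hac, smul_smul]⟩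
    · obtain ⟨x', y', z', hx'⟩ := D.exists_rat_coords a
      obtain ⟨h1, h2, h3⟩ := D.eq_of_coords (a := y * l) (b := y) (c := y * s) (a' := (x' : F)) (b' := y')
        (c' := z') (by rw [← hx', has]; module)
      have hlF : l ∈ F₀ := by
        rw [show l = (x' : F) / y' by rw [← h1, ← h2, mul_div_cancel_left₀ _ hy]]
        exact F₀.div_mem x'.2 y'.2
      have hsF : s ∈ F₀ := by
        rw [show s = (z' : F) / y' by rw [← h3, ← h2, mul_div_cancel_left₀ _ hy]]
        exact F₀.div_mem z'.2 y'.2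
      have hl : l = -(f E E * s * s / 2) := by
        rw [D.sfix hlF, D.sfix hsF] at hiso
        have h2' := D.str.two
        field_simp
        linear_combination hiso
      refine ⟨some ⟨s, hsF⟩, ?_⟩
      show (e ⟨s, hsF⟩ : M ⧸ pointStab M U) = _
      exact mk_eq_iff.2 ⟨t * y, mul_ne_zero ht hy, by rw [he2, hga, has, hl, smul_smul]⟩
  have hmem : ∀ o, φ o ∈ RatImg F₀ P U M := by
    rintro (_ | s)
    · exact ⟨1, rfl, 1, u₀, by rw [hone, hu₀, one_smul]⟩
    · obtain ⟨v, hv⟩ := D.rat_comb (a := -(f E E * s * s / 2)) (b := (1 : F)) (c := (s : F))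
        (F₀.neg_mem (F₀.div_mem (F₀.mul_mem (F₀.mul_mem D.n_mem s.2) s.2) (ofNat_mem F₀ 2))) F₀.one_mem s.2
      exact ⟨e s, rfl, 1, v, by rw [he2, hv, one_smul, one_smul]⟩
  have hinj : Function.Injective φ := by
    have hnone : ∀ s : F₀, φ none ≠ φ (some s) := fun s h => by
      obtain ⟨a, ha, h1⟩ := mk_eq_iff.1 (show ((1 : M) : M ⧸ pointStab M U) = (e s : M ⧸ pointStab M U) from h)
      rw [he2, hone] at h1
      exact one_ne_zero (D.eq_of_coords (a' := a) (b' := 0) (c' := 0) (h1.trans (by simp))).2.1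
    rintro (_ | s) (_ | s') h
    · rfl
    · exact absurd h (hnone s')
    · exact absurd h.symm (hnone s)
    · obtain ⟨a, ha, h1⟩ := mk_eq_iff.1 (show (e s : M ⧸ pointStab M U) = (e s' : M ⧸ pointStab M U) from h)
      rw [he2, he2] at h1
      obtain ⟨-, h2, h3⟩ := D.eq_of_coords (a' := a * -(f E E * s * s / 2)) (b' := a) (c' := a * s)
        (h1.trans (by module))
      rw [← h2, one_mul] at h3
      exact congrArg some (Subtype.ext h3.symm)
  refine ⟨?_, fun g hg => ?_⟩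
  · have hb : Function.Bijective (fun o => (⟨φ o, hmem o⟩ : RatImg F₀ P U M)) := by
      refine ⟨fun a b h => hinj (congrArg Subtype.val h), ?_⟩
      rintro ⟨ω, g, rfl, hg⟩
      obtain ⟨o, ho⟩ := hkey g hg
      exact ⟨o, Subtype.ext ho⟩
    rw [← Nat.card_eq_of_bijective _ hb, Finite.card_option]
  · obtain ⟨g', hgg', t, a, hga⟩ := hg
    obtain ⟨o, ho⟩ := hkey g' ⟨t, a, hga⟩
    rw [hgg'] at ho
    obtain ⟨r, hr, hrg⟩ : ∃ r : M, (r : G3) ∈ subfieldSubgroup F₀ P ∧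
        (r : M ⧸ pointStab M U) = (g : M ⧸ pointStab M U) := by
      cases o with
      | none => exact ⟨1, one_mem _, ho⟩
      | some s => exact ⟨e s, he1 s, ho⟩
    obtain ⟨a', ha', h1⟩ := mk_eq_iff.1 hrg
    have h2 : (((r : G3)⁻¹ * (g : G3) : G3) : M3) *ᵥ U = a' • U := by
      rw [gl_mul_mulVec, h1, mulVec_smul, ← gl_mul_mulVec, inv_mul_cancel, Units.val_one, one_mulVec]
    have h3 := D.stab_rational hHM hM hno (M.mul_mem (M.inv_mem r.2) g.2) h2
    have h4 := mul_mem hr h3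
    rwa [mul_inv_cancel_left] at h4

omit hno in
/-- the rational points are permuted by a point stabiliser inside the rational group -/
theorem ratImg_smul (hK : ∀ k : pointStab M U, ((k : M) : G3) ∈ subfieldSubgroup F₀ P)
    (k : pointStab M U) (ω : M ⧸ pointStab M U) (hω : ω ∈ RatImg F₀ P U M) : k • ω ∈ RatImg F₀ P U M := by
  obtain ⟨g, rfl, t, a, hga⟩ := hω
  obtain ⟨c, hc⟩ := Subf.subfield_image F₀ P (hK k)
  obtain ⟨b, hb⟩ := hc a
  exact ⟨(k : M) * g, rfl, t * c, b, by rw [Subgroup.coe_mul, gl_mul_mulVec, hga, mulVec_smul, hb, smul_smul]⟩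

/-- the orbit lengths off the rational points -/
theorem orbit_card {ω : M ⧸ pointStab M U} (hω : ω ∉ RatImg F₀ P U M) {a q : ℕ} (hq : q = 2 * a + 1)
    (hcard : Nat.card F₀ = q) : q * a ∣ Nat.card (MulAction.orbit (pointStab M U) ω) := by
  classical
  have h2 := D.str.two
  induction ω using QuotientGroup.induction_on with
  | _ g =>
  have hgU0 : ((g : G3) : M3) *ᵥ U ≠ 0 := fun h => D.U0 (gl_mulVec_eq_zero.1 h)
  have hgUU : f (((g : G3) : M3) *ᵥ U) (((g : G3) : M3) *ᵥ U) = 0 := by rw [mem_isoU.1 (hM g.2).1, D.uu]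
  obtain ⟨y, l, e, hy, hgw, hiso⟩ := (D.iso_cases hgU0 hgUU).resolve_left fun ⟨c, hc, hgc⟩ => by
    obtain ⟨u₀, hu₀⟩ := D.Urat
    exact hω ⟨g, rfl, c, u₀, by rw [hgc, hu₀]⟩
  have hirr : ¬ (l ∈ F₀ ∧ e ∈ F₀) := fun ⟨hl, he⟩ => by
    obtain ⟨v, hv⟩ := D.rat_comb hl F₀.one_mem he
    exact hω ⟨g, rfl, y, v, by rw [hgw, hv]⟩
  have hfix : ∀ k : pointStab M U, k ∈ MulAction.stabilizer (pointStab M U) (g : M ⧸ pointStab M U) →
      ∃ t : F, (((k : M) : G3) : M3) *ᵥ (l • U + (1 : F) • V + e • E) = t • (l • U + (1 : F) • V + e • E) := by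
    intro k hk
    have hk' : (((k : M) * g : M) : M ⧸ pointStab M U) = (g : M ⧸ pointStab M U) := hk
    obtain ⟨c, hc, h1⟩ := mk_eq_iff.1 hk'
    rw [Subgroup.coe_mul, gl_mul_mulVec, hgw, mulVec_smul, smul_smul] at h1
    refine ⟨c⁻¹, smul_right_injective _ (mul_ne_zero hc hy) ?_⟩
    show (c * y) • _ = (c * y) • _
    rw [← h1, smul_smul]
    congr 1
    field_simp
  obtain ⟨T, hT⟩ : ∃ T, T = MulAction.stabilizer (pointStab M U) (g : M ⧸ pointStab M U) := ⟨_, rfl⟩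
  have hmemT : ∀ k : pointStab M U, ∀ t : F,
      (((k : M) : G3) : M3) *ᵥ (l • U + (1 : F) • V + e • E) = t • (l • U + (1 : F) • V + e • E) → t ≠ 0 → k ∈ T := by
    intro k t hk ht
    rw [hT, MulAction.mem_stabilizer_iff]
    show (((k : M) * g : M) : M ⧸ pointStab M U) = (g : M ⧸ pointStab M U)
    refine mk_eq_iff.2 ⟨t⁻¹, inv_ne_zero ht, ?_⟩
    rw [Subgroup.coe_mul, gl_mul_mulVec, hgw, mulVec_smul, hk, smul_smul, smul_smul]
    congr 1
    field_simp
  have hTcard : Nat.card T = Nat.card (Zt σ) ∨ Nat.card T = 2 * Nat.card (Zt σ) := by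
    have hex1 : ∀ β : Zt σ, ∃ k : T, Par f U V E (((k : pointStab M U) : M) : G3) (β : F) 1 0 := fun β => by
      have hβ : (β : F) ≠ 0 := fun h => by have := β.2.2; rw [h, zero_mul] at this; exact zero_ne_one this
      obtain ⟨k, hk, hp⟩ := D.exists_par β.2.1 β.2.2 F₀.one_mem one_ne_zero F₀.zero_mem
      refine ⟨⟨⟨⟨k, hHM hk⟩, _, mul_ne_zero hβ one_ne_zero, hp.1⟩, hmemT _ β ?_ hβ⟩, hp⟩
      show (k : M3) *ᵥ _ = _
      rw [mulVec_add, mulVec_add, mulVec_smul, mulVec_smul, mulVec_smul, hp.1, hp.2.1, hp.2.2]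
      module
    choose e1 he1 using hex1
    have hall : ∀ k : T, ∃ β : Zt σ, Par f U V E (((k : pointStab M U) : M) : G3) (β : F) 1 0 ∨
        (e ∈ F₀ ∧ Par f U V E (((k : pointStab M U) : M) : G3) (β : F) (-1) (-(2 * e))) := by
      intro k
      obtain ⟨c, -, hc⟩ := (k : pointStab M U).2
      obtain ⟨β, b, s, h3, hN, hb, hb0, hs, hp⟩ := D.par_stab hHM hM hno ((k : pointStab M U) : M).2 hc
      have hβ : β ≠ 0 := fun h => by rw [h, zero_mul] at hN; exact zero_ne_one hN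
      obtain ⟨t, ht⟩ := hfix k (hT ▸ k.2)
      rcases D.par_fix hβ hb hb0 hs hp hirr hiso ht with ⟨rfl, rfl⟩ | ⟨rfl, he, rfl⟩
      · exact ⟨⟨β, h3, hN⟩, Or.inl hp⟩
      · exact ⟨⟨β, h3, hN⟩, Or.inr ⟨he, hp⟩⟩
    have hne : (1 : F) ≠ -1 := fun h => h2 (by linear_combination h)
    have hZ0 : ∀ β : Zt σ, (β : F) ≠ 0 := fun β h => by have := β.2.2; rw [h, zero_mul] at this; exact zero_ne_one this
    by_cases he : e ∈ F₀
    · right
      have hex2 : ∀ β : Zt σ, ∃ k : T, Par f U V E (((k : pointStab M U) : M) : G3) (β : F) (-1) (-(2 * e)) := fun β => by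
        obtain ⟨k, hk, hp⟩ := D.exists_par β.2.1 β.2.2 (F₀.neg_mem F₀.one_mem) (neg_ne_zero.2 one_ne_zero)
          (F₀.neg_mem (F₀.mul_mem (ofNat_mem F₀ 2) he))
        exact ⟨⟨⟨⟨k, hHM hk⟩, _, mul_ne_zero (hZ0 β) (neg_ne_zero.2 one_ne_zero), hp.1⟩,
          hmemT _ _ (D.par_neg_fix he hp) (neg_ne_zero.2 (hZ0 β))⟩, hp⟩
      choose e2 he2 using hex2
      have hb : Function.Bijective (Sum.elim e1 e2) := by
        refine ⟨Function.Injective.sumElim (fun β β' h => ?_) (fun β β' h => ?_) (fun β β' h => ?_), fun k => ?_⟩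
        · exact Subtype.ext (D.par_unique (hZ0 β) one_ne_zero (he1 β) (h ▸ he1 β')).1
        · exact Subtype.ext (D.par_unique (hZ0 β) (neg_ne_zero.2 one_ne_zero) (he2 β) (h ▸ he2 β')).1
        · exact hne (D.par_unique (hZ0 β) one_ne_zero (he1 β) (h ▸ he2 β')).2.1
        · obtain ⟨β, hp | ⟨-, hp⟩⟩ := hall k
          · exact ⟨Sum.inl β, Subtype.ext (Subtype.ext (Subtype.ext (D.par_eq (he1 β) hp)))⟩
          · exact ⟨Sum.inr β, Subtype.ext (Subtype.ext (Subtype.ext (D.par_eq (he2 β) hp)))⟩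
      rw [← Nat.card_eq_of_bijective _ hb, Nat.card_sum, two_mul]
    · left
      have hb : Function.Bijective e1 := by
        refine ⟨fun β β' h => Subtype.ext (D.par_unique (hZ0 β) one_ne_zero (he1 β) (h ▸ he1 β')).1, fun k => ?_⟩
        obtain ⟨β, hp | ⟨he', -⟩⟩ := hall k
        · exact ⟨β, Subtype.ext (Subtype.ext (Subtype.ext (D.par_eq (he1 β) hp)))⟩
        · exact absurd he' he
      rw [← Nat.card_eq_of_bijective _ hb]
  haveI : Fintype (pointStab M U) := Fintype.ofFinite _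
  have hmul := MulAction.card_orbit_mul_card_stabilizer_eq_card_group (pointStab M U) (g : M ⧸ pointStab M U)
  rw [← Nat.card_eq_fintype_card, ← Nat.card_eq_fintype_card, ← Nat.card_eq_fintype_card, ← hT,
    D.card_pointStab hHM hM hno, hcard, hq, Nat.add_sub_cancel] at hmul
  have hz : 0 < Nat.card (Zt σ) := Nat.card_pos_iff.2 ⟨⟨⟨1, by simp⟩⟩, inferInstance⟩
  rcases hTcard with h | h <;> rw [h] at hmul <;> rw [hq]
  · refine ⟨2, Nat.eq_of_mul_eq_mul_right hz ?_⟩
    rw [hmul]; ring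
  · refine ⟨1, Nat.eq_of_mul_eq_mul_right (Nat.mul_pos two_pos hz) ?_⟩
    rw [hmul]; ring

omit hno in
/-- there are at most `q³` isotropic points off `U` -/
theorem card_iso_pairs {q : ℕ} (hcard : Nat.card F₀ = q) (hF : Nat.card F = q ^ 2) :
    Nat.card {p : F × F // p.2 + σ p.2 + f E E * (p.1 * σ p.1) = 0} ≤ q ^ 3 := by
  have h2 := D.str.two
  have hθ := D.str.θ0
  have hmem : ∀ p : {p : F × F // p.2 + σ p.2 + f E E * (p.1 * σ p.1) = 0},
      (p.1.2 + f E E * (p.1.1 * σ p.1.1) / 2) / θ ∈ F₀ := fun p => D.mem_of_fix (by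
    have hp := p.2
    rw [map_div₀, map_add, map_div₀, map_mul, map_mul, map_ofNat, D.hf.involutive, D.nσ, D.str.θσ]
    field_simp
    linear_combination -2 * hp)
  refine (Nat.card_le_card_of_injective (fun p => (p.1.1, (⟨_, hmem p⟩ : F₀))) fun p p' h => ?_).trans
    (le_of_eq (by rw [Nat.card_prod, hcard, hF]; ring))
  obtain ⟨h1, h3⟩ := Prod.ext_iff.1 h
  simp only at h1
  have h4 := congrArg Subtype.val h3
  simp only [h1, div_left_inj' hθ, add_left_inj] at h4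
  exact Subtype.ext (Prod.ext h1 h4)

/-- an overgroup lies in the rational group or is transitive on isotropic points -/
theorem dichotomy {q : ℕ} (hq : Odd q) (hq7 : 7 ≤ q) (hcard : Nat.card F₀ = q) (hF : Nat.card F = q ^ 2)
    (hdvd : Nat.card M ∣ q ^ 3 * ((q ^ 2 - 1) * (q ^ 3 + 1))) :
    M ≤ subfieldSubgroup F₀ P ∨
      ((∀ w : V3, w ≠ 0 → f w w = 0 → ∃ g ∈ M, ∃ a : F, a ≠ 0 ∧ (g : M3) *ᵥ U = a • w) ∧
        Nat.card M = (q ^ 3 + 1) * (Nat.card (Zt σ) * ((q - 1) * q))) := by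
  classical
  obtain ⟨a, ha⟩ := hq
  have hK : ∀ k : pointStab M U, ((k : M) : G3) ∈ subfieldSubgroup F₀ P := fun k => by
    obtain ⟨c, -, hc⟩ := k.2
    exact D.stab_rational hHM hM hno (k : M).2 hc
  obtain ⟨hS, hSrat⟩ := D.card_ratImg hHM hM hno
  obtain ⟨j, hj⟩ := card_of_orbits (K := pointStab M U) (S := RatImg F₀ P U M) (D.ratImg_smul hHM hM hK)
    (fun ω hω => D.orbit_card hHM hM hno hω ha hcard)
  rw [hS, hcard] at hj
  have hMcard : Nat.card M = Nat.card (M ⧸ pointStab M U) * (Nat.card (Zt σ) * ((q - 1) * q)) := by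
    rw [Subgroup.card_eq_card_quotient_mul_card_subgroup (pointStab M U), D.card_pointStab hHM hM hno, hcard]
  have hN : Nat.card (M ⧸ pointStab M U) ∣ (q + 1) * (q ^ 3 + 1) := by
    have h1 : Nat.card (M ⧸ pointStab M U) * (q * (q - 1)) ∣ q ^ 2 * ((q + 1) * (q ^ 3 + 1)) * (q * (q - 1)) := by
      refine dvd_trans (Dvd.intro (Nat.card (Zt σ)) ?_) hdvd |>.trans (dvd_of_eq ?_)
      · rw [hMcard]; ring
      · rw [show q ^ 2 - 1 = (q + 1) * (q - 1) by rw [← Nat.sq_sub_sq, one_pow]]; ring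
    have h2 := Nat.dvd_of_mul_dvd_mul_right (Nat.mul_pos (by omega) (by omega)) h1
    refine (Nat.Coprime.pow_right 2 ?_).dvd_of_dvd_mul_left h2
    rw [hj, show q + 1 + q * a * j = 1 + q * (1 + a * j) by ring]
    exact (Nat.coprime_add_mul_left_left 1 q (1 + a * j)).2 (Nat.coprime_one_left q)
  rcases index_cases ha hq7 rfl hj hN with rfl | rfl
  · left
    intro g hg
    refine hSrat ⟨g, hg⟩ ?_
    have huniv : RatImg F₀ P U M = Set.univ := by
      refine Set.eq_of_subset_of_ncard_le (Set.subset_univ _) ?_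
      rw [Set.ncard_univ, ← Nat.card_coe_set_eq, hS, hcard, hj]
      simp
    rw [huniv]
    trivial
  · right
    have hNq : Nat.card (M ⧸ pointStab M U) = q ^ 3 + 1 := by rw [hj, ha]; ring
    refine ⟨fun w hw hww => ?_, by rw [hMcard, hNq]⟩
    rcases D.iso_cases hw hww with ⟨c, hc, hwc⟩ | ⟨y, l, s, hy, hws, hwiso⟩
    · exact ⟨1, M.one_mem, c⁻¹, inv_ne_zero hc, by
        rw [Units.val_one, one_mulVec, hwc, smul_smul, inv_mul_cancel₀ hc, one_smul]⟩
    -- the other cosets are in bijection with the other points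
    have hchoice : ∀ ω : {ω : M ⧸ pointStab M U // ω ≠ ((1 : M) : M ⧸ pointStab M U)}, ∃ (g : M)
        (p : {p : F × F // p.2 + σ p.2 + f E E * (p.1 * σ p.1) = 0}), (g : M ⧸ pointStab M U) = ω.1 ∧
        ∃ y : F, y ≠ 0 ∧ ((g : G3) : M3) *ᵥ U = y • (p.1.2 • U + (1 : F) • V + p.1.1 • E) := by
      rintro ⟨ω, hω⟩
      induction ω using QuotientGroup.induction_on with
      | _ g =>
      rcases D.iso_cases (w := ((g : G3) : M3) *ᵥ U) (fun h => D.U0 (gl_mulVec_eq_zero.1 h))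
        (by rw [mem_isoU.1 (hM g.2).1, D.uu]) with ⟨c, hc, hgc⟩ | ⟨y', l', s', hy', hgs, hiso'⟩
      · refine absurd ?_ hω
        exact (mk_eq_iff.2 ⟨c, hc, by rw [hgc, Subgroup.coe_one, Units.val_one, one_mulVec]⟩).symm
      · exact ⟨g, ⟨(s', l'), hiso'⟩, rfl, y', hy', hgs⟩
    choose g p hg y' hy' hgp using hchoice
    have hinj : Function.Injective p := fun ω ω' h => by
      refine Subtype.ext ?_
      rw [← hg ω, ← hg ω']
      exact mk_eq_iff.2 ⟨y' ω' / y' ω, div_ne_zero (hy' ω') (hy' ω), by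
        rw [hgp ω, hgp ω', h, smul_smul, div_mul_cancel₀ _ (hy' ω)]⟩
    have hcard1 : Nat.card {ω : M ⧸ pointStab M U // ω ≠ ((1 : M) : M ⧸ pointStab M U)} = q ^ 3 := by
      haveI : Fintype (M ⧸ pointStab M U) := Fintype.ofFinite _
      rw [Nat.card_eq_fintype_card, Fintype.card_subtype_compl, Fintype.card_subtype_eq, ← Nat.card_eq_fintype_card,
        hNq, Nat.add_sub_cancel]
    have hsur := ((Nat.bijective_iff_injective_and_card p).2 ⟨hinj, le_antisymm
      (Nat.card_le_card_of_injective p hinj) (hcard1.symm ▸ D.card_iso_pairs hHM hM hcard hF)⟩).2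
    obtain ⟨ω, hω⟩ := hsur ⟨(s, l), hwiso⟩
    refine ⟨g ω, (g ω).2, y' ω / y, div_ne_zero (hy' ω) hy, ?_⟩
    rw [hgp ω, hω, hws, smul_smul, div_mul_cancel₀ _ hy]

end O3

end CfsgLib.Perm.Trans.UnitThree.OSub
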