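import Cfsg.Agent.Lib.Perm.Trans.UnitThree.OrthPlane

/-!
# Orthogonal structures on three-dimensional unitary spaces: seven and eleven elements
-/

set_option autoImplicit false
set_option linter.all false

namespace CfsgLib.Perm.Trans.UnitThree.OSub

open scoped Matrix
open Matrix Cfsg.Geo CfsgLib.Perm.Asch CfsgLib.Perm.Trans CfsgLib.Perm.Trans.Unit CfsgLib.Perm.Trans.UnitThree
open CfsgLib.Perm.Trans.Subf (em em_add em_neg em_sub em_smul em_zero em_injective em_ne_zero exists_coords)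
open CfsgLib.Perm.Dickson (G2)

attribute [local instance] CfsgLib.Perm.Trans.Unit.subfieldFintype

/-- the involutions of the alternating group of degree five are conjugate -/
theorem alt_five_invol_conj : ∀ x y : alternatingGroup (Fin 5), x * x = 1 → x ≠ 1 → y * y = 1 → y ≠ 1 →
    ∃ z : alternatingGroup (Fin 5), z * x * z⁻¹ = y := by decide +kernel

variable {F : Type*} [Field F] [Fintype F]

local notation "M3" => Matrix (Fin 3) (Fin 3) F
local notation "G3" => GL (Fin 3) F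
local notation "V3" => Fin 3 → F

variable {σ : F ≃+* F} {f : (Fin 3 → F) → (Fin 3 → F) → F} {F₀ : Subfield F} {P : GL (Fin 3) F} {θ : F}
variable {U V E : Fin 3 → F}
variable {M : Subgroup (GL (Fin 3) F)}

namespace O3

variable (D : O3 σ f F₀ P θ U V E)
  (hHM : subfieldSubgroup F₀ P ⊓ (isoU f ⊓ specialLinear (Fin 3) F) ≤ M)
  (hM : M ≤ isoU f ⊓ specialLinear (Fin 3) F) (hno : NoTv f M U) (htr : IsTrans f M U)
include D hHM hM hno htr

/-- seven elements -/
theorem not_seven (hcard : Nat.card F₀ = 7)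
    (hMcard : Nat.card M = (7 ^ 3 + 1) * (Nat.card (Zt σ) * ((7 - 1) * 7))) : False := by
  classical
  have hz : Nat.card (Zt σ) = 1 := by
    haveI : Subsingleton (Zt σ) := by
      refine ⟨fun a b => ?_⟩
      suffices h : ∀ c : Zt σ, (c : F) = 1 from Subtype.ext ((h a).trans (h b).symm)
      intro c
      obtain ⟨h3, hN⟩ := c.2
      have h7 : (c : F) ^ Nat.card F₀ = c := by
        rw [hcard, show (c : F) ^ 7 = ((c : F) ^ 3) ^ 2 * c by ring, h3, one_pow, one_mul]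
      rw [D.sfix (mem_of_pow_eq_self h7)] at hN
      calc (c : F) = (c : F) ^ 3 := by rw [show (c : F) ^ 3 = c * (c * c) by ring, hN, mul_one]
        _ = 1 := h3
    haveI : Nonempty (Zt σ) := ⟨⟨1, by simp⟩⟩
    exact Nat.card_eq_one_iff_unique.2 ⟨inferInstance, inferInstance⟩
  rw [hz] at hMcard
  haveI : Fact (Nat.Prime 43) := ⟨by norm_num⟩
  obtain ⟨Q⟩ : Nonempty (Sylow 43 M) := inferInstance
  have hQ : Nat.card (Q : Subgroup M) = 43 := by
    rw [Sylow.card_eq_multiplicity, hMcard]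
    have h : Nat.factorization ((7 ^ 3 + 1) * (1 * ((7 - 1) * 7))) 43 = 1 := by
      rw [show (7 ^ 3 + 1) * (1 * ((7 - 1) * 7)) = 43 * 336 by norm_num, Nat.factorization_mul (by norm_num) (by norm_num)]
      simp [Nat.Prime.factorization_self (show Nat.Prime 43 by norm_num),
        Nat.factorization_eq_zero_of_not_dvd (show ¬ 43 ∣ 336 by norm_num)]
    rw [h, pow_one]
  have hidx : (Q : Subgroup M).index = 336 := by
    have h := (Q : Subgroup M).card_mul_index
    rw [hQ, hMcard] at h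
    omega
  have hn1 : Nat.card (Sylow 43 M) = 1 := by
    have h1 := Q.card_dvd_index
    have h2 := card_sylow_modEq_one 43 M
    rw [hidx] at h1
    have h3 : ∀ n : ℕ, n ≤ 336 → n ∣ 336 → n % 43 = 1 → n = 1 := by decide +kernel
    exact h3 _ (Nat.le_of_dvd (by norm_num) h1) h1 (by simpa [Nat.ModEq] using h2)
  haveI hnormal : (Q : Subgroup M).Normal := by
    haveI : Subsingleton (Sylow 43 M) := (Nat.card_eq_one_iff_unique.1 hn1).1
    exact Sylow.normal_of_subsingleton Q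
  obtain ⟨x, hx⟩ := (isCyclic_of_prime_card hQ).exists_generator
  have hxM : ∀ g : M, ∃ i : ℤ, g * (x : M) * g⁻¹ = (x : M) ^ i := fun g => by
    obtain ⟨i, hi⟩ := hx ⟨_, hnormal.conj_mem _ x.2 g⟩
    exact ⟨i, by
      have := congrArg Subtype.val hi
      rw [SubgroupClass.coe_zpow] at this
      exact this.symm⟩
  obtain ⟨t₀, ht₀, tU, tV, tE⟩ := D.exists_tor (F₀.neg_mem F₀.one_mem) (neg_ne_zero.2 one_ne_zero)
  obtain ⟨g₀, hg₀, gU, gV, gE⟩ := D.exists_heis F₀.one_mem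
  obtain ⟨t, ht⟩ : ∃ t : M, (t : G3) = t₀ := ⟨⟨t₀, hHM ht₀⟩, rfl⟩
  obtain ⟨g, hg⟩ : ∃ g : M, (g : G3) = g₀ := ⟨⟨g₀, hHM hg₀⟩, rfl⟩
  obtain ⟨c, hc⟩ : ∃ c, c = t * g⁻¹ * t⁻¹ * g := ⟨_, rfl⟩
  have hcx : c * (x : M) * c⁻¹ = x := by
    obtain ⟨i, hi⟩ := hxM t
    obtain ⟨j, hj⟩ := hxM g
    have e1 : ∀ (u : M) (k : ℤ), u * (x : M) ^ k * u⁻¹ = (u * x * u⁻¹) ^ k := fun u k => conj_zpow.symm
    have h1 : g * t * x * (g * t)⁻¹ = t * g * x * (t * g)⁻¹ := by
      rw [show g * t * x * (g * t)⁻¹ = g * (t * x * t⁻¹) * g⁻¹ by group,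
        show t * g * x * (t * g)⁻¹ = t * (g * x * g⁻¹) * t⁻¹ by group, hi, hj, e1, e1, hi, hj, ← _root_.zpow_mul, ← _root_.zpow_mul,
        mul_comm]
    have htt : t⁻¹ = t := inv_eq_of_mul_eq_one_right (Subtype.ext (by
      rw [Subgroup.coe_mul, ht, Subgroup.coe_one]
      exact D.ext (by rw [gl_mul_mulVec, tU, mulVec_smul, tU, Units.val_one, one_mulVec]; module)
        (by rw [gl_mul_mulVec, tV, inv_neg, inv_one, mulVec_smul, tV, inv_neg, inv_one, Units.val_one, one_mulVec]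
            module)
        (by rw [gl_mul_mulVec, tE, tE, Units.val_one, one_mulVec])))
    have h2 : c = (g * t)⁻¹ * (t * g) := by
      rw [hc, _root_.mul_inv_rev]
      conv_rhs => rw [htt]
      conv_lhs => rw [htt]
      group
    rw [h2, show (g * t)⁻¹ * (t * g) * x * ((g * t)⁻¹ * (t * g))⁻¹ = (g * t)⁻¹ * (t * g * x * (t * g)⁻¹) * (g * t) by
      group, ← h1]
    group
  have Hg : Uni σ f U V E g₀ 1 (-(f E E * 1 * 1 / 2)) := ⟨gU, by rw [gE, map_one], by rw [gV]; module⟩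
  obtain ⟨s, l, hs, Hc⟩ : ∃ s l : F, s = 2 ∧ Uni σ f U V E (c : G3) s l := by
    have h := D.uni_mul (D.uni_conj (F₀.neg_mem F₀.one_mem) (neg_ne_zero.2 one_ne_zero) tU tV tE (D.uni_inv Hg)) Hg
    refine ⟨_, _, ?_, by rw [hc, Subgroup.coe_mul, Subgroup.coe_mul, Subgroup.coe_mul, Subgroup.coe_inv,
      Subgroup.coe_inv, ht, hg]; exact h⟩
    ring
  subst hs
  obtain ⟨w, hw⟩ : ∃ w, w = (((x : M) : G3) : M3) *ᵥ U := ⟨_, rfl⟩
  have hcw : ((c : G3) : M3) *ᵥ w = w := by
    have h : c * (x : M) = (x : M) * c := mul_inv_eq_iff_eq_mul.1 hcx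
    have h' := congrArg (fun z : M => ((z : G3) : M3) *ᵥ U) h
    simp only [Subgroup.coe_mul, gl_mul_mulVec, Hc.1] at h'
    rw [hw, h']
  obtain ⟨a, b, e, hwc⟩ : ∃ a b e : F, w = a • U + b • V + e • E := ⟨_, _, _, D.coords w⟩
  rw [hwc, mulVec_add, mulVec_add, mulVec_smul, mulVec_smul, mulVec_smul, Hc.1, Hc.2.1, Hc.2.2] at hcw
  obtain ⟨h1, -, h3⟩ := D.eq_of_coords (a := a + b * l - e * (f E E * σ 2)) (b := b) (c := b * 2 + e) (a' := a)
    (b' := b) (c' := e) (by linear_combination (norm := module) hcw)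
  have h2 := D.str.two
  have hb : b = 0 := by
    have : b * 2 = 0 := by linear_combination h3
    exact (mul_eq_zero.1 this).resolve_right h2
  have he : e = 0 := by
    have : e * (f E E * σ 2) = 0 := by rw [hb] at h1; linear_combination -h1
    exact (mul_eq_zero.1 this).resolve_right (mul_ne_zero D.ee (by rw [map_ofNat]; exact h2))
  have hxK : (x : M) ∈ pointStab M U := by
    have ha : (((x : M) : G3) : M3) *ᵥ U = a • U := by rw [← hw, hwc, hb, he]; simp
    exact ⟨a, fun h => D.U0 (gl_mulVec_eq_zero.1 (by rw [ha, h, zero_smul])), ha⟩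
  have hord : orderOf (x : M) = 43 := by
    rw [Subgroup.orderOf_coe, orderOf_eq_card_of_forall_mem_zpowers hx, hQ]
  have hdvd : orderOf (x : M) ∣ Nat.card (pointStab M U) := by
    rw [← Subgroup.orderOf_mk (x : M) hxK]
    exact orderOf_dvd_natCard _
  rw [hord, D.card_pointStab hHM hM hno, hz, hcard] at hdvd
  norm_num at hdvd

/-- eleven elements -/
theorem not_eleven {φ : lineE M E →* G2 F} (hiso : Nonempty (φ.range ≃* alternatingGroup (Fin 5)))
    (hker : ∀ g, φ g = 1 → ∃ β b : F, β ^ 3 = 1 ∧ (b = 1 ∨ b = -1) ∧ Par f U V E (g : G3) β b 0)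
    (hscal : ∀ g : lineE M E, ∀ a : F, ((g : G3) : M3) *ᵥ U = a • U → ((g : G3) : M3) *ᵥ V = a • V → φ g = 1) :
    False := by
  classical
  have h2 := D.str.two
  have hn := D.ee
  have hσ2 : σ (2 : F) = 2 := map_ofNat σ 2
  obtain ⟨t, ht, tU, tV, tE⟩ := D.exists_tor (F₀.neg_mem F₀.one_mem) (neg_ne_zero.2 one_ne_zero)
  rw [inv_neg, inv_one] at tV
  -- a rational element of order four
  obtain ⟨y, hy, yU, yV, yE⟩ := D.exists_rational
    (T := !![1 / 2, -(1 / f E E), 1; -(f E E / 4), 1 / 2, f E E / 2; -(1 / 2), -(1 / f E E), 0])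
    (by
      have h4 : (4 : F) ≠ 0 := by rw [show (4 : F) = 2 * 2 by norm_num]; exact mul_ne_zero h2 h2
      rw [det_fin_three]
      simp
      field_simp
      ring)
    (fun i j => by
      have h1 := F₀.one_mem
      have hn' := D.n_mem
      fin_cases i <;> fin_cases j <;>
        simp [F₀.zero_mem, F₀.one_mem, F₀.inv_mem (ofNat_mem F₀ 2), F₀.inv_mem hn',
          F₀.neg_mem (F₀.div_mem hn' (ofNat_mem F₀ 4)), F₀.div_mem hn' (ofNat_mem F₀ 2)])
    (fun i j => by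
      have h4 : (4 : F) ≠ 0 := by rw [show (4 : F) = 2 * 2 by norm_num]; exact mul_ne_zero h2 h2
      have hσ4 : σ (4 : F) = 4 := map_ofNat σ 4
      fin_cases i <;> fin_cases j <;>
        simp [col, D.hf.add_left, herm_add_right D.hf, D.hf.smul_left, herm_smul_right D.hf, herm_neg_left D.hf,
          herm_neg_right D.hf, D.uu, D.vv, D.uv, D.vu, D.eu, D.ev, D.ue, D.ve, D.nσ, hσ2, hσ4] <;>
        field_simp <;> ring)
  have h4 : (4 : F) ≠ 0 := by rw [show (4 : F) = 2 * 2 by norm_num]; exact mul_ne_zero h2 h2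
  have yU' : (y : M3) *ᵥ U = (1 / 2 : F) • U + (-(f E E / 4)) • V + (-(1 / 2) : F) • E := by rw [yU]; simp [col]
  have yV' : (y : M3) *ᵥ V = (-(1 / f E E)) • U + (1 / 2 : F) • V + (-(1 / f E E)) • E := by rw [yV]; simp [col]
  have yE' : (y : M3) *ᵥ E = U + (f E E / 2) • V := by rw [yE]; simp [col]
  have zU : ((y * y : G3) : M3) *ᵥ U = (-(f E E / 2)) • V := by
    rw [gl_mul_mulVec, yU']
    simp only [mulVec_add, mulVec_smul, yU', yV', yE']
    match_scalars <;> field_simp <;> ring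
  have zV : ((y * y : G3) : M3) *ᵥ V = (-(2 / f E E)) • U := by
    rw [gl_mul_mulVec, yV']
    simp only [mulVec_add, mulVec_smul, yU', yV', yE']
    match_scalars <;> field_simp <;> ring
  have zE : ((y * y : G3) : M3) *ᵥ E = -E := by
    rw [gl_mul_mulVec, yE']
    simp only [mulVec_add, mulVec_smul, yU', yV', yE']
    match_scalars <;> field_simp <;> ring
  obtain ⟨c, hc⟩ := exists_norm D.hf (d := (-1 : F)) (by rw [map_neg, map_one])
  obtain ⟨w, hw⟩ : ∃ w, w = U + (f E E / 2) • V + c • E := ⟨_, rfl⟩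
  have hzw : ((y * y : G3) : M3) *ᵥ w = -w := by
    rw [hw, mulVec_add, mulVec_add, mulVec_smul, mulVec_smul, zU, zV, zE]
    match_scalars <;> field_simp <;> ring
  have hww : f w w = 0 := by
    rw [hw, show U + (f E E / 2) • V + c • E = (1 : F) • U + (f E E / 2) • V + c • E by module, D.form_eq, map_div₀,
      D.nσ, hσ2, map_one, hc]
    field_simp
    ring
  have hw0 : w ≠ 0 := fun h => by
    obtain ⟨h1, -, -⟩ := D.zero_of_coords (a := 1) (b := f E E / 2) (c := c)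
      (by rw [hw] at h; linear_combination (norm := module) h)
    exact one_ne_zero h1
  obtain ⟨k, hk, a, ha, hkU⟩ := htr w hw0 hww
  obtain ⟨u, hu⟩ : ∃ u, u = k⁻¹ * (y * y) * k := ⟨_, rfl⟩
  have huM : u ∈ M := hu ▸ M.mul_mem (M.mul_mem (M.inv_mem hk) (M.mul_mem (hHM hy) (hHM hy))) hk
  have huU : (u : M3) *ᵥ U = (-1 : F) • U := by
    rw [hu, gl_mul_mulVec, gl_mul_mulVec, hkU]
    conv_lhs => arg 2; rw [mulVec_smul, hzw]
    rw [show a • -w = (-1 : F) • (a • w) by module, mulVec_smul, ← hkU, ← gl_mul_mulVec, inv_mul_cancel,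
      Units.val_one, one_mulVec]
  obtain ⟨β, b, s, h3, hN, hb, hb0, hs, hp⟩ := D.par_stab hHM hM hno huM huU
  have hy4 : y * y * (y * y) = 1 := D.ext
    (by rw [gl_mul_mulVec (y * y), zU, mulVec_smul, zV, Units.val_one, one_mulVec]
        match_scalars <;> field_simp <;> ring)
    (by rw [gl_mul_mulVec (y * y), zV, mulVec_smul, zU, Units.val_one, one_mulVec]
        match_scalars <;> field_simp <;> ring)
    (by rw [gl_mul_mulVec (y * y), zE, mulVec_neg, zE, neg_neg, Units.val_one, one_mulVec])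
  have huu : u * u = 1 := by
    rw [hu, show k⁻¹ * (y * y) * k * (k⁻¹ * (y * y) * k) = k⁻¹ * (y * y * (y * y)) * k by group, hy4, mul_one,
      inv_mul_cancel]
  have hβb : β * b = -1 := smul_left_injective F D.U0 (hp.1.symm.trans huU)
  have hβ : β = 1 := by
    have h4 : (u : M3) *ᵥ ((u : M3) *ᵥ E) = E := by rw [← gl_mul_mulVec, huu, Units.val_one, one_mulVec]
    rw [hp.2.1, mulVec_sub, mulVec_smul, mulVec_smul, hp.2.1, hp.1] at h4
    obtain ⟨-, -, h5⟩ := D.eq_of_coords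
      (a := -(β * (β * b * (f E E * s))) - β * b * (f E E * s) * (β * b)) (b := 0) (c := β * β) (a' := 0) (b' := 0)
      (c' := 1) (by linear_combination (norm := module) h4)
    have h6 : β ^ 3 = β * (β * β) := by ring
    rw [h5, mul_one, h3] at h6
    exact h6.symm
  subst hβ
  rw [one_mul] at hβb
  subst hβb
  obtain ⟨r, hr', rU, rV, rE⟩ := D.exists_heis (F₀.neg_mem (F₀.div_mem hs (ofNat_mem F₀ 2)))
  have hur : u * r = r * t := by
    refine D.ext ?_ ?_ ?_
    · rw [gl_mul_mulVec, gl_mul_mulVec, rU, huU, tU, mulVec_smul, rU]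
    · rw [gl_mul_mulVec, gl_mul_mulVec, rV, tV, mulVec_sub, mulVec_add, mulVec_smul, mulVec_smul, mulVec_smul, huU,
        rV, hp.2.1, hp.2.2]
      match_scalars <;> field_simp <;> ring
    · rw [gl_mul_mulVec, gl_mul_mulVec, rE, tE, rE, mulVec_sub, mulVec_smul, huU, hp.2.1]
      match_scalars <;> field_simp <;> ring
  -- a square root of the reflection
  obtain ⟨d, hd⟩ : ∃ d, d = (k * r)⁻¹ * y * (k * r) := ⟨_, rfl⟩
  have hdd : d * d = t := by
    rw [hd, show (k * r)⁻¹ * y * (k * r) * ((k * r)⁻¹ * y * (k * r)) = r⁻¹ * ((k⁻¹ * (y * y) * k) * r) by group,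
      ← hu, hur, inv_mul_cancel_left]
  have hdM : d ∈ M := hd ▸ M.mul_mem (M.mul_mem (M.inv_mem (M.mul_mem hk (hHM hr'))) (hHM hy)) (M.mul_mem hk (hHM hr'))
  have hfixE : ∀ x : V3, (t : M3) *ᵥ x = x → x ≠ 0 → ∃ c : F, c ≠ 0 ∧ x = c • E := by
    intro x hfix hx0
    obtain ⟨a', b', c', hxc⟩ : ∃ a' b' c' : F, x = a' • U + b' • V + c' • E := ⟨_, _, _, D.coords x⟩
    rw [hxc, mulVec_add, mulVec_add, mulVec_smul, mulVec_smul, mulVec_smul, tU, tV, tE] at hfix
    obtain ⟨h8, h9, -⟩ := D.eq_of_coords (a := -a') (b := -b') (c := c') (a' := a') (b' := b') (c' := c')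
      (by linear_combination (norm := module) hfix)
    have ha' : a' = 0 := by
      have : (2 : F) * a' = 0 := by linear_combination -h8
      exact (mul_eq_zero.1 this).resolve_left h2
    have hb' : b' = 0 := by
      have : (2 : F) * b' = 0 := by linear_combination -h9
      exact (mul_eq_zero.1 this).resolve_left h2
    rw [ha', hb', zero_smul, zero_smul, zero_add, zero_add] at hxc
    exact ⟨c', fun h => hx0 (by rw [hxc, h, zero_smul]), hxc⟩
  have hE0 : E ≠ 0 := fun h => D.ee (by rw [h, herm_zero_left D.hf])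
  obtain ⟨cd, hcd, hdE⟩ := hfixE ((d : M3) *ᵥ E) (by
    rw [← gl_mul_mulVec, show t * d = d * t by rw [← hdd, mul_assoc], gl_mul_mulVec, tE])
    fun h => hE0 (gl_mulVec_eq_zero.1 h)
  obtain ⟨dd, hdd'⟩ : ∃ dd : lineE M E, (dd : G3) = d := ⟨⟨d, mem_lineE.2 ⟨hdM, cd, hcd, hdE⟩⟩, rfl⟩
  obtain ⟨r₀, hr₀, RU, RV, RE⟩ := D.exists_swap
  obtain ⟨R, hR⟩ : ∃ R : lineE M E, (R : G3) = r₀ :=
    ⟨⟨r₀, mem_lineE.2 ⟨hHM hr₀, -1, neg_ne_zero.2 one_ne_zero, by rw [RE, neg_one_smul]⟩⟩, rfl⟩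
  obtain ⟨T, hT⟩ : ∃ T : lineE M E, (T : G3) = t :=
    ⟨⟨t, mem_lineE.2 ⟨hHM ht, 1, one_ne_zero, by rw [tE, one_smul]⟩⟩, rfl⟩
  have hdT : dd * dd = T := Subtype.ext (by rw [Subgroup.coe_mul, hdd', hdd, hT])
  have hφT : φ T = 1 := hscal T (-1) (by rw [hT, tU]) (by rw [hT, tV])
  have hsq : ∀ β : F, β ^ 3 = 1 → β * β ≠ -1 := fun β h3 h => by
    have e1 : β = -1 := by
      have : β ^ 3 = β * (β * β) := by ring
      rw [h3, h] at this
      linear_combination this
    rw [e1] at h3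
    exact h2 (by linear_combination -h3)
  have hd1 : φ dd ≠ 1 := fun h => by
    obtain ⟨β, b, h3, hb, hp⟩ := hker dd h
    have h' : (((dd * dd : lineE M E) : G3) : M3) *ᵥ U = (-1 : F) • U := by rw [hdT, hT, tU]
    rw [Subgroup.coe_mul, gl_mul_mulVec, hp.1, mulVec_smul, hp.1, smul_smul] at h'
    refine hsq β h3 ?_
    rw [← smul_left_injective F D.U0 h']
    rcases hb with rfl | rfl <;> ring
  have hR1 : φ R ≠ 1 := fun h => by
    obtain ⟨β, b, h3, hb, hp⟩ := hker R h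
    have h' := hp.1
    rw [hR, RU] at h'
    exact one_ne_zero (D.eq_of_coords (a := 0) (b := 1) (c := 0) (a' := β * b) (b' := 0) (c' := 0)
      (by linear_combination (norm := module) h')).2.1
  have hR2 : R * R = 1 := Subtype.ext (by
    rw [Subgroup.coe_mul, hR, Subgroup.coe_one]
    exact D.ext (by rw [gl_mul_mulVec, RU, RV, Units.val_one, one_mulVec])
      (by rw [gl_mul_mulVec, RV, RU, Units.val_one, one_mulVec])
      (by rw [gl_mul_mulVec, RE, mulVec_neg, RE, neg_neg, Units.val_one, one_mulVec]))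
  obtain ⟨e⟩ := hiso
  obtain ⟨x1, hx1⟩ : ∃ x1 : φ.range, (x1 : G2 F) = φ dd := ⟨⟨_, dd, rfl⟩, rfl⟩
  obtain ⟨x2, hx2⟩ : ∃ x2 : φ.range, (x2 : G2 F) = φ R := ⟨⟨_, R, rfl⟩, rfl⟩
  obtain ⟨z, hz⟩ := alt_five_invol_conj (e x1) (e x2)
    (by rw [← map_mul, show x1 * x1 = 1 from Subtype.ext (by rw [Subgroup.coe_mul, hx1, ← map_mul, hdT, hφT, Subgroup.coe_one]),
      map_one])
    (fun h => hd1 (by rw [← hx1, (map_eq_one_iff e e.injective).1 h, Subgroup.coe_one]))
    (by rw [← map_mul, show x2 * x2 = 1 from Subtype.ext (by rw [Subgroup.coe_mul, hx2, ← map_mul, hR2, map_one, Subgroup.coe_one]),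
      map_one])
    (fun h => hR1 (by rw [← hx2, (map_eq_one_iff e e.injective).1 h, Subgroup.coe_one]))
  obtain ⟨h, hh⟩ := (e.symm z).2
  have hconj : φ h * φ dd * (φ h)⁻¹ = φ R := by
    have h1 := congrArg (fun y => ((e.symm y : φ.range) : G2 F)) hz
    simp only [map_mul, map_inv, MulEquiv.symm_apply_apply, Subgroup.coe_mul, Subgroup.coe_inv] at h1
    rwa [hx1, hx2, ← hh] at h1
  obtain ⟨j, hj⟩ : ∃ j, j = R⁻¹ * (h * dd * h⁻¹) := ⟨_, rfl⟩
  obtain ⟨β, b, h3, hb, hp⟩ := hker j (by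
    rw [hj, map_mul, map_inv, map_mul, map_mul, map_inv, hconj, inv_mul_cancel])
  have hb0 : b ≠ 0 := by rcases hb with rfl | rfl <;> simp
  have key : R * j * (R * j) = h * T * h⁻¹ := by
    rw [hj, mul_inv_cancel_left, ← hdT]
    group
  have h1 := congrArg (fun g : lineE M E => ((g : G3) : M3) *ᵥ U) key
  simp only [Subgroup.coe_mul, gl_mul_mulVec] at h1
  obtain ⟨hiU, -⟩ := D.plane_apply hM (h⁻¹).2
  rw [hp.1, hR, mulVec_smul, RU, mulVec_smul, hp.2.2, mulVec_smul] at h1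
  conv_rhs at h1 => arg 2; rw [hiU, mulVec_add, mulVec_smul, mulVec_smul, hT, tU, tV,
    smul_comm _ (-1 : F), smul_comm _ (-1 : F), ← smul_add, ← hiU]
  rw [mulVec_smul, ← gl_mul_mulVec, ← Subgroup.coe_mul, mul_inv_cancel, Subgroup.coe_one, Units.val_one,
    one_mulVec] at h1
  simp only [mul_zero, zero_mul, zero_div, zero_smul, add_zero, sub_zero, mulVec_smul, RV, smul_smul] at h1
  refine hsq β h3 ?_
  rw [← smul_left_injective F D.U0 h1]
  field_simp

end O3

end CfsgLib.Perm.Trans.UnitThree.OSub
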