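import Cfsg.Agent.Lib.Perm.Trans.UnitThree.OrthExc
import Cfsg.Agent.Lib.Perm.Trans.UnitThree.Points
import Cfsg.Agent.Lib.Perm.Trans.UnitThree.SingerIndex
import Cfsg.Agent.Lib.Perm.Asch.Forms.UProper2
import Cfsg.Agent.Lib.Perm.Trans.UnitSU

/-!
# Subfield groups of orthogonal type are maximal in the three-dimensional special unitary group
-/

set_option autoImplicit false
set_option linter.all false

namespace CfsgLib.Perm.Trans.UnitThree.OSub

open scoped Matrix
open Matrix Cfsg Cfsg.Geo CfsgLib.Perm.Asch CfsgLib.Perm.Trans CfsgLib.Perm.Trans.Unit CfsgLib.Perm.Trans.UnitThree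
open CfsgLib.Perm.Trans.Subf (em em_add em_neg em_sub em_smul em_zero em_injective em_ne_zero exists_coords)

variable {F : Type*} [Field F] [Fintype F]

local notation "M3" => Matrix (Fin 3) (Fin 3) F
local notation "G3" => GL (Fin 3) F
local notation "V3" => Fin 3 → F

variable {q : ℕ}

/-- subfield groups of orthogonal type -/
theorem subfield_orth_maximal (hF : Fintype.card F = q ^ 2) (hq : Odd q) (hq7 : 7 ≤ q) (F₀ : Subfield F)
    (P : GL (Fin 3) F) (hcard : Fintype.card F = Nat.card F₀ ^ 2)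
    (hrat : IsFormRationalStructure (hermForm 3 F q) F₀ 1 P) :
    IsMaximalIn (GU 3 F q ⊓ specialLinear (Fin 3) F) (subfieldSubgroup F₀ P ⊓ (GU 3 F q ⊓ specialLinear (Fin 3) F)) := by
  classical
  obtain ⟨C⟩ := Unit.ctx_of_card (F := F) hF
  obtain ⟨σ, hσ, hf⟩ : ∃ σ : F ≃+* F, (∀ x, σ x = x ^ q) ∧ IsUnitaryForm σ (hermForm 3 F q) :=
    ⟨_, C.bar_eq, Unit.isUnitary_hermForm C (n := 3)⟩
  have hF₀ : Nat.card F₀ = q := Nat.pow_left_injective two_ne_zero (hcard.symm.trans hF)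
  obtain ⟨θ, hθ, hθσ⟩ := exists_trace_zero hf
  have h2 : (2 : F) ≠ 0 := fun h => by
    haveI : CharP F 2 := (CharP.charP_iff_prime_eq_zero Nat.prime_two).2 (by exact_mod_cast h)
    obtain ⟨n, -, hn⟩ := FiniteField.card F 2
    have h1 : 2 ∣ q ^ 2 := by rw [← hF, hn]; exact dvd_pow_self 2 n.ne_zero
    obtain ⟨a, ha⟩ := hq
    have := Nat.prime_two.dvd_of_dvd_pow h1
    omega
  have S : Str σ (hermForm 3 F q) F₀ P θ := ⟨hf, fun x => ⟨fun hx => by
      rw [hσ]
      have := pow_eq_self x hx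
      rwa [hF₀] at this, fun hx => mem_of_pow_eq_self (by rw [hF₀, ← hσ, hx])⟩, h2, hθ, hθσ, fun a b => by
    have := hrat (fun i => (a i : F)) (fun i => (b i : F)) (fun i => (a i).2) (fun i => (b i).2)
    rwa [one_mul] at this⟩
  obtain ⟨U, V, E, D⟩ := exists_o3 S
  have hbig : 4 < Fintype.card F := by
    rw [hF]
    calc 4 < 7 ^ 2 := by norm_num
      _ ≤ q ^ 2 := Nat.pow_le_pow_left hq7 2
  have hne : F₀ ≠ ⊤ := fun h => hθ (by
    have h1 : σ θ = θ := (S.fix θ).1 (h ▸ Subfield.mem_top θ)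
    rw [hθσ] at h1
    have h3 : (2 : F) * θ = 0 := by linear_combination -h1
    exact (mul_eq_zero.1 h3).resolve_left h2)
  refine isMaximalIn_of_full (fun hle => su_not_le_subfield C le_rfl hne P hle) fun M hHM hM hMH => ?_
  by_cases hno : NoTv (hermForm 3 F q) M U
  swap
  · unfold NoTv at hno
    push Not at hno
    obtain ⟨c, hc, hc0⟩ := hno
    exact D.top_of_tv hHM hM hbig hc0 hc
  exfalso
  have hdvd : Nat.card M ∣ q ^ 3 * ((q ^ 2 - 1) * (q ^ 3 + 1)) :=
    card_suG hF ▸ Subgroup.card_dvd_of_le hM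
  rcases D.dichotomy hHM hM hno hq hq7 hF₀ (by rw [Nat.card_eq_fintype_card, hF]) hdvd with h | ⟨htr, hMcard⟩
  · exact hMH h
  rcases D.plane_cases hHM hM hno htr hq hq7 hF₀ with rfl | ⟨rfl, φ, hiso, hker, hscal⟩
  · exact D.not_seven hHM hM hno htr hF₀ hMcard
  · exact D.not_eleven hHM hM hno htr hiso hker hscal

end CfsgLib.Perm.Trans.UnitThree.OSub
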