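import Cfsg.Agent.Lib.Perm.Trans.UnitThree.OrthPoint

/-!
# Orthogonal structures on three-dimensional unitary spaces: the parameters of a point stabiliser
-/

set_option autoImplicit false
set_option linter.all false

namespace CfsgLib.Perm.Trans.UnitThree.OSub

open scoped Matrix
open Matrix Cfsg.Geo CfsgLib.Perm.Asch CfsgLib.Perm.Trans CfsgLib.Perm.Trans.Unit CfsgLib.Perm.Trans.UnitThree
open CfsgLib.Perm.Trans.Subf (em em_add em_neg em_sub em_smul em_zero em_injective em_ne_zero exists_coords)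

attribute [local instance] CfsgLib.Perm.Trans.Unit.subfieldFintype

variable {F : Type*} [Field F] [Fintype F]

local notation "M3" => Matrix (Fin 3) (Fin 3) F
local notation "G3" => GL (Fin 3) F
local notation "V3" => Fin 3 → F

variable {σ : F ≃+* F} {f : (Fin 3 → F) → (Fin 3 → F) → F} {F₀ : Subfield F} {P : GL (Fin 3) F} {θ : F}
variable {U V E : Fin 3 → F}

/-- the scalars of the special unitary group -/
abbrev Zt (σ : F ≃+* F) : Type _ := {β : F // β ^ 3 = 1 ∧ β * σ β = 1}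

/-- an element of a point stabiliser with its parameters -/
def Par (f : (Fin 3 → F) → (Fin 3 → F) → F) (U V E : Fin 3 → F) (g : GL (Fin 3) F) (β b s : F) : Prop :=
  (g : Matrix (Fin 3) (Fin 3) F) *ᵥ U = (β * b) • U ∧
    (g : Matrix (Fin 3) (Fin 3) F) *ᵥ E = β • E - (β * b * (f E E * s)) • U ∧
    (g : Matrix (Fin 3) (Fin 3) F) *ᵥ V = (β / b) • V + (β * s) • E - (β * b * (f E E * s * s / 2)) • U

/-- the stabiliser in `M` of a line -/
def pointStab (M : Subgroup (GL (Fin 3) F)) (u : Fin 3 → F) : Subgroup M where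
  carrier := {g | ∃ a : F, a ≠ 0 ∧ ((g : GL (Fin 3) F) : Matrix (Fin 3) (Fin 3) F) *ᵥ u = a • u}
  one_mem' := ⟨1, one_ne_zero, by rw [Subgroup.coe_one, Units.val_one, one_mulVec, one_smul]⟩
  mul_mem' := by
    rintro g h ⟨a, ha, hg⟩ ⟨b, hb, hh⟩
    exact ⟨b * a, mul_ne_zero hb ha, by rw [Subgroup.coe_mul, gl_mul_mulVec, hh, mulVec_smul, hg, smul_smul]⟩
  inv_mem' := by
    rintro g ⟨a, ha, hg⟩
    refine ⟨a⁻¹, inv_ne_zero ha, ?_⟩
    have h := congrArg (fun x => (((g : GL (Fin 3) F)⁻¹ : GL (Fin 3) F) : Matrix (Fin 3) (Fin 3) F) *ᵥ x) hg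
    simp only [← gl_mul_mulVec, inv_mul_cancel, Units.val_one, one_mulVec, mulVec_smul] at h
    rw [Subgroup.coe_inv]
    conv_rhs => rw [h]
    rw [smul_smul, inv_mul_cancel₀ ha, one_smul]

namespace O3

variable (D : O3 σ f F₀ P θ U V E)
include D

theorem exists_scalar {β : F} (h3 : β ^ 3 = 1) (hN : β * σ β = 1) :
    ∃ g ∈ subfieldSubgroup F₀ P ⊓ (isoU f ⊓ specialLinear (Fin 3) F), ∀ x, (g : M3) *ᵥ x = β • x := by
  have hβ : β ≠ 0 := fun h => by rw [h, zero_mul] at hN; exact zero_ne_one hN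
  obtain ⟨B, hBm⟩ : ∃ B : G3, (B : M3) = β • (1 : M3) :=
    ⟨Matrix.GeneralLinearGroup.mkOfDetNeZero (β • (1 : M3)) (by simp [hβ]), rfl⟩
  have hBx : ∀ x, (B : M3) *ᵥ x = β • x := fun x => by rw [hBm, smul_mulVec, one_mulVec]
  exact ⟨B, ⟨Subf.mem_subfieldSubgroup_of_image F₀ P hβ fun i => ⟨Pi.single i 1, hBx _⟩,
    mem_isoU.2 fun x y => by rw [hBx, hBx, D.hf.smul_left, herm_smul_right D.hf, ← mul_assoc, hN, one_mul],
    Units.ext (show (B : M3).det = 1 by rw [hBm, det_smul, det_one, mul_one, Fintype.card_fin, h3])⟩, hBx⟩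

theorem exists_par {β b s : F} (h3 : β ^ 3 = 1) (hN : β * σ β = 1) (hb : b ∈ F₀) (hb0 : b ≠ 0) (hs : s ∈ F₀) :
    ∃ g ∈ subfieldSubgroup F₀ P ⊓ (isoU f ⊓ specialLinear (Fin 3) F), Par f U V E g β b s := by
  obtain ⟨B, hB, hBx⟩ := D.exists_scalar h3 hN
  obtain ⟨t, ht, tU, tV, tE⟩ := D.exists_tor hb hb0
  obtain ⟨k, hk, kU, kV, kE⟩ := D.exists_heis hs
  refine ⟨B * t * k, Subgroup.mul_mem _ (Subgroup.mul_mem _ hB ht) hk, ?_, ?_, ?_⟩
  · rw [gl_mul_mulVec, gl_mul_mulVec, kU, tU, hBx, smul_smul]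
  · rw [gl_mul_mulVec, gl_mul_mulVec, kE, mulVec_sub, mulVec_smul, tE, tU, hBx]; module
  · rw [gl_mul_mulVec, gl_mul_mulVec, kV, mulVec_sub, mulVec_add, mulVec_smul, mulVec_smul, tV, tE, tU, hBx]
    match_scalars <;> field_simp

theorem par_eq {g h : G3} {β b s : F} (hg : Par f U V E g β b s) (hh : Par f U V E h β b s) : g = h :=
  D.ext (hg.1.trans hh.1.symm) (hg.2.2.trans hh.2.2.symm) (hg.2.1.trans hh.2.1.symm)

theorem par_unique {g : G3} {β b s β' b' s' : F} (hβ : β ≠ 0) (hb : b ≠ 0) (h : Par f U V E g β b s)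
    (h' : Par f U V E g β' b' s') : β = β' ∧ b = b' ∧ s = s' := by
  have e1 := h.1.symm.trans h'.1
  have e2 := h.2.1.symm.trans h'.2.1
  have e3 := D.eq_of_coords (a := -(β * b * (f E E * s))) (b := 0) (c := β) (a' := -(β' * b' * (f E E * s')))
    (b' := 0) (c' := β') (by linear_combination (norm := module) e2)
  obtain rfl := e3.2.2
  have e4 := smul_left_injective F D.U0 e1
  obtain rfl := mul_left_cancel₀ hβ e4
  exact ⟨rfl, rfl, mul_left_cancel₀ D.ee (mul_left_cancel₀ (mul_ne_zero hβ hb) (neg_inj.1 e3.1))⟩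

theorem par_stab {M : Subgroup G3} (hHM : subfieldSubgroup F₀ P ⊓ (isoU f ⊓ specialLinear (Fin 3) F) ≤ M)
    (hM : M ≤ isoU f ⊓ specialLinear (Fin 3) F) (hno : NoTv f M U) {g : G3} (hg : g ∈ M) {a : F}
    (hgU : (g : M3) *ᵥ U = a • U) :
    ∃ β b s : F, β ^ 3 = 1 ∧ β * σ β = 1 ∧ b ∈ F₀ ∧ b ≠ 0 ∧ s ∈ F₀ ∧ Par f U V E g β b s :=
  D.stab_point hHM hM hno hg hgU

/-- the order of a point stabiliser -/
theorem card_pointStab {M : Subgroup G3} (hHM : subfieldSubgroup F₀ P ⊓ (isoU f ⊓ specialLinear (Fin 3) F) ≤ M)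
    (hM : M ≤ isoU f ⊓ specialLinear (Fin 3) F) (hno : NoTv f M U) :
    Nat.card (pointStab M U) = Nat.card (Zt σ) * ((Nat.card F₀ - 1) * Nat.card F₀) := by
  classical
  have hex : ∀ p : Zt σ × F₀ˣ × F₀, ∃ g : pointStab M U,
      Par f U V E ((g : M) : G3) (p.1 : F) ((p.2.1 : F₀) : F) (p.2.2 : F) := fun p => by
    have hb : ((p.2.1 : F₀) : F) ≠ 0 := fun h => p.2.1.ne_zero (Subtype.ext h)
    have hβ : (p.1 : F) ≠ 0 := fun h => by have := p.1.2.2; rw [h, zero_mul] at this; exact zero_ne_one this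
    obtain ⟨g, hg, hp⟩ := D.exists_par p.1.2.1 p.1.2.2 (p.2.1 : F₀).2 hb p.2.2.2
    exact ⟨⟨⟨g, hHM hg⟩, _, mul_ne_zero hβ hb, hp.1⟩, hp⟩
  choose e he using hex
  have hinj : Function.Injective e := fun p p' h => by
    have hb : ((p.2.1 : F₀) : F) ≠ 0 := fun h => p.2.1.ne_zero (Subtype.ext h)
    have hβ : (p.1 : F) ≠ 0 := fun h => by have := p.1.2.2; rw [h, zero_mul] at this; exact zero_ne_one this
    obtain ⟨h1, h2, h3⟩ := D.par_unique hβ hb (he p) (h ▸ he p')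
    exact Prod.ext (Subtype.ext h1) (Prod.ext (Units.ext (Subtype.ext h2)) (Subtype.ext h3))
  have hsur : Function.Surjective e := fun g => by
    obtain ⟨a, -, ha⟩ := g.2
    obtain ⟨β, b, s, h3, hN, hb, hb0, hs, hp⟩ := D.par_stab hHM hM hno (g : M).2 ha
    refine ⟨(⟨β, h3, hN⟩, Units.mk0 ⟨b, hb⟩ (fun h => hb0 (congrArg Subtype.val h)), ⟨s, hs⟩), ?_⟩
    exact Subtype.ext (Subtype.ext (D.par_eq (he _) hp))
  rw [← Nat.card_eq_of_bijective e ⟨hinj, hsur⟩, Nat.card_prod, Nat.card_prod, Nat.card_units]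

/-- an isotropic vector over `U` or with unit coefficient at `V` -/
theorem iso_cases {w : V3} (hw : w ≠ 0) (hww : f w w = 0) :
    (∃ a : F, a ≠ 0 ∧ w = a • U) ∨
      ∃ y l s : F, y ≠ 0 ∧ w = y • (l • U + (1 : F) • V + s • E) ∧ l + σ l + f E E * (s * σ s) = 0 := by
  obtain ⟨a, b, c, rfl⟩ : ∃ a b c : F, w = a • U + b • V + c • E := ⟨_, _, _, D.coords w⟩
  rw [D.form_eq] at hww
  by_cases hb : b = 0
  · subst hb
    rw [map_zero, mul_zero, zero_mul, zero_add, zero_add, mul_eq_zero, mul_eq_zero] at hww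
    have hc : c = 0 := by
      rcases hww.resolve_left D.ee with h | h
      · exact h
      · simpa using h
    subst hc
    exact Or.inl ⟨a, fun h => hw (by rw [h]; simp), by simp⟩
  · refine Or.inr ⟨b, a / b, c / b, hb, by rw [smul_add, smul_add, smul_smul, smul_smul, smul_smul, mul_div_cancel₀ _ hb,
      mul_div_cancel₀ _ hb, mul_one], ?_⟩
    have : σ b ≠ 0 := by simpa using hb
    rw [map_div₀, map_div₀]
    field_simp
    linear_combination hww

/-- the stabiliser of an irrational isotropic line in the point stabiliser -/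
theorem par_fix {g : G3} {β b s : F} (hβ : β ≠ 0) (hb : b ∈ F₀) (hb0 : b ≠ 0) (hs : s ∈ F₀)
    (hp : Par f U V E g β b s) {l e : F} (hirr : ¬ (l ∈ F₀ ∧ e ∈ F₀))
    (hiso : l + σ l + f E E * (e * σ e) = 0) {t : F}
    (hg : (g : M3) *ᵥ (l • U + (1 : F) • V + e • E) = t • (l • U + (1 : F) • V + e • E)) :
    (b = 1 ∧ s = 0) ∨ (b = -1 ∧ e ∈ F₀ ∧ s = -(2 * e)) := by
  rw [mulVec_add, mulVec_add, mulVec_smul, mulVec_smul, mulVec_smul, hp.1, hp.2.1, hp.2.2] at hg
  obtain ⟨h1, h2, h3⟩ := D.eq_of_coords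
    (a := l * (β * b) - β * b * (f E E * s * s / 2) - e * (β * b * (f E E * s)))
    (b := β / b) (c := β * s + e * β) (a' := t * l) (b' := t) (c' := t * e)
    (by linear_combination (norm := module) hg)
  subst h2
  have h2' := D.str.two
  have hes : (s + e) * b = e := by field_simp at h3; linear_combination h3
  have hl : l * (b * b) - (b * b) * (f E E * s * s / 2) - e * ((b * b) * (f E E * s)) = l := by
    field_simp at h1 ⊢; linear_combination h1
  by_cases hb1 : b = 1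
  · left
    refine ⟨hb1, ?_⟩
    rw [hb1, mul_one] at hes
    linear_combination hes
  right
  have h1b : 1 - b ≠ 0 := sub_ne_zero.2 (Ne.symm hb1)
  have he : e ∈ F₀ := by
    rw [show e = s * b / (1 - b) by rw [eq_div_iff h1b]; linear_combination -hes]
    exact F₀.div_mem (F₀.mul_mem hs hb) (F₀.sub_mem F₀.one_mem hb)
  by_cases hbm : b = -1
  · exact ⟨hbm, he, by rw [hbm] at hes; linear_combination -hes⟩
  exfalso
  refine hirr ⟨?_, he⟩
  have hbb : b * b - 1 ≠ 0 := by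
    intro h
    rcases mul_eq_zero.1 (show (b - 1) * (b + 1) = 0 by linear_combination h) with h' | h'
    · exact hb1 (sub_eq_zero.1 h')
    · exact hbm (eq_neg_of_add_eq_zero_left h')
  rw [show l = ((b * b) * (f E E * s * s / 2) + e * ((b * b) * (f E E * s))) / (b * b - 1) by
    rw [eq_div_iff hbb]; linear_combination hl]
  have hn := D.n_mem
  exact F₀.div_mem (F₀.add_mem (F₀.mul_mem (F₀.mul_mem hb hb) (F₀.div_mem (F₀.mul_mem (F₀.mul_mem hn hs) hs)
    (ofNat_mem F₀ 2))) (F₀.mul_mem he (F₀.mul_mem (F₀.mul_mem hb hb) (F₀.mul_mem hn hs))))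
    (F₀.sub_mem (F₀.mul_mem hb hb) F₀.one_mem)

/-- the second element fixing an isotropic line with rational `E`-coordinate -/
theorem par_neg_fix {g : G3} {β l e : F} (he : e ∈ F₀)
    (hp : Par f U V E g β (-1) (-(2 * e))) :
    (g : M3) *ᵥ (l • U + (1 : F) • V + e • E) = (-β) • (l • U + (1 : F) • V + e • E) := by
  have h2' := D.str.two
  rw [mulVec_add, mulVec_add, mulVec_smul, mulVec_smul, mulVec_smul, hp.1, hp.2.1, hp.2.2]
  match_scalars <;> field_simp <;> ring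

end O3

end CfsgLib.Perm.Trans.UnitThree.OSub
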