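import Cfsg.Agent.Lib.Perm.Trans.UnitThree.OrthCount
import Cfsg.Agent.Lib.Perm.Dickson.Finite
import Cfsg.Agent.Lib.Perm.Dickson.SubfieldMax

/-!
# Orthogonal structures on three-dimensional unitary spaces: the plane group of a transitive overgroup
-/

set_option autoImplicit false
set_option linter.all false

namespace CfsgLib.Perm.Trans.UnitThree.OSub

open scoped Matrix
open Matrix Cfsg.Geo CfsgLib.Perm.Asch CfsgLib.Perm.Trans CfsgLib.Perm.Trans.Unit CfsgLib.Perm.Trans.UnitThree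
open CfsgLib.Perm.Trans.Subf (em em_add em_neg em_sub em_smul em_zero em_injective em_ne_zero exists_coords)
open CfsgLib.Perm.Dickson (G2 P2 Kc iF mapG mapP ip fp di mk_smul mk_eq_fp mk_eq_ip fp_inj ip_ne_fp fp_ne_ip
  point_cases di_fp di_ip mapG_di mapP_ip mapP_fp map_smul_pt mem_pairSet mem_pairFix FType)

attribute [local instance] CfsgLib.Perm.Trans.Unit.subfieldFintype

variable {F : Type*} [Field F] [Fintype F]

local notation "M3" => Matrix (Fin 3) (Fin 3) F
local notation "G3" => GL (Fin 3) F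
local notation "V3" => Fin 3 → F

variable {σ : F ≃+* F} {f : (Fin 3 → F) → (Fin 3 → F) → F} {F₀ : Subfield F} {P : GL (Fin 3) F} {θ : F}
variable {U V E : Fin 3 → F}
variable {M : Subgroup (GL (Fin 3) F)}

omit [Fintype F] in
/-- the fixed points of a dilation -/
theorem di_fixed {K : Type*} [Field K] {u : Kˣ} (hu : u ≠ 1) {x : P2 K} (h : di u • x = x) : x = ip ∨ x = fp 0 := by
  rcases point_cases x with rfl | ⟨z, rfl⟩
  · exact Or.inl rfl
  · right
    rw [di_fp] at h
    have h1 : ((u : K) - 1) * z = 0 := by linear_combination fp_inj h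
    rcases mul_eq_zero.1 h1 with h2 | h2
    · exact absurd (Units.ext (sub_eq_zero.1 h2)) hu
    · rw [h2]

/-- the elements fixing the line of `E` -/
def lineE (M : Subgroup (GL (Fin 3) F)) (E : Fin 3 → F) : Subgroup (GL (Fin 3) F) := (pointStab M E).map M.subtype

theorem mem_lineE {g : G3} : g ∈ lineE M E ↔ g ∈ M ∧ ∃ a : F, a ≠ 0 ∧ (g : M3) *ᵥ E = a • E := by
  constructor
  · rintro ⟨x, hx, rfl⟩
    exact ⟨x.2, hx⟩
  · rintro ⟨hg, h⟩
    exact ⟨⟨g, hg⟩, h, rfl⟩

/-- transitivity on isotropic points -/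
def IsTrans (f : (Fin 3 → F) → (Fin 3 → F) → F) (M : Subgroup (GL (Fin 3) F)) (U : Fin 3 → F) : Prop :=
  ∀ w : Fin 3 → F, w ≠ 0 → f w w = 0 → ∃ g ∈ M, ∃ a : F, a ≠ 0 ∧ (g : Matrix (Fin 3) (Fin 3) F) *ᵥ U = a • w

namespace O3

variable (D : O3 σ f F₀ P θ U V E)
include D

/-- elements of the line stabiliser preserve the plane -/
theorem plane_apply (hM : M ≤ isoU f ⊓ specialLinear (Fin 3) F) {g : G3} (hg : g ∈ lineE M E) :
    (g : M3) *ᵥ U = f ((g : M3) *ᵥ U) V • U + f ((g : M3) *ᵥ U) U • V ∧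
    (g : M3) *ᵥ V = f ((g : M3) *ᵥ V) V • U + f ((g : M3) *ᵥ V) U • V := by
  obtain ⟨hgM, a, ha, hgE⟩ := mem_lineE.1 hg
  have h : ∀ x, f x E = 0 → f ((g : M3) *ᵥ x) E = 0 := fun x hx => by
    have h1 := mem_isoU.1 (hM hgM).1 x E
    rw [hgE, herm_smul_right D.hf, hx, mul_eq_zero] at h1
    exact h1.resolve_left (by simpa using ha)
  refine ⟨?_, ?_⟩
  · conv_lhs => rw [D.coords ((g : M3) *ᵥ U), h U D.ue]
    simp
  · conv_lhs => rw [D.coords ((g : M3) *ᵥ V), h V D.ve]
    simp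

/-- the matrix on the plane -/
def mat2 (f : (Fin 3 → F) → (Fin 3 → F) → F) (U V : Fin 3 → F) (g : GL (Fin 3) F) : Matrix (Fin 2) (Fin 2) F :=
  !![f ((g : Matrix (Fin 3) (Fin 3) F) *ᵥ U) V, f ((g : Matrix (Fin 3) (Fin 3) F) *ᵥ V) V;
     f ((g : Matrix (Fin 3) (Fin 3) F) *ᵥ U) U, f ((g : Matrix (Fin 3) (Fin 3) F) *ᵥ V) U]

theorem mat2_mul (hM : M ≤ isoU f ⊓ specialLinear (Fin 3) F) {g h : G3} (hg : g ∈ lineE M E) (hh : h ∈ lineE M E) :
    mat2 f U V (g * h) = mat2 f U V g * mat2 f U V h := by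
  obtain ⟨g1, g2⟩ := D.plane_apply hM hg
  obtain ⟨h1, h2⟩ := D.plane_apply hM hh
  obtain ⟨a, ha⟩ : ∃ a, a = mat2 f U V h := ⟨_, rfl⟩
  ext i j
  simp only [mat2, Matrix.mul_apply, Fin.sum_univ_two]
  fin_cases i <;> fin_cases j <;>
    · simp only [Fin.zero_eta, Fin.mk_one, Matrix.of_apply, Matrix.cons_val', Matrix.cons_val_zero, Matrix.cons_val_one,
        Matrix.cons_val_fin_one, gl_mul_mulVec]
      first
        | conv_lhs => rw [h1, mulVec_add, mulVec_smul, mulVec_smul, D.hf.add_left, D.hf.smul_left, D.hf.smul_left]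
        | conv_lhs => rw [h2, mulVec_add, mulVec_smul, mulVec_smul, D.hf.add_left, D.hf.smul_left, D.hf.smul_left]
      ring

theorem mat2_one : mat2 f U V (1 : G3) = 1 := by
  ext i j
  fin_cases i <;> fin_cases j <;> simp [mat2, Units.val_one, one_mulVec, D.uu, D.vv, D.uv, D.vu]

theorem exists_hom (hM : M ≤ isoU f ⊓ specialLinear (Fin 3) F) :
    ∃ φ : lineE M E →* G2 F, ∀ g : lineE M E, ∃ A : GL (Fin 2) F,
      (A : Matrix (Fin 2) (Fin 2) F) = mat2 f U V (g : G3) ∧ φ g = ProjGenLinGroup.mk A := by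
  let ψ : lineE M E →* GL (Fin 2) F := MonoidHom.toHomUnits
    { toFun := fun g : lineE M E => mat2 f U V (g : G3)
      map_one' := D.mat2_one
      map_mul' := fun g h => by rw [Subgroup.coe_mul, D.mat2_mul hM g.2 h.2] }
  exact ⟨ProjGenLinGroup.mk.comp ψ, fun g => ⟨ψ g, rfl, rfl⟩⟩

variable (hHM : subfieldSubgroup F₀ P ⊓ (isoU f ⊓ specialLinear (Fin 3) F) ≤ M)
  (hM : M ≤ isoU f ⊓ specialLinear (Fin 3) F) (hno : NoTv f M U)
  (htr : IsTrans f M U)
include hHM hM hno htr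

/-- the line stabiliser is transitive on the isotropic points of the plane -/
theorem lineE_transitive {l : F} (hl : σ l = -l) :
    ∃ g ∈ lineE M E, ∃ a : F, a ≠ 0 ∧ (g : M3) *ᵥ U = a • (l • U + V) := by
  obtain ⟨t, ht, tU, tV, tE⟩ := D.exists_tor (F₀.neg_mem F₀.one_mem) (neg_ne_zero.2 one_ne_zero)
  rw [inv_neg, inv_one] at tV
  have hww : f (l • U + V) (l • U + V) = 0 := by
    rw [show l • U + V = l • U + (1 : F) • V + (0 : F) • E by module, D.form_eq, map_one, map_zero, hl]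
    ring
  have hw0 : l • U + V ≠ 0 := fun h => by
    obtain ⟨-, h1, -⟩ := D.zero_of_coords (a := l) (b := 1) (c := 0)
      (by linear_combination (norm := module) h)
    exact one_ne_zero h1
  obtain ⟨k, hk, a, ha, hkU⟩ := htr _ hw0 hww
  obtain ⟨u, hu⟩ : ∃ u, u = k⁻¹ * t * k := ⟨_, rfl⟩
  have huM : u ∈ M := hu ▸ M.mul_mem (M.mul_mem (M.inv_mem hk) (hHM ht)) hk
  have huU : (u : M3) *ᵥ U = (-1 : F) • U := by
    rw [hu, gl_mul_mulVec, gl_mul_mulVec, hkU]
    conv_lhs => arg 2; rw [mulVec_smul, mulVec_add, mulVec_smul, tU, tV]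
    rw [show a • (l • ((-1 : F) • U) + (-1 : F) • V) = (-1 : F) • (a • (l • U + V)) by module, mulVec_smul, ← hkU,
      ← gl_mul_mulVec, inv_mul_cancel, Units.val_one, one_mulVec]
  obtain ⟨β, b, s, h3, hN, hb, hb0, hs, hp⟩ := D.par_stab hHM hM hno huM huU
  have htt : t * t = 1 := D.ext
    (by rw [gl_mul_mulVec, tU, mulVec_smul, tU, Units.val_one, one_mulVec]; module)
    (by rw [gl_mul_mulVec, tV, mulVec_smul, tV, Units.val_one, one_mulVec]; module)
    (by rw [gl_mul_mulVec, tE, tE, Units.val_one, one_mulVec])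
  have huu : u * u = 1 := by
    rw [hu, show k⁻¹ * t * k * (k⁻¹ * t * k) = k⁻¹ * (t * t) * k by group, htt, mul_one, inv_mul_cancel]
  have hβb : β * b = -1 := smul_left_injective F D.U0 (hp.1.symm.trans huU)
  have hβ : β = 1 := by
    have h4 : (u : M3) *ᵥ ((u : M3) *ᵥ E) = E := by rw [← gl_mul_mulVec, huu, Units.val_one, one_mulVec]
    rw [hp.2.1, mulVec_sub, mulVec_smul, mulVec_smul, hp.2.1, hp.1] at h4
    obtain ⟨-, -, h5⟩ := D.eq_of_coords
      (a := -(β * (β * b * (f E E * s))) - β * b * (f E E * s) * (β * b)) (b := 0) (c := β * β) (a' := 0) (b' := 0)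
      (c' := 1) (by linear_combination (norm := module) h4)
    have h6 : β ^ 3 = β * (β * β) := by ring
    rw [h5, mul_one, h3] at h6
    exact h6.symm
  subst hβ
  rw [one_mul] at hβb
  subst hβb
  have hr : -(s / 2) ∈ F₀ := F₀.neg_mem (F₀.div_mem hs (ofNat_mem F₀ 2))
  obtain ⟨r, hr', rU, rV, rE⟩ := D.exists_heis hr
  refine ⟨k * r, mem_lineE.2 ⟨M.mul_mem hk (hHM hr'), ?_⟩, a, ha, by rw [gl_mul_mulVec, rU, hkU]⟩
  have h2 := D.str.two
  have h7 : (u : M3) *ᵥ ((r : M3) *ᵥ E) = (r : M3) *ᵥ E := by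
    rw [rE, mulVec_sub, mulVec_smul, huU, hp.2.1]
    match_scalars <;> field_simp <;> ring
  obtain ⟨x, hx⟩ : ∃ x, x = ((k * r : G3) : M3) *ᵥ E := ⟨_, rfl⟩
  have hfix : (t : M3) *ᵥ x = x := by
    rw [hx, ← gl_mul_mulVec, show t * (k * r) = k * (u * r) by rw [hu]; group, gl_mul_mulVec, gl_mul_mulVec, h7,
      ← gl_mul_mulVec]
  obtain ⟨a', b', c', hxc⟩ : ∃ a' b' c' : F, x = a' • U + b' • V + c' • E := ⟨_, _, _, D.coords x⟩
  rw [hxc, mulVec_add, mulVec_add, mulVec_smul, mulVec_smul, mulVec_smul, tU, tV, tE] at hfix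
  obtain ⟨h8, h9, -⟩ := D.eq_of_coords (a := -a') (b := -b') (c := c') (a' := a') (b' := b') (c' := c')
    (by linear_combination (norm := module) hfix)
  have ha' : a' = 0 := by
    have : (2 : F) * a' = 0 := by linear_combination -h8
    exact (mul_eq_zero.1 this).resolve_left h2
  have hb' : b' = 0 := by
    have : (2 : F) * b' = 0 := by linear_combination -h9
    exact (mul_eq_zero.1 this).resolve_left h2
  rw [ha', hb', zero_smul, zero_smul, zero_add, zero_add] at hxc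
  refine ⟨c', fun h => ?_, hx ▸ hxc⟩
  rw [h, zero_smul, hx, gl_mulVec_eq_zero] at hxc
  exact D.ee (by rw [hxc, herm_zero_left D.hf])

omit htr in
/-- the point stabiliser in the line stabiliser -/
theorem card_pointStab_lineE :
    Nat.card (pointStab (lineE M E) U) = Nat.card (Zt σ) * (Nat.card F₀ - 1) := by
  classical
  have hex : ∀ p : Zt σ × F₀ˣ, ∃ g : pointStab (lineE M E) U,
      Par f U V E ((g : lineE M E) : G3) (p.1 : F) ((p.2 : F₀) : F) 0 := fun p => by
    have hb : ((p.2 : F₀) : F) ≠ 0 := fun h => p.2.ne_zero (Subtype.ext h)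
    have hβ : (p.1 : F) ≠ 0 := fun h => by have := p.1.2.2; rw [h, zero_mul] at this; exact zero_ne_one this
    obtain ⟨g, hg, hp⟩ := D.exists_par p.1.2.1 p.1.2.2 (p.2 : F₀).2 hb F₀.zero_mem
    exact ⟨⟨⟨g, mem_lineE.2 ⟨hHM hg, p.1, hβ, by rw [hp.2.1]; simp⟩⟩, _, mul_ne_zero hβ hb, hp.1⟩, hp⟩
  choose e he using hex
  have hinj : Function.Injective e := fun p p' h => by
    have hb : ((p.2 : F₀) : F) ≠ 0 := fun h => p.2.ne_zero (Subtype.ext h)
    have hβ : (p.1 : F) ≠ 0 := fun h => by have := p.1.2.2; rw [h, zero_mul] at this; exact zero_ne_one this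
    obtain ⟨h1, h2, -⟩ := D.par_unique hβ hb (he p) (h ▸ he p')
    exact Prod.ext (Subtype.ext h1) (Units.ext (Subtype.ext h2))
  have hsur : Function.Surjective e := fun g => by
    obtain ⟨a, -, ha⟩ := g.2
    obtain ⟨hgM, c, -, hgE⟩ := mem_lineE.1 (g : lineE M E).2
    obtain ⟨β, b, s, h3, hN, hb, hb0, hs, hp⟩ := D.par_stab hHM hM hno hgM ha
    have hs0 : s = 0 := by
      obtain ⟨h1, -, -⟩ := D.eq_of_coords (a := -(β * b * (f E E * s))) (b := 0) (c := β) (a' := 0) (b' := 0)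
        (c' := c) (by linear_combination (norm := module) hp.2.1.symm.trans hgE)
      have hβ : β ≠ 0 := fun h => by rw [h, zero_mul] at hN; exact zero_ne_one hN
      simpa [hβ, hb0, D.ee] using h1
    subst hs0
    exact ⟨(⟨β, h3, hN⟩, Units.mk0 ⟨b, hb⟩ (fun h => hb0 (congrArg Subtype.val h))),
      Subtype.ext (Subtype.ext (D.par_eq (he _) hp))⟩
  rw [← Nat.card_eq_of_bijective e ⟨hinj, hsur⟩, Nat.card_prod, Nat.card_units]

/-- the order of the line stabiliser -/
theorem card_lineE : Nat.card (lineE M E) = (Nat.card F₀ + 1) * (Nat.card (Zt σ) * (Nat.card F₀ - 1)) := by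
  classical
  rw [Subgroup.card_eq_card_quotient_mul_card_subgroup (pointStab (lineE M E) U), D.card_pointStab_lineE hHM hM hno]
  congr 1
  have hθl : ∀ c : F₀, σ (θ * c) = -(θ * c) := fun c => by rw [map_mul, D.str.θσ, D.sfix c.2, neg_mul]
  have hex : ∀ c : F₀, ∃ g : lineE M E, ∃ a : F, a ≠ 0 ∧ ((g : G3) : M3) *ᵥ U = a • ((θ * c) • U + V) := fun c => by
    obtain ⟨g, hg, a, ha, h⟩ := D.lineE_transitive hHM hM hno htr (hθl c)
    exact ⟨⟨g, hg⟩, a, ha, h⟩
  choose e a ha he using hex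
  let φ : Option F₀ → (lineE M E ⧸ pointStab (lineE M E) U) :=
    fun o => o.elim ((1 : lineE M E) : lineE M E ⧸ pointStab (lineE M E) U) fun c => (e c : _ ⧸ _)
  have hone : (((1 : lineE M E) : G3) : M3) *ᵥ U = U := by rw [Subgroup.coe_one, Units.val_one, one_mulVec]
  have hb : Function.Bijective φ := by
    constructor
    · have hnone : ∀ c : F₀, φ none ≠ φ (some c) := fun c h => by
        obtain ⟨b, hb, h1⟩ := mk_eq_iff.1 (show ((1 : lineE M E) : lineE M E ⧸ pointStab (lineE M E) U) = (e c : _ ⧸ _) from h)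
        rw [he, hone] at h1
        exact ha c (D.eq_of_coords (a := a c * (θ * c)) (b := a c) (c := 0) (a' := b) (b' := 0) (c' := 0)
          (by linear_combination (norm := module) h1)).2.1
      rintro (_ | c) (_ | c') h
      · rfl
      · exact absurd h (hnone c')
      · exact absurd h.symm (hnone c)
      · obtain ⟨b, hb, h1⟩ := mk_eq_iff.1
          (show (e c : lineE M E ⧸ pointStab (lineE M E) U) = (e c' : _ ⧸ _) from h)
        rw [he, he] at h1
        obtain ⟨h2, h3, -⟩ := D.eq_of_coords (a := a c' * (θ * c')) (b := a c') (c := 0) (a' := b * a c * (θ * c))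
          (b' := b * a c) (c' := 0) (by linear_combination (norm := module) h1)
        rw [← h3] at h2
        exact congrArg some (Subtype.ext (mul_left_cancel₀ D.str.θ0 (mul_left_cancel₀ (ha c') h2))).symm
    · intro ω
      induction ω using QuotientGroup.induction_on with
      | _ g =>
      obtain ⟨hgM, -⟩ := mem_lineE.1 g.2
      obtain ⟨hgU, -⟩ := D.plane_apply hM g.2
      obtain ⟨x, hx⟩ : ∃ x, x = f (((g : G3) : M3) *ᵥ U) V := ⟨_, rfl⟩
      obtain ⟨y, hy⟩ : ∃ y, y = f (((g : G3) : M3) *ᵥ U) U := ⟨_, rfl⟩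
      rw [← hx, ← hy] at hgU
      by_cases hy0 : y = 0
      · rw [hy0, zero_smul, add_zero] at hgU
        refine ⟨none, (mk_eq_iff.2 ⟨x, fun h => D.U0 ?_, by rw [hgU, hone]⟩)⟩
        rw [h, zero_smul] at hgU
        exact gl_mulVec_eq_zero.1 hgU
      · have hiso := mem_isoU.1 (hM hgM).1 U U
        rw [hgU, D.uu, show x • U + y • V = x • U + y • V + (0 : F) • E by module, D.form_eq, map_zero, mul_zero,
          mul_zero, add_zero] at hiso
        have hcF : x / y / θ ∈ F₀ := D.mem_of_fix (by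
          have hσy : σ y ≠ 0 := by simpa using hy0
          have hθ := D.str.θ0
          rw [map_div₀, map_div₀, D.str.θσ]
          field_simp
          linear_combination -hiso)
        refine ⟨some ⟨x / y / θ, hcF⟩, mk_eq_iff.2 ⟨y / a ⟨_, hcF⟩, div_ne_zero hy0 (ha _), ?_⟩⟩
        have hθ := D.str.θ0
        rw [he, hgU, smul_smul, div_mul_cancel₀ _ (ha _)]
        match_scalars <;> field_simp
  rw [← Nat.card_eq_of_bijective φ hb, Finite.card_option]

/-- the plane group is exceptional -/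
theorem plane_cases {q : ℕ} (hq : Odd q) (hq7 : 7 ≤ q) (hcard : Nat.card F₀ = q) :
    q = 7 ∨ (q = 11 ∧ ∃ φ : lineE M E →* G2 F, Nonempty (φ.range ≃* alternatingGroup (Fin 5)) ∧
      (∀ g, φ g = 1 → ∃ β b : F, β ^ 3 = 1 ∧ (b = 1 ∨ b = -1) ∧ Par f U V E (g : G3) β b 0) ∧
      ∀ g : lineE M E, ∀ a : F, ((g : G3) : M3) *ᵥ U = a • U → ((g : G3) : M3) *ᵥ V = a • V → φ g = 1) := by
  classical
  obtain ⟨φ, hφ⟩ := D.exists_hom hM
  haveI := Dickson.finite_G2 (F := F)
  obtain ⟨p, hpc⟩ := CharP.exists F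
  haveI := hpc
  haveI : Fact p.Prime := ⟨(CharP.char_is_prime_or_zero F p).resolve_right (CharP.char_ne_zero_of_finite F p)⟩
  have h2 := D.str.two
  have hpt : ∀ g : lineE M E,
      (f (((g : G3) : M3) *ᵥ U) U = 0 → φ g • (ip : P2 F) = ip) ∧
      (f (((g : G3) : M3) *ᵥ U) U ≠ 0 →
        φ g • (ip : P2 F) = fp (f (((g : G3) : M3) *ᵥ U) V / f (((g : G3) : M3) *ᵥ U) U)) ∧
      (∀ z : F, z * f (((g : G3) : M3) *ᵥ U) U + f (((g : G3) : M3) *ᵥ V) U ≠ 0 → φ g • fp z =
        fp ((z * f (((g : G3) : M3) *ᵥ U) V + f (((g : G3) : M3) *ᵥ V) V) /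
          (z * f (((g : G3) : M3) *ᵥ U) U + f (((g : G3) : M3) *ᵥ V) U))) := by
    intro g
    obtain ⟨A, hA, hAφ⟩ := hφ g
    refine ⟨fun h => ?_, fun h => ?_, fun z h => ?_⟩
    · rw [hAφ, ip, mk_smul, mk_eq_ip]
      · rfl
      · simp [hA, mat2, Matrix.mulVec, dotProduct, Fin.sum_univ_two, h]
    · rw [hAφ, ip, mk_smul, mk_eq_fp]
      · congr 1
        simp [hA, mat2, Matrix.mulVec, dotProduct, Fin.sum_univ_two]
      · simp [hA, mat2, Matrix.mulVec, dotProduct, Fin.sum_univ_two, h]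
    · rw [hAφ, fp, mk_smul, mk_eq_fp]
      · congr 1
        simp [hA, mat2, Matrix.mulVec, dotProduct, Fin.sum_univ_two, mul_comm]
      · simpa [hA, mat2, Matrix.mulVec, dotProduct, Fin.sum_univ_two, mul_comm] using h
  -- the kernel
  have hker : ∀ g, φ g = 1 → ∃ β b : F, β ^ 3 = 1 ∧ (b = 1 ∨ b = -1) ∧ Par f U V E (g : G3) β b 0 := by
    intro g hg
    obtain ⟨hgM, c, -, hgE⟩ := mem_lineE.1 g.2
    obtain ⟨A, hA, hAφ⟩ := hφ g
    obtain ⟨hgU, -⟩ := D.plane_apply hM g.2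
    have hU0 : f (((g : G3) : M3) *ᵥ U) U = 0 := by
      by_contra h
      have := (hpt g).2.1 h
      rw [hg, one_smul] at this
      exact ip_ne_fp _ this
    rw [hU0, zero_smul, add_zero] at hgU
    obtain ⟨β, b, s, h3, hN, hb, hb0, hs, hp⟩ := D.par_stab hHM hM hno hgM hgU
    have hβ : β ≠ 0 := fun h => by rw [h, zero_mul] at hN; exact zero_ne_one hN
    have hs0 : s = 0 := by
      obtain ⟨h1, -, -⟩ := D.eq_of_coords (a := -(β * b * (f E E * s))) (b := 0) (c := β) (a' := 0) (b' := 0)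
        (c' := c) (by linear_combination (norm := module) hp.2.1.symm.trans hgE)
      simpa [hβ, hb0, D.ee] using h1
    subst hs0
    refine ⟨β, b, h3, ?_, hp⟩
    have e1 : f (((g : G3) : M3) *ᵥ V) V = 0 := by
      rw [hp.2.2]; simp [D.hf.add_left, D.hf.smul_left, D.vv]
    have e2 : f (((g : G3) : M3) *ᵥ V) U = β / b := by
      rw [hp.2.2]; simp [D.hf.add_left, D.hf.smul_left, D.vu]
    have e3 : f (((g : G3) : M3) *ᵥ U) V = β * b := by rw [hp.1, D.hf.smul_left, D.uv, mul_one]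
    have h1 := (hpt g).2.2 1 (by rw [hU0, e2, mul_zero, zero_add]; exact div_ne_zero hβ hb0)
    rw [hg, one_smul, hU0, e1, e2, e3, one_mul, mul_zero, zero_add, add_zero] at h1
    have h4 := fp_inj h1
    field_simp at h4
    exact mul_self_eq_one_iff.1 (by linear_combination -h4)
  obtain ⟨X, hX⟩ : ∃ X, X = φ.range := ⟨_, rfl⟩
  -- the order
  have hcardX : 2 * Nat.card X = (q + 1) * (q - 1) := by
    have hk2 : Nat.card φ.ker = 2 * Nat.card (Zt σ) := by
      have hex : ∀ x : Zt σ × Bool, ∃ g : φ.ker,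
          Par f U V E ((g : lineE M E) : G3) (x.1 : F) (if x.2 then -1 else 1) 0 := by
        intro x
        have hβ : (x.1 : F) ≠ 0 := fun h => by have := x.1.2.2; rw [h, zero_mul] at this; exact zero_ne_one this
        have hb : (if x.2 then -1 else (1 : F)) ∈ F₀ := by split_ifs <;> [exact F₀.neg_mem F₀.one_mem; exact F₀.one_mem]
        have hb0 : (if x.2 then -1 else (1 : F)) ≠ 0 := by split_ifs <;> simp
        obtain ⟨g, hg, hp⟩ := D.exists_par x.1.2.1 x.1.2.2 hb hb0 F₀.zero_mem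
        obtain ⟨A, hA, hAφ⟩ := hφ ⟨g, mem_lineE.2 ⟨hHM hg, x.1, hβ, by rw [hp.2.1]; simp⟩⟩
        refine ⟨⟨_, show φ ⟨g, mem_lineE.2 ⟨hHM hg, x.1, hβ, by rw [hp.2.1]; simp⟩⟩ = 1 from ?_⟩, hp⟩
        rw [hAφ]
        refine Dickson.mk_eq_one_of_scalar A ((x.1 : F) * (if x.2 then -1 else 1)) ?_
        rw [hA]
        ext i j
        fin_cases i <;> fin_cases j <;>
          simp [mat2, hp.1, hp.2.2, D.hf.add_left, D.hf.smul_left, D.uu, D.vv, D.uv, D.vu, D.eu, D.ev] <;>
          rcases x.2 <;> simp [D.hf.smul_left, herm_neg_left D.hf, D.uu, D.vv, D.uv, D.vu, div_neg]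
      choose e he using hex
      have hinj : Function.Injective e := fun x x' h => by
        have hβ : (x.1 : F) ≠ 0 := fun h => by have := x.1.2.2; rw [h, zero_mul] at this; exact zero_ne_one this
        obtain ⟨h1, h4, -⟩ := D.par_unique hβ (by split_ifs <;> simp) (he x) (h ▸ he x')
        refine Prod.ext (Subtype.ext h1) ?_
        rcases hx : x.2 <;> rcases hx' : x'.2 <;> rw [hx, hx'] at h4 <;> first
          | rfl
          | (exfalso; simp at h4; exact h2 (by linear_combination h4))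
          | (exfalso; simp at h4; exact h2 (by linear_combination -h4))
      have hsur : Function.Surjective e := fun g => by
        obtain ⟨β, b, h3, hb, hp⟩ := hker g g.2
        obtain ⟨hgM, -⟩ := mem_lineE.1 (g : lineE M E).2
        have hN : β * σ β = 1 := by
          have h1 := mem_isoU.1 (hM hgM).1 E E
          rw [hp.2.1, mul_zero, mul_zero, zero_smul, sub_zero, D.hf.smul_left, herm_smul_right D.hf, ← mul_assoc] at h1
          exact (mul_eq_right₀ D.ee).1 h1
        rcases hb with rfl | rfl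
        · exact ⟨(⟨β, h3, hN⟩, false), Subtype.ext (Subtype.ext (D.par_eq (he _) hp))⟩
        · exact ⟨(⟨β, h3, hN⟩, true), Subtype.ext (Subtype.ext (D.par_eq (he _) hp))⟩
      rw [← Nat.card_eq_of_bijective e ⟨hinj, hsur⟩, Nat.card_prod]
      simp [mul_comm]
    have hz : 0 < Nat.card (Zt σ) := Nat.card_pos_iff.2 ⟨⟨⟨1, by simp⟩⟩, inferInstance⟩
    have h1 := Subgroup.card_eq_card_quotient_mul_card_subgroup φ.ker
    rw [Nat.card_congr (QuotientGroup.quotientKerEquivRange φ).toEquiv, ← hX, hk2, D.card_lineE hHM hM hno htr,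
      hcard] at h1
    refine Nat.eq_of_mul_eq_mul_right hz ?_
    rw [mul_assoc (q + 1), mul_comm (q - 1), h1]
    ring
  -- geometric elements
  obtain ⟨r, hr, rU, rV, rE⟩ := D.exists_swap
  obtain ⟨R, hR, hRip⟩ : ∃ R ∈ X, R • (ip : P2 F) = fp 0 := by
    refine ⟨φ ⟨r, mem_lineE.2 ⟨hHM hr, -1, neg_ne_zero.2 one_ne_zero, by rw [rE, neg_one_smul]⟩⟩, (by rw [hX]; exact ⟨_, rfl⟩), ?_⟩
    rw [(hpt _).2.1 (by rw [rU, D.vu]; exact one_ne_zero)]
    rw [rU, D.vv, zero_div]
  obtain ⟨G, hG, hGip⟩ : ∃ G ∈ X, ∃ z : F, z ≠ 0 ∧ G • (ip : P2 F) = fp z := by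
    obtain ⟨g, hg, a, ha, hgU⟩ := D.lineE_transitive hHM hM hno htr D.str.θσ
    refine ⟨φ ⟨g, hg⟩, (by rw [hX]; exact ⟨_, rfl⟩), θ, D.str.θ0, ?_⟩
    rw [(hpt _).2.1 (by rw [hgU, D.hf.smul_left, D.hf.add_left, D.hf.smul_left, D.uu, D.vu]; simpa using ha)]
    rw [hgU]
    simp [D.hf.add_left, D.hf.smul_left, D.uu, D.vu, D.uv, D.vv, ha]
  obtain ⟨b, hb4⟩ : ∃ b : F₀ˣ, b ^ 4 ≠ 1 := by
    obtain ⟨g, hg⟩ := IsCyclic.exists_generator (α := F₀ˣ)
    refine ⟨g, fun h => ?_⟩
    have h1 := orderOf_eq_card_of_forall_mem_zpowers hg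
    rw [Nat.card_units, hcard] at h1
    have := Nat.le_of_dvd (by norm_num) (orderOf_dvd_of_pow_eq_one h)
    omega
  have hb0 : ((b : F₀) : F) ≠ 0 := fun h => b.ne_zero (Subtype.ext h)
  obtain ⟨u, hu⟩ : ∃ u : Fˣ, (u : F) = ((b : F₀) : F) * ((b : F₀) : F) := ⟨Units.mk0 _ (mul_ne_zero hb0 hb0), rfl⟩
  have hu2 : u * u ≠ 1 := fun h => hb4 (Units.ext (Subtype.ext (by
    have := congrArg Units.val h
    rw [Units.val_mul, Units.val_one, hu] at this
    push_cast
    linear_combination this)))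
  have hu1 : u ≠ 1 := fun h => hu2 (by rw [h, one_mul])
  have hdiX : di u ∈ X := by
    obtain ⟨t, ht, tU, tV, tE⟩ := D.exists_tor (b : F₀).2 hb0
    obtain ⟨T, hT⟩ : ∃ T : lineE M E, T = ⟨t, mem_lineE.2 ⟨hHM ht, 1, one_ne_zero, by rw [tE, one_smul]⟩⟩ := ⟨_, rfl⟩
    suffices h : φ T = di u from hX ▸ ⟨T, h⟩
    have e1 : f (((T : G3) : M3) *ᵥ U) U = 0 := by rw [hT, tU, D.hf.smul_left, D.uu, mul_zero]
    refine Dickson.ext_fp ?_ fun z => ?_
    · rw [(hpt T).1 e1, di_ip]
    · rw [(hpt T).2.2 z ?_, di_fp]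
      · congr 1
        rw [hT, tU, tV, hu]
        simp [D.hf.smul_left, D.uu, D.uv, D.vu, D.vv]
        field_simp
      · rw [e1, hT, tV, D.hf.smul_left, D.vu]
        simpa using hb0
  have hnot_borel : ¬ ∃ x : P2 F, ∀ g ∈ X, g • x = x := fun ⟨x, hx⟩ => by
    have h := hx R hR
    rcases di_fixed hu1 (hx _ hdiX) with rfl | rfl
    · rw [hRip] at h; exact fp_ne_ip _ h
    · exact fp_ne_ip _ (MulAction.injective R (h.trans hRip.symm))
  have hnot_pair : ∀ a c : P2 (Kc F), a ≠ c → ¬ X ≤ Dickson.pairSet a c := fun a c hac hle => by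
    obtain ⟨z, hz, hGz⟩ := hGip
    have hmem := mem_pairSet.1 (hle hdiX)
    have hfix : mapG (iF F) (di (u * u)) • a = a ∧ mapG (iF F) (di (u * u)) • c = c := by
      rw [← Dickson.di_mul, map_mul, mul_smul, mul_smul]
      rcases hmem with ⟨h1, h3⟩ | ⟨h1, h3⟩
      · exact ⟨by rw [h1, h1], by rw [h3, h3]⟩
      · exact ⟨by rw [h1, h3], by rw [h3, h1]⟩
    rw [mapG_di] at hfix
    have hne : Units.map (iF F).toMonoidHom (u * u) ≠ 1 := fun h => hu2
      (Units.map_injective (iF F).injective (h.trans (map_one (Units.map (iF F).toMonoidHom)).symm))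
    have hG' : mapG (iF F) G • (ip : P2 (Kc F)) = fp (iF F z) := by
      rw [← mapP_ip (iF F), map_smul_pt, hGz, mapP_fp]
    have hiz : iF F z ≠ 0 := (map_ne_zero _).2 hz
    have hin : mapG (iF F) G • (ip : P2 (Kc F)) = ip ∨ mapG (iF F) G • (ip : P2 (Kc F)) = fp 0 := by
      have hmG := mem_pairSet.1 (hle hG)
      rcases di_fixed hne hfix.1 with rfl | rfl <;> rcases di_fixed hne hfix.2 with rfl | rfl
      · exact absurd rfl hac
      · rcases hmG with ⟨h1, -⟩ | ⟨h1, -⟩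
        · exact Or.inl h1
        · exact Or.inr h1
      · rcases hmG with ⟨-, h1⟩ | ⟨-, h1⟩
        · exact Or.inl h1
        · exact Or.inr h1
      · exact absurd rfl hac
    rw [hG'] at hin
    rcases hin with h | h
    · exact fp_ne_ip _ h
    · exact hiz (fp_inj h)
  have hsq : ∀ n : ℕ, Nat.card X = n → (q + 1) * (q - 1) = 2 * n := fun n h => by rw [← hcardX, h]
  obtain ⟨k, hk⟩ := hq
  cases Dickson.classify_finite p X with
  | borel x h => exact absurd ⟨x, h⟩ hnot_borel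
  | cyclic a c hg h hne => exact absurd (h.trans (Dickson.pairFix_le_pairSet a c)) (hnot_pair a c hg.1)
  | dihedral a c hg h hn hC => exact absurd h (hnot_pair a c hg.1)
  | a4 hN h3 h5 h =>
    exfalso
    have := hsq 12 hN
    subst hk
    rw [Nat.add_sub_cancel] at this
    nlinarith
  | s4 hN h3 h5 h =>
    left
    have := hsq 24 hN
    subst hk
    rw [Nat.add_sub_cancel] at this
    have : k = 3 := by nlinarith
    omega
  | a5 hN h3 h5 h =>
    right
    have := hsq 60 hN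
    subst hk
    rw [Nat.add_sub_cancel] at this
    have : k = 5 := by nlinarith
    refine ⟨by omega, φ, hX ▸ h, hker, fun g c hgU hgV => ?_⟩
    obtain ⟨A, hA, hAφ⟩ := hφ g
    rw [hAφ]
    refine Dickson.mk_eq_one_of_scalar A c ?_
    rw [hA]
    ext i j
    fin_cases i <;> fin_cases j <;>
      simp [mat2, hgU, hgV, D.hf.smul_left, D.uu, D.vv, D.uv, D.vu]
  | subfield s F1 h3 h =>
    exfalso
    -- the order is divisible by the characteristic
    have htr1 : Dickson.tr (1 : F) ∈ Dickson.conjG s X := by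
      rcases h with h | ⟨-, h⟩ <;> rw [h]
      · exact ⟨Dickson.tr (1 : F1), by rw [Dickson.mapG_tr, map_one]⟩
      · obtain ⟨x, hx⟩ := Dickson.tr_mem_pslSub (F1 := F1) F1.one_mem
        exact ⟨x, hx⟩
    have hp : orderOf (Dickson.tr (1 : F)) = p := orderOf_eq_prime
      (by rw [Dickson.tr_pow, mul_one, CharP.cast_eq_zero, Dickson.tr_zero])
      (fun e => one_ne_zero (Dickson.tr_injective (e.trans Dickson.tr_zero.symm)))
    have hdvd : p ∣ Nat.card X := by
      rw [← hp, ← Subgroup.orderOf_mk _ htr1, ← Subgroup.card_map_of_injective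
        (f := (MulAut.conj s).toMonoidHom) (MulAut.conj s).injective]
      exact orderOf_dvd_natCard _
    have hpq : p ∣ q := by
      have hc : CharP F₀ p := inferInstance
      obtain ⟨n, hn, hpn⟩ := FiniteField.card F₀ p
      rw [← hcard, Nat.card_eq_fintype_card, hpn]
      exact dvd_pow_self p n.ne_zero
    have h8 : p ∣ (q + 1) * (q - 1) := hcardX ▸ hdvd.mul_left 2
    have hp1 := (Fact.out : p.Prime).one_lt
    rcases (Nat.Prime.dvd_mul Fact.out).1 h8 with h9 | h9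
    · exact absurd (Nat.le_of_dvd one_pos ((Nat.dvd_add_right hpq).1 h9)) (by omega)
    · have := Nat.dvd_sub hpq h9
      rw [show q - (q - 1) = 1 by omega] at this
      exact absurd (Nat.le_of_dvd one_pos this) (by omega)

end O3

end CfsgLib.Perm.Trans.UnitThree.OSub
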