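import Cfsg.Agent.Lib.Perm.Trans.UnitThree.OrthBase
import Cfsg.Agent.Lib.Perm.Trans.ThreeDim.UnitaryTv

/-!
# Orthogonal structures on three-dimensional unitary spaces: stabilisers of rational isotropic points
-/

set_option autoImplicit false
set_option linter.all false

namespace CfsgLib.Perm.Trans.UnitThree.OSub

open scoped Matrix
open Matrix Cfsg.Geo CfsgLib.Perm.Asch CfsgLib.Perm.Trans CfsgLib.Perm.Trans.Unit CfsgLib.Perm.Trans.UnitThree
open CfsgLib.Perm.Trans.Subf (em em_add em_neg em_sub em_smul em_zero em_injective em_ne_zero exists_coords)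

variable {F : Type*} [Field F] [Fintype F]

local notation "M3" => Matrix (Fin 3) (Fin 3) F
local notation "G3" => GL (Fin 3) F
local notation "V3" => Fin 3 → F

variable {σ : F ≃+* F} {f : (Fin 3 → F) → (Fin 3 → F) → F} {F₀ : Subfield F} {P : GL (Fin 3) F} {θ : F}
variable {U V E : Fin 3 → F}

/-- the shape of the elements fixing `U` modulo the line -/
def Uni (σ : F ≃+* F) (f : (Fin 3 → F) → (Fin 3 → F) → F) (U V E : Fin 3 → F) (g : GL (Fin 3) F) (s l : F) : Prop :=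
  (g : Matrix (Fin 3) (Fin 3) F) *ᵥ U = U ∧
    (g : Matrix (Fin 3) (Fin 3) F) *ᵥ E = E - (f E E * σ s) • U ∧
    (g : Matrix (Fin 3) (Fin 3) F) *ᵥ V = V + s • E + l • U

/-- no transvection with centre `U` -/
def NoTv (f : (Fin 3 → F) → (Fin 3 → F) → F) (M : Subgroup (GL (Fin 3) F)) (U : Fin 3 → F) : Prop :=
  ∀ c : F, UT f M U c → c = 0

namespace O3

variable (D : O3 σ f F₀ P θ U V E)
include D

theorem uni_eq {g h : G3} {s l : F} (hg : Uni σ f U V E g s l) (hh : Uni σ f U V E h s l) : g = h :=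
  D.ext (hg.1.trans hh.1.symm) (hg.2.2.trans hh.2.2.symm) (hg.2.1.trans hh.2.1.symm)

theorem uni_one : Uni σ f U V E (1 : G3) 0 0 := by
  simp [Uni, Units.val_one, one_mulVec]

theorem uni_mul {g h : G3} {s l s' l' : F} (hg : Uni σ f U V E g s l) (hh : Uni σ f U V E h s' l') :
    Uni σ f U V E (g * h) (s + s') (l + l' - f E E * s' * σ s) := by
  obtain ⟨g1, g2, g3⟩ := hg
  obtain ⟨k1, k2, k3⟩ := hh
  refine ⟨by rw [gl_mul_mulVec, k1, g1], ?_, ?_⟩
  · rw [gl_mul_mulVec, k2, mulVec_sub, mulVec_smul, g1, g2, map_add]; module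
  · rw [gl_mul_mulVec, k3, mulVec_add, mulVec_add, mulVec_smul, mulVec_smul, g1, g2, g3]; module

theorem uni_inv {g : G3} {s l : F} (hg : Uni σ f U V E g s l) :
    Uni σ f U V E g⁻¹ (-s) (-l - f E E * s * σ s) := by
  obtain ⟨g1, g2, g3⟩ := hg
  have hU : ((g⁻¹ : G3) : M3) *ᵥ U = U := by
    conv_lhs => rw [← g1]
    rw [← gl_mul_mulVec, inv_mul_cancel, Units.val_one, one_mulVec]
  have hE : ((g⁻¹ : G3) : M3) *ᵥ E = E + (f E E * σ s) • U := by
    have h := congrArg (fun x => ((g⁻¹ : G3) : M3) *ᵥ x) g2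
    simp only [← gl_mul_mulVec, inv_mul_cancel, Units.val_one, one_mulVec, mulVec_sub, mulVec_smul, hU] at h
    linear_combination (norm := module) -h
  refine ⟨hU, by rw [hE, map_neg]; module, ?_⟩
  have h := congrArg (fun x => ((g⁻¹ : G3) : M3) *ᵥ x) g3
  simp only [← gl_mul_mulVec, inv_mul_cancel, Units.val_one, one_mulVec, mulVec_add, mulVec_smul, hU, hE] at h
  linear_combination (norm := module) -h

theorem uni_iso {g : G3} (hg : g ∈ isoU f) {s l : F} (h : Uni σ f U V E g s l) :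
    l + σ l + f E E * (s * σ s) = 0 := by
  have h1 := mem_isoU.1 hg V V
  rw [h.2.2, show V + s • E + l • U = l • U + (1 : F) • V + s • E by module, D.form_eq, D.vv, map_one, mul_one,
    one_mul] at h1
  exact h1

/-- a unipotent element with trivial quotient is a transvection -/
theorem ut_of_uni {M : Subgroup G3} {g : G3} (hg : g ∈ M) {l : F} (h : Uni σ f U V E g 0 l) : UT f M U l := by
  refine ⟨g, hg, fun x => ?_⟩
  rw [D.apply_vec g x, h.1, h.2.1, h.2.2]
  simp only [map_zero, mul_zero, zero_smul, sub_zero, add_zero]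
  conv_rhs => arg 1; rw [D.coords x]
  module

/-- the conjugate by a torus element -/
theorem uni_conj {t g : G3} {b : F} (hb : b ∈ F₀) (hb0 : b ≠ 0) (tU : (t : M3) *ᵥ U = b • U)
    (tV : (t : M3) *ᵥ V = b⁻¹ • V) (tE : (t : M3) *ᵥ E = E) {s l : F} (h : Uni σ f U V E g s l) :
    Uni σ f U V E (t * g * t⁻¹) (b * s) (b ^ 2 * l) := by
  have iU : ((t⁻¹ : G3) : M3) *ᵥ U = b⁻¹ • U := by
    have e := congrArg (fun x => ((t⁻¹ : G3) : M3) *ᵥ x) tU
    simp only [← gl_mul_mulVec, inv_mul_cancel, Units.val_one, one_mulVec, mulVec_smul] at e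
    conv_rhs => rw [e]
    rw [smul_smul, inv_mul_cancel₀ hb0, one_smul]
  have iV : ((t⁻¹ : G3) : M3) *ᵥ V = b • V := by
    have e := congrArg (fun x => ((t⁻¹ : G3) : M3) *ᵥ x) tV
    simp only [← gl_mul_mulVec, inv_mul_cancel, Units.val_one, one_mulVec, mulVec_smul] at e
    conv_rhs => rw [e]
    rw [smul_smul, mul_inv_cancel₀ hb0, one_smul]
  have iE : ((t⁻¹ : G3) : M3) *ᵥ E = E := by
    have e := congrArg (fun x => ((t⁻¹ : G3) : M3) *ᵥ x) tE
    simp only [← gl_mul_mulVec, inv_mul_cancel, Units.val_one, one_mulVec] at e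
    exact e.symm
  obtain ⟨h1, h2, h3⟩ := h
  refine ⟨?_, ?_, ?_⟩
  · rw [gl_mul_mulVec, gl_mul_mulVec, iU, mulVec_smul, h1, mulVec_smul, tU, smul_smul, inv_mul_cancel₀ hb0, one_smul]
  · rw [gl_mul_mulVec, gl_mul_mulVec, iE, h2, mulVec_sub, mulVec_smul, tU, tE, map_mul, D.sfix hb]
    module
  · rw [gl_mul_mulVec, gl_mul_mulVec, iV, mulVec_smul, h3, mulVec_smul, mulVec_add, mulVec_add, mulVec_smul,
      mulVec_smul, tU, tV, tE]
    match_scalars <;> field_simp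

variable {M : Subgroup (GL (Fin 3) F)} (hHM : subfieldSubgroup F₀ P ⊓ (isoU f ⊓ specialLinear (Fin 3) F) ≤ M)
  (hM : M ≤ isoU f ⊓ specialLinear (Fin 3) F)

omit D in
/-- the rational group stabilises no proper subspace -/
theorem irreducible (D : O3 σ f F₀ P θ U V E)
    (hHM : subfieldSubgroup F₀ P ⊓ (isoU f ⊓ specialLinear (Fin 3) F) ≤ M) (W : Submodule F V3)
    (hW : ∀ g ∈ M, ∀ w ∈ W, (g : M3) *ᵥ w ∈ W) : W = ⊥ ∨ W = ⊤ := by
  refine or_iff_not_imp_left.2 fun hne => ?_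
  obtain ⟨w, hw, hw0⟩ := Submodule.exists_mem_ne_zero_of_ne_bot hne
  obtain ⟨g, hg, gU, gV, gE⟩ := D.exists_heis F₀.one_mem
  obtain ⟨r, hr, rU, rV, rE⟩ := D.exists_swap
  have hn := D.ee
  obtain ⟨a, b, c, rfl⟩ : ∃ a b c : F, w = a • U + b • V + c • E := ⟨_, _, _, D.coords w⟩
  have hd : ∀ a b c : F, a • U + b • V + c • E ∈ W →
      (-(f E E * b / 2) - f E E * c) • U + (0 : F) • V + b • E ∈ W := fun a b c h => by
    have h1 := W.sub_mem (hW g (hHM hg) _ h) h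
    convert h1 using 1
    simp only [mulVec_add, mulVec_smul, gU, gV, gE, one_smul, mul_one]
    module
  have hU : U ∈ W := by
    by_cases hb : b = 0
    · by_cases hc : c = 0
      · subst hb hc
        have ha : a ≠ 0 := fun h => hw0 (by rw [h]; simp)
        simp only [zero_smul, add_zero] at hw
        exact (Submodule.smul_mem_iff _ ha).1 hw
      · have h1 := hd _ _ _ hw
        subst hb
        simp only [mul_zero, zero_div, neg_zero, zero_sub, zero_smul, add_zero] at h1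
        exact (Submodule.smul_mem_iff _ (neg_ne_zero.2 (mul_ne_zero hn hc))).1 h1
    · have h1 := hd _ _ _ (hd _ _ _ hw)
      simp only [mul_zero, zero_div, neg_zero, zero_sub, zero_smul, add_zero] at h1
      exact (Submodule.smul_mem_iff _ (neg_ne_zero.2 (mul_ne_zero hn hb))).1 h1
  have hV : V ∈ W := rU ▸ hW r (hHM hr) _ hU
  have hE : E ∈ W := by
    have h1 := W.add_mem (W.sub_mem (hW g (hHM hg) _ hV) hV) (W.smul_mem (f E E / 2) hU)
    convert h1 using 1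
    simp only [gV, one_smul, mul_one]
    module
  refine eq_top_iff.2 fun x _ => ?_
  rw [D.coords x]
  exact W.add_mem (W.add_mem (W.smul_mem _ hU) (W.smul_mem _ hV)) (W.smul_mem _ hE)

include hHM hM

/-- one transvection at `U` gives all of them -/
theorem top_of_tv (hbig : 4 < Fintype.card F) {c : F} (hc0 : c ≠ 0) (hc : UT f M U c) :
    isoU f ⊓ specialLinear (Fin 3) F ≤ M := by
  have hiso : M ≤ isoU f := hM.trans inf_le_left
  obtain ⟨z, hz, hzx⟩ := hc
  have hcσ : σ c = -c := by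
    have h1 := mem_isoU.1 (hiso hz) V V
    rw [hzx, D.vu, mul_one, show V + c • U = c • U + (1 : F) • V + (0 : F) • E by module, D.form_eq, D.vv, map_one,
      map_zero, mul_one, one_mul, mul_zero, mul_zero, add_zero] at h1
    linear_combination h1
  have hsq : ∀ b : F, b ∈ F₀ → UT f M U (c * b ^ 2) := by
    intro b hb
    by_cases hb0 : b = 0
    · rw [hb0, zero_pow two_ne_zero, mul_zero]; exact UT.zero M U
    obtain ⟨t, ht, tU, tV, tE⟩ := D.exists_tor hb hb0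
    have h1 := UT.conj ⟨z, hz, hzx⟩ hiso (hHM ht)
    rw [tU] at h1
    obtain ⟨w, hw, hwx⟩ := h1
    refine ⟨w, hw, fun x => ?_⟩
    rw [hwx, herm_smul_right D.hf, D.sfix hb, smul_smul]
    congr 1
    ring
  have hadd : ∀ {a a' : F}, UT f M U a → UT f M U a' → UT f M U (a + a') := fun {a a'} ⟨g, hg, hgx⟩ ⟨h, hh, hhx⟩ =>
    ⟨g * h, M.mul_mem hg hh, fun x => by
      rw [gl_mul_mulVec, hhx, mulVec_add, mulVec_smul, hgx, hgx, D.uu, mul_zero, zero_smul, add_zero]; module⟩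
  have hneg : ∀ {a : F}, UT f M U a → UT f M U (-a) := fun {a} ⟨g, hg, hgx⟩ => by
    refine ⟨g⁻¹, M.inv_mem hg, fun x => ?_⟩
    have h1 := hgx (x + (-a * f x U) • U)
    rw [D.hf.add_left, D.hf.smul_left, D.uu, mul_zero, add_zero,
      show x + (-a * f x U) • U + (a * f x U) • U = x by module] at h1
    conv_lhs => rw [← h1]
    rw [← gl_mul_mulVec, inv_mul_cancel, Units.val_one, one_mulVec]
  have hall : ∀ e : F, σ e = -e → UT f M U e := by
    intro e he
    have hd : e / (2 * c) ∈ F₀ := D.mem_of_fix (by rw [map_div₀, map_mul, he, hcσ, map_ofNat]; field_simp)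
    obtain ⟨d, hdd⟩ : ∃ d, d = e / (2 * c) := ⟨_, rfl⟩
    rw [← hdd] at hd
    have h1 := hadd (hadd (hsq (d + 1) (F₀.add_mem hd F₀.one_mem)) (hneg (hsq d hd))) (hneg (hsq 1 F₀.one_mem))
    have h2 := D.str.two
    convert h1 using 1
    rw [hdd]
    field_simp
    ring
  refine isoU_inf_SL_le D.hf (ThreeDim.hasTv_top_of_irreducible D.hf hiso (D.irreducible hHM) D.U0 D.uu
    fun e he => ?_) (Or.inr hbig)
  obtain ⟨w, hw, hwx⟩ := hall e he
  refine ⟨utv_orth D.hf D.uu e, ?_⟩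
  convert hw using 1
  exact gl_ext_vec fun x => by rw [tv_mulVec, smul_dotProduct, hv_dot, smul_eq_mul, hwx]

variable (hno : NoTv f M U)
include hno

theorem eq_one_of_uni {g : G3} (hg : g ∈ M) {l : F} (h : Uni σ f U V E g 0 l) : g = 1 := by
  have hl := hno l (D.ut_of_uni hg h)
  subst hl
  exact D.uni_eq h D.uni_one

/-- commuting elements of the unipotent radical -/
theorem uni_comm {g h : G3} (hg : g ∈ M) (hh : h ∈ M) {s l s' l' : F} (Hg : Uni σ f U V E g s l)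
    (Hh : Uni σ f U V E h s' l') : s * σ s' = s' * σ s := by
  have h1 := D.uni_mul (D.uni_mul Hg Hh) (D.uni_inv (D.uni_mul Hh Hg))
  rw [show s + s' + -(s' + s) = 0 by ring] at h1
  have h2 := hno _ (D.ut_of_uni (M.mul_mem (M.mul_mem hg hh) (M.inv_mem (M.mul_mem hh hg))) h1)
  simp only [map_add] at h2
  have h3 : f E E * (s * σ s' - s' * σ s) = 0 := by linear_combination h2
  exact sub_eq_zero.1 ((mul_eq_zero.1 h3).resolve_left D.ee)

theorem uni_rational {g : G3} (hg : g ∈ M) {s l : F} (Hg : Uni σ f U V E g s l) :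
    s ∈ F₀ ∧ l = -(f E E * s * s / 2) ∧ g ∈ subfieldSubgroup F₀ P := by
  obtain ⟨g1, hg1, aU, aV, aE⟩ := D.exists_heis F₀.one_mem
  have H1 : Uni σ f U V E g1 1 (-(f E E * 1 * 1 / 2)) :=
    ⟨aU, by rw [aE, map_one], by rw [aV]; module⟩
  have hs := D.uni_comm hHM hM hno hg (hHM hg1) Hg H1
  rw [map_one, mul_one, one_mul] at hs
  have hsF : s ∈ F₀ := D.mem_of_fix hs.symm
  obtain ⟨k, hk, kU, kV, kE⟩ := D.exists_heis hsF
  have Hk : Uni σ f U V E k s (-(f E E * s * s / 2)) :=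
    ⟨kU, by rw [kE, D.sfix hsF], by rw [kV]; module⟩
  have h1 := D.uni_mul (D.uni_inv Hk) Hg
  rw [show -s + s = 0 by ring] at h1
  have h2 := D.eq_one_of_uni hHM hM hno (M.mul_mem (M.inv_mem (hHM hk)) hg) h1
  rw [inv_mul_eq_one] at h2
  subst h2
  refine ⟨hsF, ?_, hk.1⟩
  have h3 := Hg.2.2.symm.trans Hk.2.2
  exact (D.eq_of_coords (a := l) (b := 1) (c := s) (a' := -(f E E * s * s / 2)) (b' := 1) (c' := s)
    (by linear_combination (norm := module) h3)).1

/-- the stabiliser of the line of `U` -/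
theorem stab_point {g : G3} (hg : g ∈ M) {a : F} (hgU : (g : M3) *ᵥ U = a • U) :
    ∃ β b s : F, β ^ 3 = 1 ∧ β * σ β = 1 ∧ b ∈ F₀ ∧ b ≠ 0 ∧ s ∈ F₀ ∧
      (g : M3) *ᵥ U = (β * b) • U ∧ (g : M3) *ᵥ E = β • E - (β * b * (f E E * s)) • U ∧
      (g : M3) *ᵥ V = (β / b) • V + (β * s) • E - (β * b * (f E E * s * s / 2)) • U := by
  have hiso : M ≤ isoU f := hM.trans inf_le_left
  have hgi := mem_isoU.1 (hiso hg)
  have ha : a ≠ 0 := fun h => D.U0 (by rw [h, zero_smul] at hgU; exact gl_mulVec_eq_zero.1 hgU)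
  have hσa : σ a ≠ 0 := by simpa using ha
  -- the images
  obtain ⟨p, β, hgE⟩ : ∃ p β, (g : M3) *ᵥ E = p • U + (0 : F) • V + β • E := by
    refine ⟨f ((g : M3) *ᵥ E) V, f ((g : M3) *ᵥ E) E / f E E, ?_⟩
    conv_lhs => rw [D.coords ((g : M3) *ᵥ E)]
    have h1 := hgi E U
    rw [hgU, herm_smul_right D.hf, D.eu, mul_eq_zero] at h1
    rw [h1.resolve_left hσa]
  obtain ⟨l, r, hgV⟩ : ∃ l r, (g : M3) *ᵥ V = l • U + (σ a)⁻¹ • V + r • E := by
    refine ⟨f ((g : M3) *ᵥ V) V, f ((g : M3) *ᵥ V) E / f E E, ?_⟩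
    conv_lhs => rw [D.coords ((g : M3) *ᵥ V)]
    have h1 := hgi V U
    rw [hgU, herm_smul_right D.hf, D.vu] at h1
    rw [eq_inv_of_mul_eq_one_right h1]
  have hdet : a * β = σ a := by
    have h1 := D.det_eq (g := g) (T := !![a, l, p; 0, (σ a)⁻¹, 0; 0, r, β])
      (by rw [hgU]; simp [O3.col]) (by rw [hgV]; simp [O3.col]) (by rw [hgE]; simp [O3.col])
    have hd : (g : M3).det = 1 := congrArg Units.val (hM hg).2
    rw [hd, det_fin_three] at h1
    simp at h1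
    field_simp at h1
    linear_combination -h1
  have hNβ : β * σ β = 1 := by
    have h1 := hgi E E
    rw [hgE, D.form_eq, zero_mul, map_zero, mul_zero, zero_add, zero_add] at h1
    exact (mul_eq_left₀ D.ee).1 h1
  have hβ : β ≠ 0 := fun h => by rw [h, zero_mul] at hNβ; exact zero_ne_one hNβ
  have hσβ : σ β ≠ 0 := by simpa using hβ
  -- the conjugate of a rational element
  obtain ⟨g1, hg1, aU, aV, aE⟩ := D.exists_heis F₀.one_mem
  have H1 : Uni σ f U V E g1 1 (-(f E E * 1 * 1 / 2)) :=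
    ⟨aU, by rw [aE, map_one], by rw [aV]; module⟩
  obtain ⟨h, hh⟩ : ∃ h, h = g * g1 * g⁻¹ := ⟨_, rfl⟩
  have hhM : h ∈ M := hh ▸ M.mul_mem (M.mul_mem hg (hHM hg1)) (M.inv_mem hg)
  have hhg : ∀ x, (h : M3) *ᵥ ((g : M3) *ᵥ x) = (g : M3) *ᵥ ((g1 : M3) *ᵥ x) := fun x => by
    rw [← gl_mul_mulVec, ← gl_mul_mulVec, hh, inv_mul_cancel_right]
  have hhU : (h : M3) *ᵥ U = U := by
    have e := hhg U
    rw [aU, hgU, mulVec_smul] at e
    exact smul_right_injective _ ha e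
  have hhE : (h : M3) *ᵥ E = E - (f E E * a / β) • U := by
    have e := hhg E
    rw [aE, mulVec_sub, mulVec_smul, hgU, hgE, mulVec_add, mulVec_add, mulVec_smul, mulVec_smul, mulVec_smul, hhU,
      mul_one] at e
    refine smul_right_injective _ hβ ?_
    show β • ((h : M3) *ᵥ E) = β • (E - (f E E * a / β) • U)
    rw [smul_sub, smul_smul, show β * (f E E * a / β) = f E E * a by field_simp]
    linear_combination (norm := module) e
  obtain ⟨s₁, hs₁⟩ : ∃ s₁, s₁ = σ (a / β) := ⟨_, rfl⟩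
  obtain ⟨l₁, hhV⟩ : ∃ l₁, (h : M3) *ᵥ V = V + s₁ • E + l₁ • U := by
    refine ⟨f ((h : M3) *ᵥ V) V, ?_⟩
    have hhi := mem_isoU.1 (hiso hhM)
    have h1 := hhi V U
    rw [hhU, D.vu] at h1
    have h2 := hhi V E
    rw [hhE, herm_sub_right D.hf, herm_smul_right D.hf, h1, D.ve, mul_one, sub_eq_zero] at h2
    conv_lhs => rw [D.coords ((h : M3) *ᵥ V)]
    rw [h1, h2, hs₁, show σ (f E E * a / β) / f E E = σ (a / β) by
      rw [map_div₀, map_div₀, map_mul, D.nσ]; field_simp [D.ee]]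
    module
  have Hh : Uni σ f U V E h s₁ l₁ := ⟨hhU, by
    rw [hhE, hs₁, D.hf.involutive, mul_div_assoc], hhV⟩
  have hc := D.uni_comm hHM hM hno hhM (hHM hg1) Hh H1
  rw [map_one, mul_one, one_mul, hs₁, D.hf.involutive] at hc
  have hbF : a / β ∈ F₀ := D.mem_of_fix hc
  obtain ⟨b, hb⟩ : ∃ b, b = a / β := ⟨_, rfl⟩
  rw [← hb] at hbF
  have hab : a = β * b := by rw [hb]; field_simp
  have hb0 : b ≠ 0 := fun h0 => ha (by rw [hab, h0, mul_zero])
  have hβ2 : β * β = σ β := by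
    have h1 : σ (β * b) = σ β * b := by rw [map_mul, D.sfix hbF]
    rw [hab, h1] at hdet
    exact mul_right_cancel₀ hb0 (by linear_combination hdet)
  have hβ3 : β ^ 3 = 1 := by rw [← hNβ, ← hβ2]; ring
  -- the unipotent part
  obtain ⟨t, ht, tU, tV, tE⟩ := D.exists_tor hbF hb0
  obtain ⟨B, hBm⟩ : ∃ B : G3, (B : M3) = β • (1 : M3) :=
    ⟨Matrix.GeneralLinearGroup.mkOfDetNeZero (β • (1 : M3)) (by simp [hβ]), rfl⟩
  have hBx : ∀ x, (B : M3) *ᵥ x = β • x := fun x => by rw [hBm, smul_mulVec, one_mulVec]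
  have hBH : B ∈ subfieldSubgroup F₀ P ⊓ (isoU f ⊓ specialLinear (Fin 3) F) :=
    ⟨Subf.mem_subfieldSubgroup_of_image F₀ P hβ fun i => ⟨Pi.single i 1, hBx _⟩,
      mem_isoU.2 fun x y => by rw [hBx, hBx, D.hf.smul_left, herm_smul_right D.hf, ← mul_assoc, hNβ, one_mul],
      Units.ext (show (B : M3).det = 1 by rw [hBm, det_smul, det_one, mul_one, Fintype.card_fin, hβ3])⟩
  obtain ⟨k, hk⟩ : ∃ k, k = (B * t)⁻¹ * g := ⟨_, rfl⟩
  have hkM : k ∈ M := hk ▸ M.mul_mem (M.inv_mem (M.mul_mem (hHM hBH) (hHM ht))) hg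
  have hkg : ∀ x, β • ((t : M3) *ᵥ ((k : M3) *ᵥ x)) = (g : M3) *ᵥ x := fun x => by
    rw [← hBx, ← gl_mul_mulVec, ← gl_mul_mulVec, hk, mul_inv_cancel_left]
  have hinj : ∀ x y : V3, β • ((t : M3) *ᵥ x) = β • ((t : M3) *ᵥ y) → x = y := fun x y e => by
    have e2 := congrArg (fun z => ((t⁻¹ : G3) : M3) *ᵥ z) (smul_right_injective _ hβ e)
    simpa only [← gl_mul_mulVec, inv_mul_cancel, Units.val_one, one_mulVec] using e2
  obtain ⟨s, hs⟩ : ∃ s, s = σ (-(p / (f E E * (β * b)))) := ⟨_, rfl⟩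
  have hkU : (k : M3) *ᵥ U = U := hinj _ _ (by rw [hkg, hgU, tU, smul_smul, hab])
  have hkE : (k : M3) *ᵥ E = E - (f E E * σ s) • U := hinj _ _ (by
    rw [hkg, hgE, mulVec_sub, mulVec_smul, tE, tU, hs, D.hf.involutive]
    have := D.ee
    match_scalars <;> field_simp)
  obtain ⟨l₂, hkV⟩ : ∃ l₂, (k : M3) *ᵥ V = V + s • E + l₂ • U := by
    refine ⟨f ((k : M3) *ᵥ V) V, ?_⟩
    have hki := mem_isoU.1 (hiso hkM)
    have h1 := hki V U
    rw [hkU, D.vu] at h1
    have h2 := hki V E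
    rw [hkE, herm_sub_right D.hf, herm_smul_right D.hf, h1, D.ve, mul_one, sub_eq_zero, map_mul, D.nσ,
      D.hf.involutive] at h2
    conv_lhs => rw [D.coords ((k : M3) *ᵥ V)]
    rw [h1, h2, mul_div_cancel_left₀ _ D.ee]
    module
  obtain ⟨hsF, hl, -⟩ := D.uni_rational hHM hM hno hkM ⟨hkU, hkE, hkV⟩
  refine ⟨β, b, s, hβ3, hNβ, hbF, hb0, hsF, by rw [hgU, hab], ?_, ?_⟩
  · rw [← hkg, hkE, mulVec_sub, mulVec_smul, tE, tU, D.sfix hsF]; module
  · rw [← hkg, hkV, hl, mulVec_add, mulVec_add, mulVec_smul, mulVec_smul, tE, tU, tV]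
    match_scalars <;> field_simp

/-- a point stabiliser lies in the rational group -/
theorem stab_rational {g : G3} (hg : g ∈ M) {a : F} (hgU : (g : M3) *ᵥ U = a • U) :
    g ∈ subfieldSubgroup F₀ P := by
  obtain ⟨β, b, s, hβ3, -, hb, hb0, hs, gU, gE, gV⟩ := D.stab_point hHM hM hno hg hgU
  have hβ : β ≠ 0 := fun h => by rw [h, zero_pow three_ne_zero] at hβ3; exact zero_ne_one hβ3
  refine Subf.mem_subfieldSubgroup_of_image F₀ P hβ fun i => ?_
  obtain ⟨x, y, z, h⟩ := D.exists_rat_coords (Pi.single i 1)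
  have hn := D.n_mem
  obtain ⟨v, hv⟩ := D.rat_comb (a := (x : F) * b - y * (b * (f E E * s * s / 2)) - z * (b * (f E E * s)))
    (b := (y : F) / b) (c := y * s + z)
    (F₀.sub_mem (F₀.sub_mem (F₀.mul_mem x.2 hb) (F₀.mul_mem y.2 (F₀.mul_mem hb (F₀.div_mem
      (F₀.mul_mem (F₀.mul_mem hn hs) hs) (ofNat_mem F₀ 2))))) (F₀.mul_mem z.2 (F₀.mul_mem hb (F₀.mul_mem hn hs))))
    (F₀.div_mem y.2 hb) (F₀.add_mem (F₀.mul_mem y.2 hs) z.2)
  refine ⟨v, ?_⟩
  rw [hv, h, mulVec_add, mulVec_add, mulVec_smul, mulVec_smul, mulVec_smul, gU, gE, gV]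
  module

end O3

end CfsgLib.Perm.Trans.UnitThree.OSub
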