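import Cfsg.Agent.Lib.Perm.Trans.UnitSubfMax

/-!
# Unitary groups of dimension three: points, and transvections of a nondegenerate plane

A group containing the transvections with centres in the plane orthogonal to an anisotropic point and moving that
point contains the special unitary group.  This gives the maximality of the point stabilisers.
-/

set_option autoImplicit false
set_option linter.all false

namespace CfsgLib.Perm.Trans.UnitThree

open scoped Matrix
open Matrix Cfsg.Geo CfsgLib.Perm.Asch CfsgLib.Perm.Trans CfsgLib.Perm.Trans.Unit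

variable {ι : Type} [Fintype ι] [DecidableEq ι] {F : Type*} [Field F] [Fintype F]
variable {σ : F ≃+* F} {f : (ι → F) → (ι → F) → F}

omit [Fintype F] in
theorem mem_stab_span {g : GL ι F} {u : ι → F} {t : F} (ht : t ≠ 0) (hg : (g : Matrix ι ι F) *ᵥ u = t • u) :
    g ∈ subspaceStabilizer (Submodule.span F ({u} : Set (ι → F))) := by
  intro x
  show x ∈ Submodule.span F ({u} : Set (ι → F)) ↔ (g : Matrix ι ι F) *ᵥ x ∈ Submodule.span F ({u} : Set (ι → F))
  constructor
  · intro hx
    obtain ⟨c, rfl⟩ := Submodule.mem_span_singleton.1 hx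
    exact Submodule.mem_span_singleton.2 ⟨c * t, by rw [mulVec_smul, hg, smul_smul]⟩
  · intro hx
    obtain ⟨c, hc⟩ := Submodule.mem_span_singleton.1 hx
    refine Submodule.mem_span_singleton.2 ⟨c * t⁻¹, ?_⟩
    conv_rhs => rw [← gl_inv_mulVec g x, ← hc]
    rw [mulVec_smul]
    have h : ((g⁻¹ : GL ι F) : Matrix ι ι F) *ᵥ (t • u) = u := by rw [← hg, gl_inv_mulVec]
    rw [mulVec_smul] at h
    conv_lhs => rw [← h, smul_smul, mul_assoc, inv_mul_cancel₀ ht, mul_one]

variable (hf : IsUnitaryForm σ f)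
include hf

/-- membership in the orthogonal of a point -/
theorem mem_perp_span {a x : ι → F} : x ∈ perp hf (Submodule.span F ({a} : Set (ι → F))) ↔ f x a = 0 := by
  refine ⟨fun h => h a (Submodule.mem_span_singleton_self a), fun h w hw => ?_⟩
  obtain ⟨c, rfl⟩ := Submodule.mem_span_singleton.1 hw
  rw [herm_smul_right hf, h, mul_zero]

variable (h3 : Fintype.card ι = 3)
include h3

/-- orthogonal isotropic vectors are dependent -/
theorem eq_smul_of_orth {u v : ι → F} (hu0 : u ≠ 0) (huu : f u u = 0) (hvv : f v v = 0) (huv : f u v = 0) :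
    v ∈ Submodule.span F ({u} : Set (ι → F)) := by
  have hvu := herm_swap_zero hf huv
  have hZ : ∀ x ∈ Submodule.span F ({u, v} : Set (ι → F)), ∀ y ∈ Submodule.span F ({u, v} : Set (ι → F)), f x y = 0 := by
    intro x hx y hy
    obtain ⟨a, b, rfl⟩ := Submodule.mem_span_pair.1 hx
    obtain ⟨c, d, rfl⟩ := Submodule.mem_span_pair.1 hy
    simp only [hf.add_left, herm_add_right hf, hf.smul_left, herm_smul_right hf, huu, hvv, huv, hvu]
    ring
  have h := two_mul_finrank_le hf hZ (isNondegenerateOn_top hf) le_top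
  rw [finrank_top, Module.finrank_fintype_fun_eq_card, h3] at h
  have hle : Submodule.span F ({u} : Set (ι → F)) ≤ Submodule.span F ({u, v} : Set (ι → F)) :=
    Submodule.span_mono (by simp)
  have he := Submodule.eq_of_le_of_finrank_le hle (by rw [finrank_span_singleton hu0]; omega)
  rw [he]
  exact Submodule.subset_span (by simp)

/-- a hyperbolic pair spanning the orthogonal of an anisotropic point -/
theorem exists_pair_perp {a : ι → F} (ha : f a a ≠ 0) : ∃ e h : ι → F, f e a = 0 ∧ f h a = 0 ∧ f e e = 0 ∧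
    f h h = 0 ∧ f e h = 1 ∧ e ≠ 0 ∧ h ≠ 0 ∧ ∀ x, f x a = 0 → x = f x h • e + f x e • h := by
  obtain ⟨W, hW⟩ : ∃ W, W = perp hf (Submodule.span F ({a} : Set (ι → F))) := ⟨_, rfl⟩
  have hWn : IsNondegenerateOn f W := hW ▸ isNondegenerateOn_perp hf (isNondegenerateOn_singleton hf ha)
  have hr : Module.finrank F W = 2 := by
    have := finrank_add_perp hf (isNondegenerateOn_singleton hf ha)
    rw [finrank_span_singleton (fun h0 => ha (by rw [h0, herm_zero_left hf])), h3] at this
    rw [hW]; omega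
  obtain ⟨e, he, he0, hee⟩ := exists_isotropic hf (W := W) hr.ge
  obtain ⟨y, hy, hey⟩ := (hWn e he he0).2
  obtain ⟨h, hh, hhh, heh, hhe⟩ := exists_partner hf he hee hy hey
  have hea : f e a = 0 := (mem_perp_span hf).1 (hW ▸ he)
  have hha : f h a = 0 := (mem_perp_span hf).1 (hW ▸ hh)
  refine ⟨e, h, hea, hha, hee, hhh, heh, he0, fun h0 => one_ne_zero (heh.symm.trans (by rw [h0, herm_zero_right hf])),
    fun x hx => ?_⟩
  have hsub : Submodule.span F ({e, h} : Set (ι → F)) ≤ W :=
    Submodule.span_le.2 (by simp [Set.insert_subset_iff, he, hh])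
  have hfull : W ≤ Submodule.span F ({e, h} : Set (ι → F)) := by
    refine (Submodule.eq_of_le_of_finrank_le hsub ?_).symm.le
    rw [hr, ← Matrix.range_cons_cons_empty e h, finrank_span_eq_card]
    · simp
    · rw [LinearIndependent.pair_iff]
      intro s t hst
      have h5 := congrArg (fun v => f v e) hst
      have h6 := congrArg (fun v => f v h) hst
      simp only [hf.add_left, hf.smul_left, hee, hhh, heh, hhe, herm_zero_left hf] at h5 h6
      exact ⟨by linear_combination h6, by linear_combination h5⟩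
  obtain ⟨c, d, hcd⟩ := Submodule.mem_span_pair.1 (hfull (hW ▸ (mem_perp_span hf).2 hx))
  have h5 := congrArg (fun v => f v e) hcd
  have h6 := congrArg (fun v => f v h) hcd
  simp only [hf.add_left, hf.smul_left, hee, hhh, heh, hhe] at h5 h6
  rw [← h5, ← h6, ← hcd]
  simp

/-- an isotropic vector not orthogonal to an anisotropic one -/
theorem exists_iso_off {a : ι → F} (ha : f a a ≠ 0) : ∃ z, f z z = 0 ∧ f z a ≠ 0 := by
  obtain ⟨e, h, hea, hha, hee, hhh, heh, -, -, -⟩ := exists_pair_perp hf h3 ha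
  obtain ⟨s, hs⟩ := exists_trace hf (d := -f a a) (by rw [map_neg, ← hf.herm])
  refine ⟨a + (e + s • h), ?_, ?_⟩
  · simp only [hf.add_left, herm_add_right hf, hf.smul_left, herm_smul_right hf, hee, hhh, heh,
      show f h e = 1 by rw [hf.herm, heh, map_one], hea, hha, herm_swap_zero hf hea, herm_swap_zero hf hha]
    linear_combination hs
  · simp only [hf.add_left, hf.smul_left, hea, hha, mul_zero, add_zero]
    exact ha

variable (hbig : 4 < Fintype.card F)
include hbig

/-- Lemma P: the transvections of a plane and an element moving its pole give everything -/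
theorem full_of_plane {M : Subgroup (GL ι F)} (hM : M ≤ isoU f ⊓ specialLinear ι F) {a : ι → F} (ha : f a a ≠ 0)
    (hP : ∀ u, f u u = 0 → f u a = 0 → u ∈ centres hf M) {g : GL ι F} (hg : g ∈ M)
    (hga : (g : Matrix ι ι F) *ᵥ a ∉ Submodule.span F ({a} : Set (ι → F))) :
    isoU f ⊓ specialLinear ι F ≤ M := by
  have hMiso : M ≤ isoU f := hM.trans inf_le_left
  obtain ⟨e, h, hea, hha, hee, hhh, heh, he0, hh0, hco⟩ := exists_pair_perp hf h3 ha
  have hiso := mem_isoU.1 (hMiso hg)
  -- a centre outside the plane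
  obtain ⟨z, hzc, hza⟩ : ∃ z, z ∈ centres hf M ∧ f z a ≠ 0 := by
    by_contra hcon
    push Not at hcon
    have h1 := hcon _ (centres_conj hf hMiso hg (hP e hee hea))
    have h2 := hcon _ (centres_conj hf hMiso hg (hP h hhh hha))
    refine hga (perp_perp hf (isNondegenerateOn_singleton hf ha) fun p hp => ?_)
    obtain ⟨W, hW⟩ : ∃ W, W = perp hf (Submodule.span F ({a} : Set (ι → F))) := ⟨_, rfl⟩
    have hle : W.map (Matrix.toLin' (g : Matrix ι ι F)) ≤ W := by
      rintro _ ⟨y, hy, rfl⟩
      rw [Matrix.toLin'_apply, hco y ((mem_perp_span hf).1 (hW ▸ hy)), mulVec_add, mulVec_smul, mulVec_smul, hW]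
      exact Submodule.add_mem _ (Submodule.smul_mem _ _ ((mem_perp_span hf).2 h1))
        (Submodule.smul_mem _ _ ((mem_perp_span hf).2 h2))
    have heq := Submodule.eq_of_le_of_finrank_le hle
      (Submodule.equivMapOfInjective _ (fun x y hxy => by
        have h' := congrArg (fun v => ((g⁻¹ : GL ι F) : Matrix ι ι F) *ᵥ v) hxy
        simpa [Matrix.toLin'_apply] using h') W).finrank_eq.le
    have hp' : p ∈ W.map (Matrix.toLin' (g : Matrix ι ι F)) := heq.symm ▸ (hW ▸ hp)
    obtain ⟨y, hy, rfl⟩ := hp'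
    rw [Matrix.toLin'_apply, hiso]
    exact herm_swap_zero hf ((mem_perp_span hf).1 (hW ▸ hy))
  -- transitivity of the plane group on the other isotropic points
  refine isoU_inf_SL_le hf (fun x _ hxx c hc => ?_) (Or.inr hbig)
  suffices hx : x ∈ centres hf M from hx.2 c hc
  by_cases hxa : f x a = 0
  · exact hP x hxx hxa
  obtain ⟨z', hz'⟩ : ∃ z', z' = (f x a / f z a) • z := ⟨_, rfl⟩
  have hzc' : z' ∈ centres hf M := hz' ▸ centres_smul hf hzc _
  obtain ⟨w, hw⟩ : ∃ w, w = x - (f x a / f a a) • a := ⟨_, rfl⟩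
  obtain ⟨w', hw'⟩ : ∃ w', w' = z' - (f x a / f a a) • a := ⟨_, rfl⟩
  have hza' : f z' a = f x a := by rw [hz', hf.smul_left, div_mul_cancel₀ _ hza]
  have hwa : f w a = 0 := by rw [hw, herm_sub_left hf, hf.smul_left, div_mul_cancel₀ _ ha, sub_self]
  have hwa' : f w' a = 0 := by rw [hw', herm_sub_left hf, hf.smul_left, hza', div_mul_cancel₀ _ ha, sub_self]
  obtain ⟨t, ht⟩ : ∃ t, t = f x a / f a a := ⟨_, rfl⟩
  rw [← ht] at hw hw'
  have hxw : x = w + t • a := by rw [hw]; abel
  have hzw : z' = w' + t • a := by rw [hw']; abel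
  have hnorm : f w' w' = f w w := by
    have k1 := hzc'.1
    rw [hzw] at k1
    have k2 := hxx
    rw [hxw] at k2
    simp only [hf.add_left, herm_add_right hf, hf.smul_left, herm_smul_right hf, hwa, hwa', herm_swap_zero hf hwa,
      herm_swap_zero hf hwa'] at k1 k2
    linear_combination k1 - k2
  have hn0 : f w' w' ≠ 0 := by
    intro h0
    have k1 := hzc'.1
    rw [hzw] at k1
    simp only [hf.add_left, herm_add_right hf, hf.smul_left, herm_smul_right hf, hwa', herm_swap_zero hf hwa', h0] at k1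
    have : t * σ t * f a a = 0 := by linear_combination k1
    have ht0 : t ≠ 0 := by rw [ht]; exact div_ne_zero hxa ha
    exact ha ((mul_eq_zero.1 this).resolve_left (mul_ne_zero ht0 (by simpa using ht0)))
  obtain ⟨W, hWdef⟩ : ∃ W, W = perp hf (Submodule.span F ({a} : Set (ι → F))) := ⟨_, rfl⟩
  have hWn : IsNondegenerateOn f W := hWdef ▸ isNondegenerateOn_perp hf (isNondegenerateOn_singleton hf ha)
  obtain ⟨k, ⟨hk, -⟩, hkW, hkw⟩ := exists_norm_move hf (W := W) (hWdef ▸ (mem_perp_span hf).2 hwa')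
    (hWdef ▸ (mem_perp_span hf).2 hwa) hnorm hn0
  have haW : a ∈ perp hf W := fun y hy => herm_swap_zero hf ((mem_perp_span hf).1 (hWdef ▸ hy))
  -- adjust the determinant by a quasi-reflection orthogonal to the moved vector
  obtain ⟨p, hpa, hpw, hpp⟩ : ∃ p, f p a = 0 ∧ f p w' = 0 ∧ f p p ≠ 0 := by
    have hPW : Submodule.span F ({w'} : Set (ι → F)) ≤ W :=
      (Submodule.span_singleton_le_iff_mem _ _).2 (hWdef ▸ (mem_perp_span hf).2 hwa')
    obtain ⟨hnd, hfr⟩ := sub_perp hf hWn (isNondegenerateOn_singleton hf hn0) hPW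
    obtain ⟨p, hp, hpp⟩ := exists_anisotropic hf hnd (fun h0 => by
      rw [h0, finrank_bot, finrank_span_singleton (fun h0 => hn0 (by rw [h0, herm_zero_left hf]))] at hfr
      have := finrank_add_perp hf (isNondegenerateOn_singleton hf ha)
      rw [← hWdef, finrank_span_singleton (fun h0 => ha (by rw [h0, herm_zero_left hf])), h3] at this
      omega)
    exact ⟨p, (mem_perp_span hf).1 (hWdef ▸ hp.1), hp.2 w' (Submodule.mem_span_singleton_self _), hpp⟩
  have hkd := isoU_det_norm hf hk
  obtain ⟨ζ, hζ⟩ : ∃ ζ, ζ = ((k : Matrix ι ι F).det)⁻¹ := ⟨_, rfl⟩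
  obtain ⟨r, hr, hrd, hrf⟩ := exists_qref hf hpp (ζ := ζ) (by
    rw [hζ, map_inv₀, ← mul_inv, hkd, inv_one])
  have hkr : k * r ∈ fixU hf W := by
    refine ⟨⟨(isoU f).mul_mem hk hr, Units.ext ?_⟩, fun y hy => ?_⟩
    · show ((k * r : GL ι F) : Matrix ι ι F).det = 1
      rw [Units.val_mul, det_mul, hrd, hζ, mul_inv_cancel₀ fun h0 => by rw [h0, zero_mul] at hkd; exact zero_ne_one hkd]
    · rw [gl_mul_mulVec, hrf, hy p (hWdef ▸ (mem_perp_span hf).2 hpa), mul_zero, zero_smul, add_zero, hkW y hy]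
  have hkrM : k * r ∈ M := mem_of_fix hf hWn
    (fun u hu huu c hc => (hP u huu ((mem_perp_span hf).1 (hWdef ▸ hu))).2 c hc) (Or.inr hbig) hkr
  have himg := centres_conj hf hMiso hkrM hzc'
  have hrz : ((k * r : GL ι F) : Matrix ι ι F) *ᵥ z' = x := by
    rw [hzw, mulVec_add, mulVec_smul, hkr.2 a haW, gl_mul_mulVec, hrf, herm_swap_zero hf hpw, mul_zero, zero_smul,
      add_zero, hkw, hxw]
  rwa [hrz] at himg

end CfsgLib.Perm.Trans.UnitThree
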