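import Cfsg.Agent.Lib.Perm.Trans.UnitSU
import Cfsg.Agent.Lib.Perm.Asch.Forms.Commutative
import Cfsg.Agent.Lib.Perm.Asch.Forms.U3.Field

/-!
# The Singer group of a unitary group of dimension three and its normaliser

The elements of the special unitary group inside a field subalgebra of degree three closed under adjoints form
a group of order `q² - q + 1`; a nonscalar one has the subalgebra as its commutant.
-/

set_option autoImplicit false
set_option linter.all false

namespace CfsgLib.Perm.Trans.UnitThree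

open scoped Matrix
open Matrix Cfsg Cfsg.Geo CfsgLib.Perm.Asch CfsgLib.Perm.Trans

variable {F : Type*} [Field F] [Fintype F] {q : ℕ}

local notation "M3" => Matrix (Fin 3) (Fin 3) F
local notation "G3" => GL (Fin 3) F

/-- the special unitary group inside the general linear group -/
abbrev suG (F : Type*) [Field F] (q : ℕ) : Subgroup (GL (Fin 3) F) :=
  Cfsg.GU 3 F q ⊓ Cfsg.Geo.specialLinear (Fin 3) F

theorem mem_suG {g : G3} : g ∈ suG F q ↔
    (∀ u v, Cfsg.hermForm 3 F q ((g : M3) *ᵥ u) ((g : M3) *ᵥ v) = Cfsg.hermForm 3 F q u v) ∧ (g : M3).det = 1 :=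
  ⟨fun h => ⟨h.1, congrArg Units.val h.2⟩, fun h => ⟨h.1, Units.ext h.2⟩⟩

omit [Fintype F] in
theorem isField_sub {K : Subalgebra F M3} (hK : IsFieldSubalgebra 3 K) : ∀ x ∈ K, ∀ y ∈ K, x * y = 0 → x = 0 ∨ y = 0 :=
  fun x hx y hy h => by
    by_cases hx0 : x = 0
    · exact Or.inl hx0
    obtain ⟨z, hz, hxz⟩ := hK.inv x hx hx0
    refine Or.inr ?_
    rw [← one_mul y, ← hxz, hK.comm x hx z hz, mul_assoc, h, mul_zero]

/-- a nonscalar element of the field has the field as commutant -/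
theorem mem_of_commute {K : Subalgebra F M3} (hK : IsFieldSubalgebra 3 K) {x : M3} (hx : x ∈ K)
    (hns : ∀ c : F, x ≠ c • 1) {y : M3} (hxy : y * x = x * y) : y ∈ K := by
  letI : CommRing K := { (inferInstance : Ring K) with mul_comm := fun a b => Subtype.ext (hK.comm _ a.2 _ b.2) }
  have hf : IsField K := ⟨⟨0, 1, fun h => zero_ne_one (congrArg Subtype.val h)⟩, mul_comm, fun {a} ha => by
    obtain ⟨b, hb, hab⟩ := hK.inv _ a.2 (fun h => ha (Subtype.ext h))
    exact ⟨⟨b, hb⟩, Subtype.ext hab⟩⟩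
  letI : Field K := hf.toField
  -- `y` commutes with the whole field
  let S : Subalgebra F K :=
    { carrier := {k | y * (k : M3) = (k : M3) * y}
      mul_mem' := fun {a b} ha hb => by
        simp only [Set.mem_setOf_eq, MulMemClass.coe_mul] at *
        rw [← mul_assoc, ha, mul_assoc, hb, ← mul_assoc]
      add_mem' := fun {a b} ha hb => by
        simp only [Set.mem_setOf_eq, AddMemClass.coe_add] at *
        rw [mul_add, add_mul, ha, hb]
      algebraMap_mem' := fun c => by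
        show y * algebraMap F M3 c = algebraMap F M3 c * y
        exact (Algebra.commutes c y).symm }
  have htop : IntermediateField.adjoin F ({(⟨x, hx⟩ : K)} : Set K) = ⊤ := by
    have hpr : Nat.Prime (Module.finrank F K) := by rw [hK.finrank_eq]; exact Nat.prime_three
    haveI := IntermediateField.isSimpleOrder_of_finrank_prime F K hpr
    refine (IsSimpleOrder.eq_bot_or_eq_top _).resolve_left fun h => ?_
    rw [IntermediateField.adjoin_simple_eq_bot_iff, IntermediateField.mem_bot] at h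
    obtain ⟨c, hc⟩ := h
    refine hns c ?_
    rw [← Algebra.algebraMap_eq_smul_one]
    exact (congrArg Subtype.val hc).symm
  have hall : ∀ k : K, k ∈ S := fun k => by
    have hk : k ∈ Algebra.adjoin F ({(⟨x, hx⟩ : K)} : Set K) := by
      rw [← IntermediateField.adjoin_simple_toSubalgebra_of_isAlgebraic (Algebra.IsAlgebraic.isAlgebraic _), htop]
      exact trivial
    exact Algebra.adjoin_le (show ({(⟨x, hx⟩ : K)} : Set K) ⊆ S from Set.singleton_subset_iff.2 hxy) hk
  -- so it is multiplication by an element of the field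
  let v : Fin 3 → F := Pi.single 0 1
  have hv : v ≠ 0 := fun h => by simpa [v] using congrFun h 0
  let L : K →ₗ[F] (Fin 3 → F) :=
    { toFun := fun k => (k : M3) *ᵥ v
      map_add' := fun a b => Matrix.add_mulVec ..
      map_smul' := fun c a => Matrix.smul_mulVec .. }
  have hinj : Function.Injective L := (injective_iff_map_eq_zero L).2 fun k hk => by
    by_contra h0
    obtain ⟨z, hz, hkz⟩ := hK.inv _ k.2 fun h => h0 (Subtype.ext h)
    refine hv ?_
    rw [← one_mulVec v, ← hkz, hK.comm _ k.2 _ hz, ← mulVec_mulVec, show (k : M3) *ᵥ v = 0 from hk, mulVec_zero]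
  have hsurj : Function.Surjective L :=
    (LinearMap.injective_iff_surjective_of_finrank_eq_finrank (by rw [hK.finrank_eq]; simp)).1 hinj
  obtain ⟨k, hk⟩ := hsurj (y *ᵥ v)
  have hyk : y = (k : M3) := by
    refine Matrix.ext_iff_mulVec.2 fun w => ?_
    obtain ⟨l, rfl⟩ := hsurj w
    show y *ᵥ ((l : M3) *ᵥ v) = (k : M3) *ᵥ ((l : M3) *ᵥ v)
    rw [mulVec_mulVec, mulVec_mulVec, show y * (l : M3) = (l : M3) * y from hall l, ← mulVec_mulVec,
      show y *ᵥ v = (k : M3) *ᵥ v from hk.symm, mulVec_mulVec, hK.comm _ l.2 _ k.2]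
  exact hyk ▸ k.2

/-- the data of the Singer group -/
structure Sing (q : ℕ) (K : Subalgebra F M3) : Prop where
  card : Fintype.card F = q ^ 2
  field : IsFieldSubalgebra 3 K
  adj : IsAdjointClosedFor (Cfsg.hermForm 3 F q) K

variable {K : Subalgebra F (Matrix (Fin 3) (Fin 3) F)}

theorem Sing.two_le (D : Sing q K) : 2 ≤ q := by
  have := Fintype.one_lt_card (α := F)
  rw [D.card] at this
  rcases q with _ | _ | q <;> simp_all

/-- the adjoint on the field is the power `q³`, and automorphisms fixing scalars have order dividing three -/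
theorem Sing.frob (D : Sing q K) : (∀ k ∈ K, k ^ q ^ 6 = k) ∧
    (∀ k ∈ K, ∀ u v : Fin 3 → F,
      Cfsg.hermForm 3 F q (k *ᵥ u) v = Cfsg.hermForm 3 F q u ((k ^ q ^ 3) *ᵥ v)) ∧
    ∀ g ∈ subalgebraNormalizer K, ∃ i < 3, ∀ k ∈ K,
      (g : M3) * k * ((g⁻¹ : G3) : M3) = k ^ (q ^ 2) ^ i := by
  classical
  obtain ⟨C⟩ := Unit.ctx_of_card D.card
  have hf := Unit.isUnitary_hermForm C (n := 3)
  obtain ⟨p, b, hp, hchar, hcard, hb⟩ := exists_char_card (F := F)
  haveI := hchar
  haveI : Fact p.Prime := ⟨hp⟩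
  obtain ⟨a, -, rfl⟩ : ∃ a ≤ b, q = p ^ a :=
    (Nat.dvd_prime_pow hp).1 (hcard ▸ D.card ▸ dvd_pow_self q two_ne_zero)
  have hb2 : b = 2 * a := Nat.pow_right_injective hp.two_le (by
    show p ^ b = p ^ (2 * a)
    rw [← hcard, D.card, ← pow_mul, mul_comm])
  subst hb2
  have ha : 0 < a := by omega
  obtain ⟨hfix, hfrob⟩ := fieldSubalgebra_frob D.field hcard
  have hbar : ∀ x : F, C.bar x = x ^ p ^ a := C.bar_eq
  have hexp : ∀ i : ℕ, (p ^ a) ^ i = p ^ (a * i) := fun i => (pow_mul p a i).symm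
  refine ⟨by rw [hexp]; exact (hfix _).2 ⟨1, by ring⟩, ?_, ?_⟩
  · let φ : M3 → M3 := fun k => kᵀ.map C.bar
    have hφf : ∀ (k : M3) u v, Cfsg.hermForm 3 F (p ^ a) (k *ᵥ u) v = Cfsg.hermForm 3 F (p ^ a) u (φ k *ᵥ v) := by
      intro k u v
      simp only [Cfsg.hermForm, φ, Matrix.mulVec, dotProduct, Fin.sum_univ_three, ← hbar, map_add, map_mul,
        Matrix.map_apply, Matrix.transpose_apply, C.bar_bar]
      ring
    have hmem : ∀ k ∈ K, φ k ∈ K := fun k hk => by
      obtain ⟨k', hk', h⟩ := D.adj k hk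
      have : φ k = k' := Matrix.ext_iff_mulVec.2 fun v => eq_of_herm hf fun u => by rw [← hφf, h]
      exact this ▸ hk'
    have hφ1 : φ 1 = 1 := by simp [φ, Matrix.map_one]
    obtain ⟨i, hi⟩ := hfrob φ hmem hφ1 (fun x _ y _ => by
        show (x + y)ᵀ.map C.bar = _
        rw [transpose_add, Matrix.map_add _ (fun r s => map_add C.bar r s)])
      (fun x hx y hy => by
        rw [D.field.comm x hx y hy]
        show (y * x)ᵀ.map C.bar = _
        rw [transpose_mul, Matrix.map_mul])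
    have hφφ : ∀ k, φ (φ k) = k := fun k => by
      ext r s
      simp [φ, C.bar_bar]
    have h2i : 2 * a * 3 ∣ i + i := (hfix _).1 fun x hx => by
      rw [pow_add, pow_mul, ← hi x hx, ← hi _ (hmem x hx), hφφ]
    obtain ⟨t, ht⟩ : ∃ t, i = a * 3 * t := by
      obtain ⟨t, ht⟩ := h2i
      refine ⟨t, ?_⟩
      have : 2 * i = 2 * (a * 3 * t) := by rw [two_mul, ht]; ring
      omega
    have hodd : ¬ Even t := by
      rintro ⟨j, rfl⟩
      obtain ⟨y, hy⟩ := C.exists_not_fixed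
      have h := hi _ (K.smul_mem K.one_mem y)
      have h' := congrFun (congrFun h 0) 0
      rw [smul_pow, one_pow] at h'
      simp only [φ, transpose_smul, transpose_one, Matrix.map_apply, Matrix.smul_apply, Matrix.one_apply_eq,
        smul_eq_mul, mul_one] at h'
      refine hy (h'.trans ?_)
      rw [ht, show a * 3 * (j + j) = 2 * a * (3 * j) by ring, pow_mul, ← hcard]
      exact FiniteField.pow_card_pow _ _
    intro k hk u v
    rw [hφf, hexp, hi k hk]
    congr 2
    obtain ⟨r, rfl⟩ := Nat.not_even_iff_odd.1 hodd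
    rw [ht, show a * 3 * (2 * r + 1) = a * 3 + 2 * a * 3 * r by ring, pow_add, pow_mul]
    exact (hfix _).2 ⟨r, rfl⟩ _ (K.pow_mem hk _)
  · intro g hg
    obtain ⟨i, hi⟩ := hfrob (cj g) (fun x hx => (hg x).1 hx) (cj_one g) (fun x _ y _ => cj_add g x y)
      (fun x _ y _ => cj_mul g x y)
    have hdiv : 2 * a ∣ i := (pow_fix_iff_field hcard i).1 fun c => by
      have h := hi _ (K.smul_mem K.one_mem c)
      rw [cj_smul, cj_one, smul_pow, one_pow] at h
      have h' := congrFun (congrFun h 0) 0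
      simp only [Matrix.smul_apply, Matrix.one_apply_eq, smul_eq_mul, mul_one] at h'
      exact h'.symm
    obtain ⟨j, rfl⟩ := hdiv
    refine ⟨j % 3, Nat.mod_lt _ (by norm_num), fun k hk => ?_⟩
    rw [show (g : M3) * k * ((g⁻¹ : G3) : M3) = cj g k from rfl, hi k hk, hexp, ← pow_mul p (a * 2)]
    conv_lhs => rw [← Nat.mod_add_div j 3]
    rw [mul_add, pow_add, pow_mul, show 2 * a * (3 * (j / 3)) = 2 * a * 3 * (j / 3) by ring,
      (hfix _).2 ⟨j / 3, rfl⟩ _ (K.pow_mem hk _), show a * 2 * (j % 3) = 2 * a * (j % 3) by ring]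

/-- the elements of the special unitary group in the field -/
def cyc (K : Subalgebra F M3) (q : ℕ) : Subgroup G3 where
  carrier := {g | ((g : M3) ∈ K ∧ ((g⁻¹ : G3) : M3) ∈ K) ∧ g ∈ suG F q}
  mul_mem' := fun {a b} ha hb => ⟨⟨K.mul_mem ha.1.1 hb.1.1, by rw [_root_.mul_inv_rev]; exact K.mul_mem hb.1.2 ha.1.2⟩,
    mul_mem ha.2 hb.2⟩
  one_mem' := ⟨⟨K.one_mem, by rw [inv_one]; exact K.one_mem⟩, one_mem _⟩
  inv_mem' := fun {a} ha => ⟨⟨ha.1.2, by rw [inv_inv]; exact ha.1.1⟩, inv_mem ha.2⟩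

omit [Fintype F] in
theorem inv_mem_field (hK : IsFieldSubalgebra 3 K) {g : G3} (hg : (g : M3) ∈ K) : ((g⁻¹ : G3) : M3) ∈ K := by
  obtain ⟨z, hz, h⟩ := hK.inv _ hg g.isUnit.ne_zero
  have : ((g⁻¹ : G3) : M3) = z := by
    rw [← mul_one ((g⁻¹ : G3) : M3), ← h, ← mul_assoc, Units.inv_mul, one_mul]
  exact this ▸ hz

theorem Sing.mem_cyc (D : Sing q K) {g : G3} :
    g ∈ cyc K q ↔ (g : M3) ∈ K ∧ g ^ (q ^ 2 - q + 1) = 1 := by
  obtain ⟨C⟩ := Unit.ctx_of_card D.card
  have hf := Unit.isUnitary_hermForm C (n := 3)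
  obtain ⟨-, hadj, -⟩ := D.frob
  obtain ⟨-, -, -, hdet⟩ := CfsgLib.Perm.Asch.U3.field_facts D.field D.card
  obtain ⟨n, hn⟩ : ∃ n, n = q ^ 2 - q + 1 := ⟨_, rfl⟩
  have hq : q ≤ q ^ 2 := Nat.le_self_pow two_ne_zero q
  have hn' : n + q = q ^ 2 + 1 := by omega
  have e3 : (q + 1) * n = q ^ 3 + 1 := by
    have : (q + 1) * (n + q) = q ^ 3 + 1 + (q + 1) * q := by rw [hn']; ring
    rw [mul_add] at this
    omega
  have e4 : (q ^ 2 + q + 1) * n = 1 + q ^ 2 + q ^ 2 * q ^ 2 := by
    have : (q ^ 2 + q + 1) * (n + q) = 1 + q ^ 2 + q ^ 2 * q ^ 2 + (q ^ 2 + q + 1) * q := by rw [hn']; ring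
    rw [mul_add] at this
    omega
  rw [← hn]
  constructor
  · rintro ⟨⟨hgK, -⟩, hgG⟩
    refine ⟨hgK, ?_⟩
    rw [mem_suG] at hgG
    have h3 : g ^ (q ^ 3 + 1) = 1 := Units.ext (by
      rw [Units.val_pow_eq_pow_val, Units.val_one, pow_succ]
      refine Matrix.ext_iff_mulVec.2 fun v => eq_of_herm hf fun u => ?_
      rw [← mulVec_mulVec, ← hadj _ hgK, hgG.1, one_mulVec])
    have h4 : g ^ (1 + q ^ 2 + q ^ 2 * q ^ 2) = 1 := Units.ext (by
      rw [Units.val_pow_eq_pow_val, Units.val_one, hdet _ hgK, hgG.2, one_smul])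
    have h5 : g ^ (q * (q ^ 3 + 1) + n) = g ^ (1 + q ^ 2 + q ^ 2 * q ^ 2) := congrArg _ (by
      rw [← e3, ← e4]; ring)
    rwa [pow_add, pow_mul', h3, one_pow, one_mul, h4] at h5
  · rintro ⟨hgK, hgn⟩
    refine ⟨⟨hgK, inv_mem_field D.field hgK⟩, mem_suG.2 ⟨fun u v => ?_, ?_⟩⟩
    · rw [hadj _ hgK, mulVec_mulVec, ← Units.val_pow_eq_pow_val, ← Units.val_mul, ← pow_succ, ← e3, mul_comm,
        pow_mul, hgn, one_pow, Units.val_one, one_mulVec]
    · have h := hdet _ hgK
      rw [← Units.val_pow_eq_pow_val, ← e4, mul_comm, pow_mul, hgn, one_pow, Units.val_one] at h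
      have h' := congrFun (congrFun h 0) 0
      simpa using h'.symm

omit [Fintype F] in
/-- the units of the field -/
def fieldUnits (K : Subalgebra F M3) : Kˣ →* G3 := Units.map K.val.toRingHom.toMonoidHom

/-- the order of the group, and the number of its elements killed by a divisor -/
theorem Sing.card_cyc (D : Sing q K) : Nat.card (cyc K q) = q ^ 2 - q + 1 ∧
    ∀ d, 0 < d → d ∣ q ^ 2 - q + 1 → ∀ S : Subgroup G3, S ≤ cyc K q → (∀ g ∈ S, g ^ d = 1) → Nat.card S ∣ d := by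
  letI : CommRing K := { (inferInstance : Ring K) with mul_comm := fun a b => Subtype.ext (D.field.comm _ a.2 _ b.2) }
  have hf : IsField K := ⟨⟨0, 1, fun h => zero_ne_one (congrArg Subtype.val h)⟩, mul_comm, fun {a} ha => by
    obtain ⟨b, hb, hab⟩ := D.field.inv _ a.2 (fun h => ha (Subtype.ext h))
    exact ⟨⟨b, hb⟩, Subtype.ext hab⟩⟩
  letI : Field K := hf.toField
  have hcard : Nat.card K = (q ^ 2) ^ 3 := by
    rw [Module.natCard_eq_pow_finrank (K := F), Nat.card_eq_fintype_card, D.card, D.field.finrank_eq]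
  haveI : Finite K := Nat.finite_of_card_ne_zero (by
    rw [hcard]; have := D.two_le; positivity)
  letI : Fintype K := Fintype.ofFinite K
  have hu : Nat.card Kˣ = (q ^ 2) ^ 3 - 1 := by rw [Nat.card_units, hcard]
  let ψ : Kˣ →* G3 := Units.map (K.val : K →ₐ[F] M3).toRingHom.toMonoidHom
  have hψ : Function.Injective ψ := Units.map_injective fun a b h => Subtype.ext h
  have hlift : ∀ g : G3, (g : M3) ∈ K → ∃ u : Kˣ, ψ u = g := fun g hg =>
    ⟨⟨⟨_, hg⟩, ⟨_, inv_mem_field D.field hg⟩, Subtype.ext g.mul_inv, Subtype.ext g.inv_mul⟩, Units.ext rfl⟩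
  obtain ⟨n, hn⟩ : ∃ n, n = q ^ 2 - q + 1 := ⟨_, rfl⟩
  have hndvd : n ∣ (q ^ 2) ^ 3 - 1 := by
    have hq : q ≤ q ^ 2 := Nat.le_self_pow two_ne_zero q
    have hn' : n + q = q ^ 2 + 1 := by omega
    have e3 : (q + 1) * n = q ^ 3 + 1 := by
      have : (q + 1) * (n + q) = q ^ 3 + 1 + (q + 1) * q := by rw [hn']; ring
      rw [mul_add] at this
      omega
    refine ⟨(q + 1) * (q ^ 3 - 1), ?_⟩
    rw [← mul_assoc, mul_comm n, e3, ← pow_mul, show 2 * 3 = 3 * 2 from rfl, pow_mul, ← Nat.sq_sub_sq, one_pow]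
  have hker : ∀ d, d ∣ n → Nat.card (((powMonoidHom d : Kˣ →* Kˣ).ker).map ψ) = d := fun d hd => by
    rw [Subgroup.card_map_of_injective hψ, IsCyclic.card_powMonoidHom_ker, hu,
      Nat.gcd_eq_right (hd.trans hndvd)]
  have hmem : ∀ d, ∀ g : G3, (g : M3) ∈ K → g ^ d = 1 → g ∈ ((powMonoidHom d : Kˣ →* Kˣ).ker).map ψ := fun d g hg h => by
    obtain ⟨u, rfl⟩ := hlift g hg
    exact ⟨u, hψ (by rw [powMonoidHom_apply, map_pow, h, map_one]), rfl⟩
  rw [← hn]
  refine ⟨?_, fun d _ hd S hS hSd => ?_⟩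
  · have heq : cyc K q = ((powMonoidHom n : Kˣ →* Kˣ).ker).map ψ := by
      refine le_antisymm (fun g hg => ?_) ?_
      · rw [D.mem_cyc, ← hn] at hg
        exact hmem n g hg.1 hg.2
      · rintro _ ⟨u, hu', rfl⟩
        rw [D.mem_cyc, ← hn]
        refine ⟨(u : K).2, ?_⟩
        rw [← map_pow, show u ^ n = 1 from hu', map_one]
    rw [heq, hker n dvd_rfl]
  · rw [← hker d hd]
    exact Subgroup.card_dvd_of_le fun g hg => hmem d g (hS hg).1.1 (hSd g hg)

end CfsgLib.Perm.Trans.UnitThree
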