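import Cfsg.Agent.Lib.Perm.Trans.UnitThree.SingerIndex
import Cfsg.Agent.Lib.Perm.Trans.UnitThree.EvenTv

/-!
# Normalisers of Singer groups in unitary groups of dimension three are maximal
-/

set_option autoImplicit false
set_option linter.all false

namespace CfsgLib.Perm.Trans.UnitThree

open scoped Matrix
open Matrix Cfsg Cfsg.Geo CfsgLib.Perm.Asch CfsgLib.Perm.Trans

variable {F : Type*} [Field F] [Fintype F] {q : ℕ} {K : Subalgebra F (Matrix (Fin 3) (Fin 3) F)}

local notation "M3" => Matrix (Fin 3) (Fin 3) F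
local notation "G3" => GL (Fin 3) F
local notation "V3" => Fin 3 → F

omit [Fintype F] in
/-- a subalgebra with a nonscalar element of the field contains the field -/
theorem le_of_nonscalar (hK : IsFieldSubalgebra 3 K) {x : M3} (hx : x ∈ K) (hns : ∀ c : F, x ≠ c • 1)
    {A : Subalgebra F M3} (hxA : x ∈ A) : K ≤ A := by
  letI : CommRing K := { (inferInstance : Ring K) with mul_comm := fun a b => Subtype.ext (hK.comm _ a.2 _ b.2) }
  have hf : IsField K := ⟨⟨0, 1, fun h => zero_ne_one (congrArg Subtype.val h)⟩, mul_comm, fun {a} ha => by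
    obtain ⟨b, hb, hab⟩ := hK.inv _ a.2 (fun h => ha (Subtype.ext h))
    exact ⟨⟨b, hb⟩, Subtype.ext hab⟩⟩
  letI : Field K := hf.toField
  have htop : IntermediateField.adjoin F ({(⟨x, hx⟩ : K)} : Set K) = ⊤ := by
    have hpr : Nat.Prime (Module.finrank F K) := by rw [hK.finrank_eq]; exact Nat.prime_three
    haveI := IntermediateField.isSimpleOrder_of_finrank_prime F K hpr
    refine (IsSimpleOrder.eq_bot_or_eq_top _).resolve_left fun h => ?_
    rw [IntermediateField.adjoin_simple_eq_bot_iff, IntermediateField.mem_bot] at h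
    obtain ⟨c, hc⟩ := h
    refine hns c ?_
    rw [← Algebra.algebraMap_eq_smul_one]
    exact (congrArg Subtype.val hc).symm
  haveI : FiniteDimensional F K := Module.finite_of_finrank_eq_succ hK.finrank_eq
  intro k hk
  have hk' : (⟨k, hk⟩ : K) ∈ Algebra.adjoin F ({(⟨x, hx⟩ : K)} : Set K) := by
    rw [← IntermediateField.adjoin_simple_toSubalgebra_of_isAlgebraic (Algebra.IsAlgebraic.isAlgebraic _), htop]
    exact trivial
  exact Algebra.adjoin_le (S := A.comap K.val)
    (show ({(⟨x, hx⟩ : K)} : Set K) ⊆ A.comap K.val from Set.singleton_subset_iff.2 hxA) hk'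

/-- the Singer group is irreducible -/
theorem Sing.irreducible (D : Sing q K) (hq : 3 ≤ q) (W : Submodule F V3)
    (hW : ∀ g ∈ cyc K q, ∀ w ∈ W, (g : M3) *ᵥ w ∈ W) : W = ⊥ ∨ W = ⊤ := by
  refine or_iff_not_imp_left.2 fun hne => ?_
  obtain ⟨w, hw, hw0⟩ := Submodule.exists_mem_ne_zero_of_ne_bot hne
  obtain ⟨x, hx, hns⟩ : ∃ x ∈ cyc K q, ∀ c : F, (x : M3) ≠ c • 1 := by
    by_contra hcon
    push Not at hcon
    have h := D.stab_dvd le_rfl fun x hx => by
      obtain ⟨c, hc⟩ := hcon x hx
      exact ⟨c ^ 3, by rw [Units.val_pow_eq_pow_val, hc, smul_pow, one_pow]⟩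
    rw [D.card_cyc.1] at h
    have := Nat.le_of_dvd (Nat.gcd_pos_of_pos_left _ (by norm_num)) h
    have := Nat.le_of_dvd (by norm_num) (Nat.gcd_dvd_left 3 (q + 1))
    have : 3 * q ≤ q * q := Nat.mul_le_mul_right q hq
    rw [← sq] at this
    omega
  let A : Subalgebra F M3 :=
    { carrier := {m | ∀ v ∈ W, m *ᵥ v ∈ W}
      mul_mem' := fun {a b} ha hb v hv => by rw [← mulVec_mulVec]; exact ha _ (hb v hv)
      add_mem' := fun {a b} ha hb v hv => by rw [add_mulVec]; exact W.add_mem (ha v hv) (hb v hv)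
      algebraMap_mem' := fun c v hv => by
        rw [Algebra.algebraMap_eq_smul_one, smul_mulVec, one_mulVec]
        exact W.smul_mem c hv }
  have hKA := le_of_nonscalar D.field hx.1.1 hns (A := A) (hW x hx)
  let L : K →ₗ[F] V3 :=
    { toFun := fun k => (k : M3) *ᵥ w
      map_add' := fun a b => Matrix.add_mulVec ..
      map_smul' := fun c a => Matrix.smul_mulVec .. }
  have hinj : Function.Injective L := (injective_iff_map_eq_zero L).2 fun k hk => by
    by_contra h0
    obtain ⟨z, hz, hkz⟩ := D.field.inv _ k.2 fun h => h0 (Subtype.ext h)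
    refine hw0 ?_
    rw [← one_mulVec w, ← hkz, D.field.comm _ k.2 _ hz, ← mulVec_mulVec, show (k : M3) *ᵥ w = 0 from hk, mulVec_zero]
  haveI : FiniteDimensional F K := Module.finite_of_finrank_eq_succ D.field.finrank_eq
  have hsurj : Function.Surjective L :=
    (LinearMap.injective_iff_surjective_of_finrank_eq_finrank (by rw [D.field.finrank_eq]; simp)).1 hinj
  refine eq_top_iff.2 fun v _ => ?_
  obtain ⟨k, rfl⟩ := hsurj v
  exact hKA k.2 w hw

/-- normalisers of degree three field subalgebras -/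
theorem singer_maximal (hF : Fintype.card F = q ^ 2) (hq : 3 ≤ q) (hq3 : q ≠ 3) (hq5 : q ≠ 5)
    (hK : IsFieldSubalgebra 3 K) (hadj : IsAdjointClosedFor (Cfsg.hermForm 3 F q) K) :
    IsMaximalIn (suG F q) (subalgebraNormalizer K ⊓ suG F q) := by
  obtain ⟨C⟩ := Unit.ctx_of_card hF
  have hf := Unit.isUnitary_hermForm C (n := 3)
  have D : Sing q K := ⟨hF, hK, hadj⟩
  refine ⟨lt_of_le_of_ne inf_le_right fun e => ?_, fun M hKM hM => ?_⟩
  · have h1 : Nat.card (norK K q) = Nat.card (suG F q) := by rw [show norK K q = suG F q from e]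
    rw [← card_mul_relIndex' (cyc_le hK), D.card_cyc.1, card_suG hF] at h1
    have h2 := Nat.mul_le_mul (le_refl (q ^ 2 - q + 1)) D.relIndex_cyc_le
    rw [h1] at h2
    have h3 : 1 ≤ q ^ 2 - 1 := by
      have : 3 ^ 2 ≤ q ^ 2 := Nat.pow_le_pow_left hq 2
      omega
    have h4 : q ^ 3 * 1 ≤ q ^ 3 * ((q ^ 2 - 1) * (q ^ 3 + 1)) :=
      Nat.mul_le_mul_left _ (Nat.mul_pos (by omega) (Nat.succ_pos _))
    have h5 : 4 * q ^ 2 ≤ q ^ 3 := by
      rw [pow_succ q 2, mul_comm]
      exact Nat.mul_le_mul_left _ (by omega)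
    have h6 : q ≤ q ^ 2 := Nat.le_self_pow two_ne_zero q
    omega
  have hfull : (q = 4 ∨ q = 8) → 2 * q ∣ Nat.card M → M = suG F q := fun hq48 hdiv => by
    haveI : CharP F 2 := by
      obtain ⟨p, hp⟩ := CharP.exists F
      obtain ⟨c, hp', hc⟩ := FiniteField.card F p
      have : p = 2 := by
        have hd : p ∣ 2 ^ 6 := by
          have h0 : p ∣ Fintype.card F := hc ▸ dvd_pow_self p c.pos.ne'
          rcases hq48 with rfl | rfl <;> rw [hF] at h0
          · exact h0.trans (by norm_num)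
          · exact h0.trans (by norm_num)
        exact (Nat.prime_dvd_prime_iff_eq hp' Nat.prime_two).1 (hp'.dvd_of_dvd_pow hd)
      exact this ▸ hp
    exact le_antisymm hM (full_of_two_power hf hF C.bar_eq hq48 (fun g hg => (hM hg).1)
      (fun W hW => D.irreducible hq W fun g hg => hW g (hKM (cyc_le hK hg))) hdiv)
  have hne : ∀ m : ℕ, Nat.card M = m → M = suG F q → Nat.card (suG F q) = m := fun m hm e => e ▸ hm
  rcases D.overgroup_cases hq3 hq5 hq hKM hM with h | h | ⟨rfl, h⟩ | ⟨rfl, h⟩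
  · exact Or.inl h
  · exact Or.inr h
  · have := hne _ h (hfull (Or.inl rfl) (h ▸ by norm_num))
    rw [card_suG hF] at this
    norm_num at this
  · rcases h with h | h
    · have := hne _ h (hfull (Or.inr rfl) (h ▸ by norm_num))
      rw [card_suG hF] at this
      norm_num at this
    · have := hne _ h (hfull (Or.inr rfl) (h ▸ by norm_num))
      rw [card_suG hF] at this
      norm_num at this

end CfsgLib.Perm.Trans.UnitThree
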