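import Cfsg.Agent.Lib.Perm.Trans.UnitThree.MonoEight
import Cfsg.Agent.Lib.Perm.Trans.UnitThree.SingerIndex

/-!
# Normal three-subgroups of overgroups of the rational group over four elements

When `q` is two modulo three a Sylow three-subgroup of the special unitary group is monomial.  A normal
three-subgroup of an irreducible group with an element of order four, in characteristic two, has order dividing
twenty-seven and exponent three.
-/

set_option autoImplicit false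
set_option linter.all false

namespace CfsgLib.Perm.Trans.UnitThree

open scoped Matrix
open Matrix Cfsg Cfsg.Geo CfsgLib.Perm.Asch CfsgLib.Perm.Trans CfsgLib.Perm.Trans.Unit CfsgLib.Perm.LinDecomp
open CfsgLib.Perm.Trans.ThreeDim (Idx dg dg_prod exists_idx)

variable {F : Type*} [Field F] [Fintype F] {q : ℕ}

local notation "M3" => Matrix (Fin 3) (Fin 3) F
local notation "G3" => GL (Fin 3) F
local notation "V3" => Fin 3 → F

theorem perm_cube_cases : ∀ π : Equiv.Perm (Fin 3), π ^ 3 = 1 → π = 1 ∨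
    ∀ l, π l ≠ l ∧ π (π l) ≠ l ∧ π (π l) ≠ π l := by decide +kernel

omit [Fintype F] in
theorem mon_inj_perm {π π' : Equiv.Perm (Fin 3)} {d d' : Fin 3 → Fˣ} (h : (mon π d : G3) = mon π' d') : π = π' :=
  Equiv.ext fun l => by
    by_contra hne
    have h1 := congrArg (fun g : G3 => (g : M3) (π l) l) h
    simp only [mon_apply, if_pos rfl, if_neg hne] at h1
    exact (d l).ne_zero h1

/-- three-elements of monomial groups: off the torus they have cube one -/
theorem mono_three {x : G3} (hx : Mono x) (hdet : (x : M3).det = 1) {j : ℕ} (hj : x ^ 3 ^ j = 1) :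
    (∃ d, x = mon 1 d) ∨ x ^ 3 = 1 := by
  obtain ⟨π, d, rfl⟩ := hx
  obtain ⟨d', hd'⟩ := mon_pow_form π d (3 ^ j)
  rw [hd', ← mon_one] at hj
  have hπj : π ^ 3 ^ j = 1 := mon_inj_perm hj
  have hπ6 := perm_pow_six π
  have hπ3 : π ^ 3 = 1 := by
    have h1 : orderOf π ∣ 6 := orderOf_dvd_of_pow_eq_one hπ6
    obtain ⟨i, -, hi⟩ := (Nat.dvd_prime_pow Nat.prime_three).1 (orderOf_dvd_of_pow_eq_one hπj)
    rw [hi] at h1
    refine orderOf_dvd_iff_pow_eq_one.1 (hi ▸ ?_)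
    have : i ≤ 1 := by
      by_contra hlt
      have h9 : 3 ^ 2 ∣ 6 := (pow_dvd_pow 3 (by omega : 2 ≤ i)).trans h1
      norm_num at h9
    exact (pow_dvd_pow 3 this).trans (by norm_num)
  rcases perm_cube_cases π hπ3 with rfl | hc
  · exact Or.inl ⟨d, rfl⟩
  right
  have hs : Equiv.Perm.sign π = 1 := by
    have h3 := congrArg Equiv.Perm.sign hπ3
    rw [map_pow, map_one] at h3
    rcases Int.units_eq_one_or (Equiv.Perm.sign π) with e | e
    · exact e
    · rw [e] at h3; exact absurd h3 (by decide)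
  rw [det_mon, hs, Units.val_one, Int.cast_one, one_mul] at hdet
  rw [pow_succ, pow_two, mon_mul, mon_mul, show π * π * π = 1 by rw [← pow_two, ← pow_succ, hπ3], ← mon_one]
  congr 1
  funext l
  obtain ⟨h1, h2, h3⟩ := hc l
  rw [Idx.prod ⟨h3, h1, h2⟩ (fun k => (d k : F))] at hdet
  exact Units.ext (by simpa using hdet)

/-- a Sylow three-subgroup of monomial elements -/
theorem exists_mono_sylow (hF : Fintype.card F = q ^ 2) (hq : q % 3 = 2) :
    ∃ L : Sylow 3 (suG F q), ∀ x : suG F q, x ∈ (L : Subgroup (suG F q)) → Mono (x : G3) := by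
  classical
  haveI : Fact (Nat.Prime 3) := ⟨Nat.prime_three⟩
  obtain ⟨C⟩ := Unit.ctx_of_card (F := F) hF
  obtain ⟨σ, hσ, hfσ⟩ : ∃ σ : F ≃+* F, (∀ x, σ x = x ^ q) ∧ IsUnitaryForm σ (hermForm 3 F q) :=
    ⟨_, C.bar_eq, Unit.isUnitary_hermForm C (n := 3)⟩
  have S : Std q σ (hermForm 3 F q) := ⟨hfσ, fun u v => by simp [hermForm, hσ], hF, hσ⟩
  have hq1 := S.one_lt
  -- monomial elements of the group
  have hmon : ∀ (π : Equiv.Perm (Fin 3)) (d : Fin 3 → Fˣ), Equiv.Perm.sign π = 1 → (∀ k, d k ^ (q + 1) = 1) →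
      ∏ k, d k = 1 → (mon π d : G3) ∈ suG F q := by
    intro π d hπ hd hprod
    refine mem_suG.2 ⟨fun u v => ?_, ?_⟩
    · simp only [hermForm, mon_mulVec, mul_pow]
      rw [← Equiv.sum_comp π]
      refine Finset.sum_congr rfl fun k _ => ?_
      rw [Equiv.symm_apply_apply]
      have := congrArg Units.val (hd k)
      rw [pow_succ', Units.val_mul, Units.val_pow_eq_pow_val, Units.val_one] at this
      linear_combination (u k * v k ^ q) * this
    · rw [det_mon, hπ, Units.val_one, Int.cast_one, one_mul, ← Units.coe_prod, hprod, Units.val_one]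
  obtain ⟨k, hk⟩ : ∃ k, k = (q + 1).factorization 3 := ⟨_, rfl⟩
  have hk3 : 3 ^ k ∣ q + 1 := hk ▸ Nat.ordProj_dvd _ _
  -- the diagonal part
  let D : Subgroup (suG F q) :=
    { carrier := {g | ∃ d : Fin 3 → Fˣ, (g : G3) = mon 1 d ∧ ∀ i, d i ^ 3 ^ k = 1}
      one_mem' := ⟨fun _ => 1, by rw [mon_one]; rfl, fun i => one_pow _⟩
      mul_mem' := by
        rintro a b ⟨d, hd, hd'⟩ ⟨e, he, he'⟩
        refine ⟨fun l => d l * e l, ?_, fun i => by rw [mul_pow, hd', he', one_mul]⟩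
        rw [Subgroup.coe_mul, hd, he, mon_mul, mul_one]
        rfl
      inv_mem' := by
        rintro a ⟨d, hd, hd'⟩
        refine ⟨fun l => (d l)⁻¹, ?_, fun i => by rw [inv_pow, hd', inv_one]⟩
        rw [Subgroup.coe_inv, hd, inv_eq_of_mul_eq_one_right]
        rw [mon_mul, mul_one, ← mon_one]
        congr 1
        funext l
        simp }
  have hD3 : IsPGroup 3 D := fun ⟨g, d, hd, hd'⟩ => ⟨k, Subtype.ext (Subtype.ext (by
    show (g : G3) ^ 3 ^ k = 1
    rw [hd, mon_diag_pow, ← mon_one]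
    congr 1
    funext i
    exact hd' i))⟩
  have hDcard : 3 ^ (2 * k) ≤ Nat.card D := by
    have hK : Nat.card (powMonoidHom (3 ^ k) : Fˣ →* Fˣ).ker = 3 ^ k := by
      rw [IsCyclic.card_powMonoidHom_ker, Nat.card_units, Nat.card_eq_fintype_card, hF]
      exact Nat.gcd_eq_right (hk3.trans ⟨q - 1, by simpa using Nat.sq_sub_sq q 1⟩)
    have hpow : ∀ a : (powMonoidHom (3 ^ k) : Fˣ →* Fˣ).ker, (a : Fˣ) ^ (q + 1) = 1 ∧ (a : Fˣ) ^ 3 ^ k = 1 := fun a => by
      have h1 : (a : Fˣ) ^ 3 ^ k = 1 := a.2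
      obtain ⟨m, hm⟩ := hk3
      exact ⟨by rw [hm, pow_mul, h1, one_pow], h1⟩
    have hbase : Nat.card ((powMonoidHom (3 ^ k) : Fˣ →* Fˣ).ker × (powMonoidHom (3 ^ k) : Fˣ →* Fˣ).ker) = 3 ^ (2 * k) := by
      rw [Nat.card_prod, hK, ← pow_add, two_mul]
    rw [← hbase]
    refine Nat.card_le_card_of_injective (fun x => ⟨⟨mon 1 (dg (x.1 : Fˣ) (x.2 : Fˣ)), hmon 1 _ (map_one _) (fun i => ?_) ?_⟩,
      dg (x.1 : Fˣ) (x.2 : Fˣ), rfl, fun i => ?_⟩) ?_
    · fin_cases i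
      · exact (hpow x.1).1
      · exact (hpow x.2).1
      · show (((x.1 : Fˣ) * x.2)⁻¹) ^ (q + 1) = 1
        rw [inv_pow, mul_pow, (hpow x.1).1, (hpow x.2).1, one_mul, inv_one]
    · rw [Fin.prod_univ_three]
      exact mul_inv_cancel _
    · fin_cases i
      · exact (hpow x.1).2
      · exact (hpow x.2).2
      · show (((x.1 : Fˣ) * x.2)⁻¹) ^ 3 ^ k = 1
        rw [inv_pow, mul_pow, (hpow x.1).2, (hpow x.2).2, one_mul, inv_one]
    · rintro ⟨a, b⟩ ⟨a', b'⟩ h
      have h' := mon_d_inj (congrArg (fun g : D => ((g : suG F q) : G3)) h :)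
      exact Prod.ext (Subtype.ext (congrFun h' 0)) (Subtype.ext (congrFun h' 1))
  -- the cycle
  obtain ⟨π, hπ3, hπs, hπ0⟩ : ∃ π : Equiv.Perm (Fin 3), π ^ 3 = 1 ∧ Equiv.Perm.sign π = 1 ∧ π 0 ≠ 0 :=
    ⟨Equiv.swap 0 1 * Equiv.swap 1 2, by decide +kernel, by decide +kernel, by decide +kernel⟩
  obtain ⟨c, hc⟩ : ∃ c : suG F q, (c : G3) = mon π (fun _ => 1) :=
    ⟨⟨_, hmon π (fun _ => 1) hπs (fun _ => one_pow _) (by simp)⟩, rfl⟩
  have hnorm : Subgroup.zpowers c ≤ Subgroup.normalizer (D : Set (suG F q)) := by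
    refine Subgroup.zpowers_le.2 (Subgroup.mem_set_normalizer_iff.2 fun g => ?_)
    have hmv : ∀ (π : Equiv.Perm (Fin 3)) (x : suG F q), (x : G3) = mon π (fun _ => 1) → ∀ g, g ∈ D → x * g * x⁻¹ ∈ D := by
      rintro π x hx g ⟨d, hd, hd'⟩
      refine ⟨fun l => d (π⁻¹ l), ?_, fun i => hd' _⟩
      rw [Subgroup.coe_mul, Subgroup.coe_mul, Subgroup.coe_inv, hx, hd, mul_inv_eq_iff_eq_mul, mon_mul, mon_mul,
        one_mul, mul_one]
      congr 1
      funext l
      simp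
    refine ⟨fun hg => hmv π c hc g hg, fun hg => ?_⟩
    have hc' : ((c⁻¹ : suG F q) : G3) = mon π⁻¹ (fun _ => 1) := by
      rw [Subgroup.coe_inv, hc, inv_eq_of_mul_eq_one_right]
      rw [mon_mul, mul_inv_cancel, ← mon_one]
      congr 1
      funext l
      simp
    have h1 := hmv π⁻¹ c⁻¹ hc' _ hg
    rwa [inv_inv, show c⁻¹ * (c * g * c⁻¹) * c = g by group] at h1
  have hc3 : c ^ 3 = 1 := Subtype.ext (by
    rw [SubgroupClass.coe_pow, hc, Subgroup.coe_one, pow_succ, pow_two, mon_mul, mon_mul, ← pow_two, ← pow_succ, hπ3,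
      ← mon_one]
    simp)
  have hc3' : IsPGroup 3 (Subgroup.zpowers c) := fun ⟨x, hx⟩ => ⟨1, Subtype.ext (by
    obtain ⟨i, rfl⟩ := Subgroup.mem_zpowers_iff.1 hx
    show (c ^ i) ^ 3 ^ 1 = 1
    rw [pow_one, ← zpow_natCast, ← _root_.zpow_mul, mul_comm, _root_.zpow_mul, zpow_natCast, hc3, _root_.one_zpow])⟩
  obtain ⟨L, hL⟩ : ∃ L : Subgroup (suG F q), L = Subgroup.zpowers c ⊔ D := ⟨_, rfl⟩
  have hL3 : IsPGroup 3 L := hL ▸ IsPGroup.to_sup_of_normal_right' hc3' hD3 hnorm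
  have hLmono : ∀ x ∈ L, Mono ((x : suG F q) : G3) := by
    let MS : Subgroup (suG F q) :=
      { carrier := {x | Mono (x : G3)}
        one_mem' := ⟨1, fun _ => 1, by rw [mon_one]; rfl⟩
        mul_mem' := fun {a b} ha hb => by
          show Mono ((a * b : suG F q) : G3)
          rw [Subgroup.coe_mul]
          exact Mono.mul ha hb
        inv_mem' := fun {a} ha => by
          show Mono ((a⁻¹ : suG F q) : G3)
          rw [Subgroup.coe_inv]
          exact Mono.inv ha }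
    have : L ≤ MS := hL ▸ sup_le (Subgroup.zpowers_le.2 ⟨π, _, hc⟩) fun x ⟨d, hd, _⟩ => ⟨1, d, hd⟩
    exact fun x hx => this hx
  have hcard : 3 ^ (2 * k + 1) ≤ Nat.card L := by
    obtain ⟨i, hi⟩ := hL3.exists_card_eq
    have hlt : Nat.card D < Nat.card L := by
      have hle : D ≤ L := hL ▸ le_sup_right
      refine lt_of_le_of_ne (Nat.le_of_dvd Nat.card_pos (Subgroup.card_dvd_of_le hle)) fun e => ?_
      have hcD : c ∈ D := (Subgroup.eq_of_le_of_card_ge hle e.ge) ▸ hL ▸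
        (le_sup_left : Subgroup.zpowers c ≤ _) (Subgroup.mem_zpowers c)
      obtain ⟨d, hd, -⟩ := hcD
      exact hπ0 (by rw [mon_inj_perm (hc.symm.trans hd)]; rfl)
    obtain ⟨i', hi'⟩ := hD3.exists_card_eq
    rw [hi, hi'] at hlt
    rw [hi'] at hDcard
    rw [hi]
    exact Nat.pow_le_pow_right (by norm_num) (by
      have := (Nat.pow_lt_pow_iff_right (by norm_num : 1 < 3)).1 hlt
      have := (Nat.pow_le_pow_iff_right (by norm_num : 1 < 3)).1 hDcard
      omega)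
  -- the three-part of the order
  have hv : ¬ 3 ^ (2 * k + 2) ∣ Nat.card (suG F q) := by
    intro hd
    obtain ⟨n, hn⟩ := hk3
    have hn3 : ¬ 3 ∣ n := fun h3 => by
      have h1 := Nat.pow_succ_factorization_not_dvd (Nat.succ_ne_zero q) Nat.prime_three
      rw [← hk] at h1
      exact h1 (show 3 ^ (k + 1) ∣ q + 1 by rw [hn, pow_succ]; exact mul_dvd_mul_left _ h3)
    obtain ⟨X, hX, hX3⟩ : ∃ X, q ^ 2 - q + 1 = 3 * X ∧ ¬ 3 ∣ X := by
      obtain ⟨u, hu⟩ : ∃ u, q = 3 * u + 2 := ⟨q / 3, by omega⟩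
      refine ⟨3 * (u * u) + 3 * u + 1, ?_, by omega⟩
      have h1 : q ^ 2 = q + (3 * (3 * (u * u) + 3 * u + 1) - 1) := by
        subst hu
        have : (3 * u + 2) ^ 2 = 9 * (u * u) + 12 * u + 4 := by ring
        omega
      omega
    have hfac : (q ^ 2 - 1) * (q ^ 3 + 1) = (q + 1) ^ 2 * ((q - 1) * (q ^ 2 - q + 1)) := by
      have e1 : q ^ 2 - 1 = (q + 1) * (q - 1) := by simpa using Nat.sq_sub_sq q 1
      have e2 : q ^ 3 + 1 = (q + 1) * (q ^ 2 - q + 1) := by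
        have hqq : q ≤ q ^ 2 := Nat.le_self_pow two_ne_zero q
        have : (q + 1) * (q ^ 2 - q + 1) + (q + 1) * q = (q + 1) * (q ^ 2 + 1) := by rw [← mul_add]; congr 1; omega
        have e3 : (q + 1) * (q ^ 2 + 1) = q ^ 3 + 1 + (q + 1) * q := by ring
        omega
      rw [e1, e2]
      ring
    rw [card_suG hF, hfac, hn, hX] at hd
    have h2 : 3 ^ (2 * k + 1) * 3 ∣ 3 ^ (2 * k + 1) * (q ^ 3 * (n ^ 2 * ((q - 1) * X))) := by
      rw [← pow_succ]
      convert hd using 1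
      ring
    have h3 := Nat.dvd_of_mul_dvd_mul_left (pow_pos (by norm_num) _) h2
    rcases (Nat.Prime.dvd_mul Nat.prime_three).1 h3 with h | h
    · have := Nat.prime_three.dvd_of_dvd_pow h; omega
    rcases (Nat.Prime.dvd_mul Nat.prime_three).1 h with h | h
    · exact hn3 (Nat.prime_three.dvd_of_dvd_pow h)
    rcases (Nat.Prime.dvd_mul Nat.prime_three).1 h with h | h
    · omega
    · exact hX3 h
  refine ⟨Sylow.ofCard L ?_, fun x hx => hLmono x hx⟩
  obtain ⟨i, hi⟩ := hL3.exists_card_eq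
  have h1 : i ≤ (Nat.card (suG F q)).factorization 3 :=
    (Nat.prime_three.pow_dvd_iff_le_factorization Nat.card_pos.ne').1 (hi ▸ Subgroup.card_subgroup_dvd_card L)
  have h2 : (Nat.card (suG F q)).factorization 3 ≤ 2 * k + 1 := by
    by_contra hlt
    exact hv ((Nat.prime_three.pow_dvd_iff_le_factorization Nat.card_pos.ne').2 (by omega))
  rw [hi] at hcard
  have := (Nat.pow_le_pow_iff_right (by norm_num : 1 < 3)).1 hcard
  rw [hi]
  congr 1
  omega

/-- the group of a normal monomial three-group with a large element is monomial -/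
theorem mono_of_normal {M T : Subgroup G3}
    (hirr : ∀ W : Submodule F V3, (∀ g ∈ M, ∀ v ∈ W, (g : M3) *ᵥ v ∈ W) → W = ⊥ ∨ W = ⊤)
    (hnorm : ∀ g ∈ M, ∀ x ∈ T, g * x * g⁻¹ ∈ T) (hT : ∀ x ∈ T, (∃ d, x = mon 1 d) ∨ x ^ 3 = 1)
    (hdet : ∀ x ∈ T, (x : M3).det = 1) {x : G3} (hx : x ∈ T) (hx3 : x ^ 3 ≠ 1) : ∀ g ∈ M, Mono g := by
  classical
  obtain ⟨d, hd⟩ := (hT x hx).resolve_right hx3
  obtain ⟨c0, hc0⟩ : ∃ c0, ∀ r, r ≠ c0 → d r ≠ d c0 := by
    by_contra hcon
    push Not at hcon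
    obtain ⟨r0, n0, e0⟩ := hcon 0
    obtain ⟨r1, n1, e1⟩ := hcon 1
    obtain ⟨r2, n2, e2⟩ := hcon 2
    have hall : d 1 = d 0 ∧ d 2 = d 0 := by
      fin_cases r0 <;> fin_cases r1 <;> fin_cases r2 <;> simp_all
    have hp := hdet x hx
    rw [hd, det_mon, map_one, Units.val_one, Int.cast_one, one_mul, Fin.prod_univ_three, hall.1, hall.2,
      ← Units.val_mul, ← Units.val_mul, Units.val_eq_one] at hp
    refine hx3 ?_
    rw [hd, mon_diag_pow, ← mon_one]
    congr 1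
    funext i
    rw [pow_succ, pow_two]
    fin_cases i <;> simp_all
  have hcol : ∀ g ∈ M, ∃ m, ∀ s, s ≠ m → (g : M3) s c0 = 0 := by
    intro g hg
    have h1 := hnorm g hg x hx
    obtain ⟨d', hd'⟩ := (hT _ h1).resolve_right fun e => hx3 (by
      rw [conj_pow, mul_inv_eq_one, mul_eq_left] at e
      exact e)
    exact col_of_simple (d := d') (e := d) (by rw [← hd', ← hd, inv_mul_cancel_right]) hc0
  have hsingle : ∀ {g : G3} {c m : Fin 3}, (∀ s, s ≠ m → (g : M3) s c = 0) →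
      (g : M3) *ᵥ Pi.single c 1 = ((g : M3) m c) • Pi.single m 1 := fun {g c m} h => funext fun s => by
    rw [mulVec_single_col]
    by_cases hs : s = m
    · subst hs; simp
    · rw [h s hs, Pi.smul_apply, Pi.single_eq_of_ne hs, smul_zero]
  obtain ⟨S, hS⟩ : ∃ S : Set (Fin 3), S = {m | ∃ g ∈ M, ∃ a : F, a ≠ 0 ∧ (g : M3) *ᵥ Pi.single c0 1 = a • Pi.single m 1} :=
    ⟨_, rfl⟩
  have hstep : ∀ g ∈ M, ∀ m ∈ S, ∃ (a : F) (m' : Fin 3), m' ∈ S ∧ (g : M3) *ᵥ Pi.single m 1 = a • Pi.single m' 1 := by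
    intro g hg m hm
    rw [hS] at hm ⊢
    obtain ⟨g', hg', a, ha, hga⟩ := hm
    obtain ⟨m', hm'⟩ := hcol (g * g') (M.mul_mem hg hg')
    have h1 := hsingle hm'
    have hne : ((g * g' : G3) : M3) m' c0 ≠ 0 := fun h0 => by
      rw [h0, zero_smul, gl_mulVec_eq_zero] at h1
      simpa using congrFun h1 c0
    refine ⟨((g * g' : G3) : M3) m' c0 / a, m', ⟨g * g', M.mul_mem hg hg', _, hne, h1⟩, ?_⟩
    rw [gl_mul_mulVec, hga, mulVec_smul] at h1
    rw [div_eq_inv_mul, mul_smul, ← h1, smul_smul, inv_mul_cancel₀ ha, one_smul]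
  let W : Submodule F V3 :=
    { carrier := {v | ∀ m, m ∉ S → v m = 0}
      add_mem' := fun {u v} hu hv m hm => by simp [hu m hm, hv m hm]
      zero_mem' := fun m _ => rfl
      smul_mem' := fun a v hv m hm => by simp [hv m hm] }
  have hW : W = ⊤ := by
    refine (hirr W fun g hg v hv => ?_).resolve_left fun e => ?_
    · have e1 : v = ∑ m, v m • Pi.single m (1 : F) := by
        funext i; simp [Finset.sum_apply, Pi.single_apply]
      rw [e1, mulVec_sum]
      refine Submodule.sum_mem _ fun m _ => ?_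
      rw [mulVec_smul]
      by_cases hm : m ∈ S
      · obtain ⟨a, m', hm', h1⟩ := hstep g hg m hm
        refine W.smul_mem _ (h1 ▸ W.smul_mem _ fun i hi => Pi.single_eq_of_ne (fun e : i = m' => hi (by rw [e]; exact hm')) _)
      · rw [hv m hm, zero_smul]; exact W.zero_mem
    · have h0 : Pi.single c0 (1 : F) ∈ W := fun m hm => Pi.single_eq_of_ne (fun e => hm (by
        rw [hS, e]; exact ⟨1, M.one_mem, 1, one_ne_zero, by rw [Units.val_one, one_mulVec, one_smul]⟩)) _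
      rw [e, Submodule.mem_bot] at h0
      simpa using congrFun h0 c0
  have hall : ∀ m, m ∈ S := fun m => by
    by_contra hm
    have h0 : Pi.single m (1 : F) ∈ W := hW ▸ Submodule.mem_top
    simpa using h0 m hm
  intro g hg
  refine mono_of_cols fun c => ?_
  obtain ⟨a, m', -, h1⟩ := hstep g hg c (hall c)
  refine ⟨m', fun s hs => ?_⟩
  have := congrFun h1 s
  rw [mulVec_single_col, Pi.smul_apply, Pi.single_eq_of_ne hs, smul_zero] at this
  exact this

/-- monomial groups of exponent three and determinant one have at most twenty-seven elements -/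
theorem mono_exp_three_card {T' : Subgroup G3} (hmono : ∀ x ∈ T', Mono x) (hdet : ∀ x ∈ T', (x : M3).det = 1)
    (hexp : ∀ x ∈ T', x ^ 3 = 1) : Nat.card T' ≤ 27 := by
  classical
  have hperm : ∀ x : T', ∃ π, (∃ d, (x : G3) = mon π d) ∧ π ^ 3 = 1 := fun x => by
    obtain ⟨π, d, hd⟩ := hmono _ x.2
    obtain ⟨d', hd'⟩ := mon_pow_form π d 3
    have h1 := hexp _ x.2
    rw [hd, hd', ← mon_one] at h1
    exact ⟨π, ⟨d, hd⟩, mon_inj_perm h1⟩
  choose per hper hper3 using hperm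
  obtain ⟨φ, hφ⟩ : ∃ φ : T' →* Equiv.Perm (Fin 3), ∀ x, φ x = per x := by
    refine ⟨{ toFun := per, map_one' := ?_, map_mul' := fun x y => ?_ }, fun x => rfl⟩
    · obtain ⟨d, hd⟩ := hper 1
      exact mon_inj_perm (hd.symm.trans mon_one.symm)
    · obtain ⟨d, hd⟩ := hper x
      obtain ⟨e, he⟩ := hper y
      obtain ⟨p, hp⟩ := hper (x * y)
      refine mon_inj_perm (d' := fun l => d (per y l) * e l) (hp.symm.trans ?_)
      rw [Subgroup.coe_mul, hd, he, mon_mul]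
  have hrange : Nat.card φ.range ≤ 3 := by
    have hsub : ∀ π ∈ φ.range, π ^ 3 = 1 := by
      rintro _ ⟨x, rfl⟩
      rw [hφ]
      exact hper3 x
    refine (Nat.card_le_card_of_injective (fun π : φ.range => (⟨π.1, hsub _ π.2⟩ : {π : Equiv.Perm (Fin 3) // π ^ 3 = 1}))
      fun a b h => Subtype.ext (congrArg Subtype.val h :)).trans ?_
    rw [Nat.card_eq_fintype_card]
    decide +kernel
  obtain ⟨K3, hK3⟩ : ∃ K : Subgroup Fˣ, K = (powMonoidHom 3 : Fˣ →* Fˣ).ker := ⟨_, rfl⟩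
  have hK3card : Nat.card K3 ≤ 3 := by
    rw [hK3, IsCyclic.card_powMonoidHom_ker]
    exact Nat.le_of_dvd (by norm_num) (Nat.gcd_dvd_right _ _)
  have hker : Nat.card φ.ker ≤ 9 := by
    have hd : ∀ x : φ.ker, ∃ d : Fin 3 → Fˣ, ((x : T') : G3) = mon 1 d ∧ (∀ i, d i ∈ K3) ∧ d 0 * d 1 * d 2 = 1 := fun x => by
      obtain ⟨d, hd⟩ := hper x
      have h1 : per (x : T') = 1 := by rw [← hφ]; exact MonoidHom.mem_ker.1 x.2
      rw [h1] at hd
      have h3 := hexp _ (x : T').2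
      rw [hd, mon_diag_pow, ← mon_one] at h3
      have h4 := hdet _ (x : T').2
      rw [hd, det_mon, map_one, Units.val_one, Int.cast_one, one_mul, Fin.prod_univ_three, ← Units.val_mul,
        ← Units.val_mul, Units.val_eq_one] at h4
      exact ⟨d, hd, fun i => hK3 ▸ MonoidHom.mem_ker.2 (congrFun (mon_d_inj h3) i), h4⟩
    choose d hd hdK hdp using hd
    refine (Nat.card_le_card_of_injective (fun x => ((⟨d x 0, hdK x 0⟩ : K3), (⟨d x 1, hdK x 1⟩ : K3)))
      fun x y hxy => ?_).trans ?_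
    · have e0 : d x 0 = d y 0 := congrArg (fun p : K3 × K3 => (p.1 : Fˣ)) hxy
      have e1 : d x 1 = d y 1 := congrArg (fun p : K3 × K3 => (p.2 : Fˣ)) hxy
      have e2 : d x 2 = d y 2 := by
        rw [eq_inv_of_mul_eq_one_right (hdp x), eq_inv_of_mul_eq_one_right (hdp y), e0, e1]
      refine Subtype.ext (Subtype.ext ?_)
      rw [hd, hd]
      congr 1
      funext i
      fin_cases i <;> assumption
    · rw [Nat.card_prod]
      calc Nat.card K3 * Nat.card K3 ≤ 3 * 3 := Nat.mul_le_mul hK3card hK3card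
        _ = 9 := rfl
  have hle : Nat.card T' ≤ 27 := by
    rw [← Subgroup.card_mul_index φ.ker, Subgroup.index_ker]
    calc Nat.card φ.ker * Nat.card φ.range ≤ 9 * 3 := Nat.mul_le_mul hker hrange
      _ = 27 := rfl
  exact hle

/-- normal three-subgroups are small -/
theorem three_group_small [CharP F 2] (hF : Fintype.card F = q ^ 2) (hq : q % 3 = 2) {M : Subgroup G3}
    (hM : M ≤ suG F q) (hirr : ∀ W : Submodule F V3, (∀ g ∈ M, ∀ v ∈ W, (g : M3) *ᵥ v ∈ W) → W = ⊥ ∨ W = ⊤)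
    {g4 : G3} (hg4 : g4 ∈ M) (h4 : g4 ^ 4 = 1) (h2 : g4 ^ 2 ≠ 1)
    (T : Subgroup G3) (hTM : T ≤ M) (hT : IsPGroup 3 T) (hnorm : ∀ g ∈ M, ∀ x ∈ T, g * x * g⁻¹ ∈ T) :
    Nat.card T ∣ 27 ∧ ∀ x ∈ T, x ^ 3 = 1 := by
  classical
  haveI : Fact (Nat.Prime 3) := ⟨Nat.prime_three⟩
  obtain ⟨L, hL⟩ := exists_mono_sylow hF hq
  have hTG : T ≤ suG F q := hTM.trans hM
  obtain ⟨Q, hQ⟩ := (hT.of_injective (Subgroup.subgroupOfEquivOfLe hTG).toMonoidHom
    (MulEquiv.injective _) : IsPGroup 3 (T.subgroupOf (suG F q))).exists_le_sylow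
  obtain ⟨a, ha⟩ := MulAction.exists_smul_eq (suG F q) Q L
  obtain ⟨A, hA⟩ : ∃ A : G3, A = (a : G3) := ⟨_, rfl⟩
  obtain ⟨T', hT'⟩ : ∃ T' : Subgroup G3, T' = T.map (MulAut.conj A).toMonoidHom := ⟨_, rfl⟩
  obtain ⟨M', hM'⟩ : ∃ M' : Subgroup G3, M' = M.map (MulAut.conj A).toMonoidHom := ⟨_, rfl⟩
  have hmemT : ∀ x ∈ T, A * x * A⁻¹ ∈ suG F q ∧ Mono (A * x * A⁻¹) := fun x hx => by
    have h1 : (⟨x, hTG hx⟩ : suG F q) ∈ (Q : Subgroup (suG F q)) := hQ (Subgroup.mem_subgroupOf.2 hx)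
    have h2 : a * ⟨x, hTG hx⟩ * a⁻¹ ∈ (L : Subgroup (suG F q)) := by
      rw [← ha, Sylow.coe_subgroup_smul]
      exact Subgroup.smul_mem_pointwise_smul _ (MulAut.conj a) _ h1
    have h3 := hL _ h2
    have h4 := (a * ⟨x, hTG hx⟩ * a⁻¹ : suG F q).2
    simp only [Subgroup.coe_mul, Subgroup.coe_inv] at h3 h4
    rw [hA]
    exact ⟨h4, h3⟩
  have hdet' : ∀ x ∈ T', (x : M3).det = 1 := by
    rw [hT']
    rintro _ ⟨x, hx, rfl⟩
    exact (mem_suG.1 (hmemT x hx).1).2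
  have hTcase : ∀ x ∈ T', (∃ d, x = mon 1 d) ∨ x ^ 3 = 1 := fun x hx => by
    have hd := hdet' x hx
    rw [hT'] at hx
    obtain ⟨y, hy, rfl⟩ := hx
    obtain ⟨j, hj⟩ := hT ⟨y, hy⟩
    refine mono_three (hmemT y hy).2 hd (j := j) ?_
    have hj' : y ^ 3 ^ j = 1 := congrArg Subtype.val hj
    show (A * y * A⁻¹) ^ 3 ^ j = 1
    rw [conj_pow, hj', mul_one, mul_inv_cancel]
  have hexp : ∀ x ∈ T', x ^ 3 = 1 := by
    intro x hx
    by_contra hx3
    have hmono := mono_of_normal (M := M') (T := T') (fun W hW => ?_) ?_ hTcase hdet' hx hx3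
    · obtain ⟨π, d, hd⟩ := hmono (A * g4 * A⁻¹) (hM' ▸ ⟨g4, hg4, rfl⟩)
      have h1 : (mon π d : G3) ^ 4 = 1 := by rw [← hd, conj_pow, h4, mul_one, mul_inv_cancel]
      obtain ⟨d4, hd4⟩ := mon_pow_form π d 4
      rw [hd4, ← mon_one] at h1
      have hp4 := mon_inj_perm h1
      have hp2 : π ^ 2 = 1 := by
        have e6 := perm_pow_six π
        rwa [show 6 = 4 + 2 from rfl, pow_add, hp4, one_mul] at e6
      obtain ⟨d2, hd2⟩ := mon_pow_form π d 2
      rw [hp2] at hd2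
      have h3 : (mon 1 d2 : G3) ^ 2 = 1 := by
        rw [← hd2, ← pow_mul, ← hd, conj_pow, h4, mul_one, mul_inv_cancel]
      rw [mon_diag_pow, ← mon_one] at h3
      have hd21 : d2 = fun _ => 1 := funext fun i => by
        have := congrArg Units.val (congrFun (mon_d_inj h3) i)
        simp only [Units.val_pow_eq_pow_val, Units.val_one] at this
        refine Units.ext (CharTwo.add_eq_zero.1 ?_)
        have h' : ((d2 i : F) + 1) * ((d2 i : F) + 1) = 0 := by
          linear_combination this + ((d2 i : F) + 1) * (CharTwo.two_eq_zero : (2 : F) = 0)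
        simpa using h'
      refine h2 ?_
      rw [hd21, mon_one] at hd2
      rw [← hd, conj_pow, mul_inv_eq_one, mul_eq_left] at hd2
      exact hd2
    · -- irreducibility of the conjugate
      let W' : Submodule F V3 := W.comap (Matrix.toLin' (A : M3))
      have hW' : W' = ⊥ ∨ W' = ⊤ := hirr W' fun g hg v hv => by
        show (A : M3) *ᵥ ((g : M3) *ᵥ v) ∈ W
        have h1 := hW (A * g * A⁻¹) (hM' ▸ ⟨g, hg, rfl⟩) _ (show (A : M3) *ᵥ v ∈ W from hv)
        rwa [gl_mul_mulVec, gl_mul_mulVec, gl_inv_mulVec] at h1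
      rcases hW' with e | e
      · left
        refine eq_bot_iff.2 fun v hv => ?_
        have h1 : ((A⁻¹ : G3) : M3) *ᵥ v ∈ W' := by
          show (A : M3) *ᵥ (((A⁻¹ : G3) : M3) *ᵥ v) ∈ W
          rwa [gl_mulVec_inv]
        rw [e, Submodule.mem_bot, gl_mulVec_eq_zero] at h1
        exact (Submodule.mem_bot F).2 h1
      · right
        refine eq_top_iff.2 fun v _ => ?_
        have h1 : ((A⁻¹ : G3) : M3) *ᵥ v ∈ W' := e ▸ Submodule.mem_top
        have h2 : (A : M3) *ᵥ (((A⁻¹ : G3) : M3) *ᵥ v) ∈ W := h1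
        rwa [gl_mulVec_inv] at h2
    · rw [hM', hT']
      rintro _ ⟨g, hg, rfl⟩ _ ⟨y, hy, rfl⟩
      exact ⟨g * y * g⁻¹, hnorm g hg y hy, by simp [mul_assoc]⟩
  have hexpT : ∀ x ∈ T, x ^ 3 = 1 := fun x hx => by
    have h1 := hexp (A * x * A⁻¹) (hT' ▸ ⟨x, hx, rfl⟩)
    rw [conj_pow, mul_inv_eq_one, mul_eq_left] at h1
    exact h1
  refine ⟨?_, hexpT⟩
  have hle : Nat.card T' ≤ 27 := mono_exp_three_card (fun x hx => by
    rw [hT'] at hx
    obtain ⟨y, hy, rfl⟩ := hx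
    exact (hmemT y hy).2) hdet' hexp
  rw [hT', Subgroup.card_map_of_injective (MulEquiv.injective _)] at hle
  obtain ⟨i, hi⟩ := hT.exists_card_eq
  rw [hi] at hle
  rw [hi, show 27 = 3 ^ 3 from rfl]
  exact pow_dvd_pow 3 ((Nat.pow_le_pow_iff_right (by norm_num : 1 < 3)).1 hle)

end CfsgLib.Perm.Trans.UnitThree
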