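import Cfsg.Agent.Lib.Perm.Trans.UnitThree.SubfTwo

/-!
# The rational group over four elements: rationality of the norms

For a prime at least five an invariant Sylow subgroup is inverted, hence lies in the core, and is central in its
normaliser there; so the elements of three-power order of the core form a subgroup.  When that has order dividing
twenty-seven and exponent three an element of larger prime order inverted by the transvection would centralise
it and fix two different lines.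
-/

set_option autoImplicit false
set_option linter.all false

namespace CfsgLib.Perm.Trans.UnitThree.HSub

open scoped Matrix
open Matrix Cfsg.Geo CfsgLib.Perm.Asch CfsgLib.Perm.Trans CfsgLib.Perm.Trans.Unit CfsgLib.Perm.Trans.UnitThree
open CfsgLib.Perm.Trans.Subf (em lift em_add em_neg em_sub em_smul em_sum em_zero em_injective em_ne_zero exists_coords lift_em lift_mem ext_em)

attribute [local instance] CfsgLib.Perm.Trans.Unit.subfieldFintype

variable {F : Type*} [Field F] [Fintype F] [CharP F 2]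

local notation "M3" => Matrix (Fin 3) (Fin 3) F
local notation "G3" => GL (Fin 3) F
local notation "V3" => Fin 3 → F

variable {σ : F ≃+* F} {f : (Fin 3 → F) → (Fin 3 → F) → F} {F₀ : Subfield F} {P : GL (Fin 3) F} {r : ℕ}

omit [Fintype F] in
/-- powers of a diagonal-type shift: the cube of a product with norm one is trivial -/
theorem prod_cube (hf : IsUnitaryForm σ f) {u v : V3} (huu : f u u = 0) (hvv : f v v = 0) (huv : f u v = 1)
    {z z' : G3} (hz : Rt f u z) (hz' : Rt f v z') : (z * z') ^ 3 = 1 := by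
  have hvu : f v u = 1 := by rw [hf.herm, huv, map_one]
  have hu : ((z * z' : G3) : M3) *ᵥ u = v := by
    rw [prod_apply hf hz hz', huu, huv, hvu, one_smul, zero_add, one_mul, one_smul, add_comm u v, add_assoc,
      show u + u = 0 from funext fun i => CharTwo.add_self_eq_zero _, add_zero]
  have hv : ((z * z' : G3) : M3) *ᵥ v = v + u := by
    rw [prod_apply hf hz hz', hvv, hvu, zero_smul, zero_mul, add_zero, add_zero, one_smul]
  refine gl_ext_vec fun y => ?_
  simp only [pow_succ, pow_zero, one_mul, gl_mul_mulVec, Units.val_one, one_mulVec]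
  simp only [← gl_mul_mulVec z z', prod_apply hf hz hz' y, mulVec_add, mulVec_smul, hu, hv]
  match_scalars <;> ring_nf <;> simp [CharTwo.two_eq_zero, show (4 : F) = 0 by linear_combination 2 * (CharTwo.two_eq_zero : (2 : F) = 0)]

omit [Field F] [Fintype F] [CharP F 2] in
/-- elements of three-power order in a subgroup with normal complements -/
theorem three_elements_subgroup {G : Type*} [Group G] [Finite G] (K : Subgroup G) (hodd : ∀ x ∈ K, Odd (orderOf x))
    (hker : ∀ s : ℕ, s.Prime → 5 ≤ s → ∃ N : Subgroup K, ¬ s ∣ Nat.card N ∧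
      ∀ x : K, (∃ j : ℕ, x ^ 3 ^ j = 1) → x ∈ N) :
    ∃ T : Subgroup G, ∀ x, x ∈ T ↔ x ∈ K ∧ ∃ j : ℕ, x ^ 3 ^ j = 1 := by
  refine ⟨{ carrier := {x | x ∈ K ∧ ∃ j : ℕ, x ^ 3 ^ j = 1}
            one_mem' := ⟨K.one_mem, 0, one_pow _⟩
            inv_mem' := fun {x} ⟨hx, j, hj⟩ => ⟨K.inv_mem hx, j, by rw [inv_pow, hj, inv_one]⟩
            mul_mem' := ?_ }, fun x => Iff.rfl⟩
  rintro x y ⟨hx, j, hj⟩ ⟨hy, i, hi⟩
  refine ⟨K.mul_mem hx hy, (orderOf (x * y)).primeFactorsList.length, ?_⟩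
  have hkey : orderOf (x * y) = 3 ^ (orderOf (x * y)).primeFactorsList.length := by
    refine Nat.eq_prime_pow_of_unique_prime_dvd (orderOf_pos _).ne' fun {d} hd hdvd => ?_
    by_contra hd3
    have hd2 : d ≠ 2 := fun e1 => by
      have := hodd _ (K.mul_mem hx hy)
      rw [e1] at hdvd
      exact absurd (Nat.odd_iff.1 this) (by omega)
    have hd5 : 5 ≤ d := by
      by_contra hlt
      push Not at hlt
      interval_cases d <;> first | omega | (exact absurd hd (by decide))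
    obtain ⟨N, hN, hmem⟩ := hker d hd hd5
    have h1 := hmem ⟨x, hx⟩ ⟨j, Subtype.ext (by rw [SubgroupClass.coe_pow]; exact hj)⟩
    have h2 := hmem ⟨y, hy⟩ ⟨i, Subtype.ext (by rw [SubgroupClass.coe_pow]; exact hi)⟩
    have h3 := orderOf_dvd_natCard (⟨_, N.mul_mem h1 h2⟩ : N)
    rw [Subgroup.orderOf_mk] at h3
    refine hN (hdvd.trans ?_)
    rwa [show orderOf (⟨x, hx⟩ * ⟨y, hy⟩ : K) = orderOf (x * y) from
      (Subgroup.orderOf_coe (⟨x, hx⟩ * ⟨y, hy⟩ : K)).symm] at h3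
  rw [← hkey, pow_orderOf_eq_one]

variable (D : HermRat σ f F₀ P r) {M : Subgroup (GL (Fin 3) F)}
variable (hHM : subfieldSubgroup F₀ P ⊓ (isoU f ⊓ specialLinear (Fin 3) F) ≤ M)
variable (hM : M ≤ isoU f ⊓ specialLinear (Fin 3) F)
variable (htight : ∀ a : Fin 3 → F₀, hrForm D a a = 0 → a ≠ 0 → ∀ c : F, TvAt σ f M (em F₀ P a) c → c = 0 ∨ c = 1)
variable (hsmall : ∀ x : F₀, σ (x : F) = x → (x : F) = 0 ∨ (x : F) = 1)
variable (hthree : ∀ T : Subgroup (GL (Fin 3) F), T ≤ M → IsPGroup 3 T →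
  (∀ g ∈ M, ∀ x ∈ T, g * x * g⁻¹ ∈ T) → Nat.card T ∣ 27 ∧ ∀ x ∈ T, x ^ 3 = 1)

include D hHM hM htight hsmall

variable {e h w : Fin 3 → F₀} (B : RB D e h w) {z : GL (Fin 3) F} (hz : z ∈ M) (hzu : Rt f (em F₀ P e) z)
include B hz hzu

/-- invariant Sylow subgroups are inverted -/
theorem inverted_sylow {s : ℕ} (hs : s.Prime) (hs5 : 5 ≤ s) :
    ∃ S : Sylow s M, ∀ x ∈ (S : Subgroup M), (⟨z, hz⟩ : M) * x * (⟨z, hz⟩ : M)⁻¹ = x⁻¹ := by
  classical
  obtain ⟨ee, hh, eh, he, we, wh, ew, hw, ww, wσ⟩ := B.em_facts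
  have hW : f (em F₀ P w) (em F₀ P w) = 1 := (hsmall ⟨_, D.rat w w⟩ wσ).resolve_left ww
  have hu0 := em_ne_zero F₀ P B.e0
  have hzz := hzu.sq D.form ee
  have hz' : z⁻¹ = z := inv_eq_of_mul_eq_one_right hzz
  obtain ⟨zM, hzM⟩ : ∃ zM : M, zM = ⟨z, hz⟩ := ⟨_, rfl⟩
  rw [← hzM]
  have hiso : Cfsg.IsIsolatedInvolution zM := hzM ▸ rt_isolated D hHM hM htight hz hu0 ee hzu
  have hval : ∀ x y : M, ((x * y : M) : G3) = (x : G3) * y := fun x y => rfl
  have hzv : ((zM : M) : G3) = z := by rw [hzM]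
  haveI : Fact s.Prime := ⟨hs⟩
  obtain ⟨S, hS⟩ := CfsgLib.Invol.exists_sylow_normalized_odd hiso (p := s) (by omega)
  refine ⟨S, ?_⟩
  have hbot : (S : Subgroup M) ⊓ Subgroup.centralizer ({zM} : Set M) = ⊥ := by
    refine eq_bot_iff.2 fun x hx => ?_
    obtain ⟨hxS, hxC⟩ := Subgroup.mem_inf.1 hx
    by_contra hx1
    obtain ⟨j, hj⟩ := (IsPGroup.iff_orderOf.1 S.2) ⟨x, hxS⟩
    rw [Subgroup.orderOf_mk] at hj
    have hj0 : j ≠ 0 := fun h0 => hx1 (orderOf_eq_one_iff.1 (by rw [hj, h0, pow_zero]))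
    obtain ⟨y, hy⟩ : ∃ y : M, y = x ^ s ^ (j - 1) := ⟨_, rfl⟩
    have hys : y ^ s = 1 := by
      rw [hy, ← pow_mul, ← pow_succ, Nat.sub_add_cancel (by omega), ← hj, pow_orderOf_eq_one]
    have hy1 : y ≠ 1 := fun e1 => by
      have := orderOf_dvd_of_pow_eq_one (hy ▸ e1)
      rw [hj] at this
      exact absurd ((Nat.pow_dvd_pow_iff_le_right hs.one_lt).1 this) (by omega)
    have hyc : y * zM = zM * y :=
      ((Commute.pow_left (Subgroup.mem_centralizer_singleton_iff.1 hxC) _).eq : _) |> (hy ▸ ·)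
    refine hy1 (Subtype.ext (no_prime_comm D hHM hM htight B hW hz hzu y.2 ?_ hs hs5 ?_))
    · have := congrArg Subtype.val hyc
      rwa [hval, hval, hzv] at this
    · exact congrArg Subtype.val hys
  have hcard := CfsgLib.Invol.relIndex_inverted hiso (by omega : s ≠ 2) (S : Subgroup M) S.2 hS
  rw [hbot, Subgroup.relIndex_bot_left] at hcard
  intro x hx
  by_contra hne
  have hlt : Nat.card {x : M // x ∈ (S : Subgroup M) ∧ zM * x * zM⁻¹ = x⁻¹} < Nat.card (S : Subgroup M) := by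
    haveI := Fintype.ofFinite (S : Subgroup M)
    haveI := Fintype.ofFinite {x : M // x ∈ (S : Subgroup M) ∧ zM * x * zM⁻¹ = x⁻¹}
    rw [Nat.card_eq_fintype_card, Nat.card_eq_fintype_card]
    exact Fintype.card_lt_of_injective_of_notMem (fun y => (⟨y.1, y.2.1⟩ : (S : Subgroup M)))
      (fun a b hab => Subtype.ext (congrArg Subtype.val hab :)) (b := ⟨x, hx⟩)
      fun ⟨y, hy⟩ => hne (by have h' := congrArg Subtype.val hy; simp only at h'; rw [← h']; exact y.2.2)
  omega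

/-- conjugation by the transvection moves elements inside their coset of the core -/
theorem commutator_mem (x : M) :
    (⟨z, hz⟩ : M) * x * (⟨z, hz⟩ : M)⁻¹ * x⁻¹ ∈ Cfsg.pPrimeCore 2 M := by
  obtain ⟨ee, -⟩ := B.em_facts
  exact CfsgLib.Invol.zstar (rt_isolated D hHM hM htight hz (em_ne_zero F₀ P B.e0) ee hzu) x

omit htight hsmall hHM hM B hz hzu D in
theorem odd_core {x : M} (hx : x ∈ Cfsg.pPrimeCore 2 M) : Odd (orderOf x) := by
  have h1 : orderOf x ∣ Nat.card (Cfsg.pPrimeCore 2 M) := by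
    have := orderOf_dvd_natCard (⟨x, hx⟩ : Cfsg.pPrimeCore 2 M)
    rwa [Subgroup.orderOf_mk] at this
  exact Nat.odd_iff.2 (Nat.two_dvd_ne_zero.1 fun h2 =>
    CfsgLib.Coprime.pPrimeCore_not_dvd Nat.prime_two (h2.trans h1))

/-- the three-elements of the core lie in normal complements -/
theorem core_complement {s : ℕ} (hs : s.Prime) (hs5 : 5 ≤ s) :
    ∃ N : Subgroup (Cfsg.pPrimeCore 2 M), ¬ s ∣ Nat.card N ∧
      ∀ x : Cfsg.pPrimeCore 2 M, (∃ j : ℕ, x ^ 3 ^ j = 1) → x ∈ N := by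
  classical
  obtain ⟨ee, hh, eh, he, we, wh, ew, hw, ww, wσ⟩ := B.em_facts
  have hW : f (em F₀ P w) (em F₀ P w) = 1 := (hsmall ⟨_, D.rat w w⟩ wσ).resolve_left ww
  have hu0 := em_ne_zero F₀ P B.e0
  have hzz := hzu.sq D.form ee
  have hz' : z⁻¹ = z := inv_eq_of_mul_eq_one_right hzz
  obtain ⟨zM, hzM⟩ : ∃ zM : M, zM = ⟨z, hz⟩ := ⟨_, rfl⟩
  have hzv : ((zM : M) : G3) = z := by rw [hzM]
  have hcent : ∀ x : M, zM * x * zM⁻¹ * x⁻¹ ∈ Cfsg.pPrimeCore 2 M := hzM ▸ commutator_mem D hHM hM htight hsmall B hz hzu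
  haveI : Fact s.Prime := ⟨hs⟩
  obtain ⟨S, hS⟩ := inverted_sylow D hHM hM htight hsmall B hz hzu hs hs5
  rw [← hzM] at hS
  have hSodd : ∀ x ∈ (S : Subgroup M), Odd (orderOf x) := fun x hx => by
    obtain ⟨j, hj⟩ := (IsPGroup.iff_orderOf.1 S.2) ⟨x, hx⟩
    rw [Subgroup.orderOf_mk] at hj
    rw [hj]
    exact (hs.odd_of_ne_two (by omega)).pow
  have hSK : (S : Subgroup M) ≤ Cfsg.pPrimeCore 2 M := fun x hx => by
    have h1 := hcent x
    rw [hS x hx, ← _root_.mul_inv_rev] at h1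
    obtain ⟨k, hk⟩ := hSodd x hx
    have h2 : x = (x * x) ^ (k + 1) := by
      rw [← pow_two, ← pow_mul, show 2 * (k + 1) = orderOf x + 1 by omega, pow_succ, pow_orderOf_eq_one, one_mul]
    rw [h2]
    exact Subgroup.pow_mem _ (by simpa using Subgroup.inv_mem _ h1) _
  have hab : ∀ x ∈ (S : Subgroup M), ∀ y ∈ (S : Subgroup M), x * y = y * x := fun x hx y hy => by
    have h1 := hS _ ((S : Subgroup M).mul_mem hx hy)
    have h2 : zM * (x * y) * zM⁻¹ = x⁻¹ * y⁻¹ := by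
      rw [← hS x hx, ← hS y hy]; group
    rw [h1, _root_.mul_inv_rev] at h2
    have h3 := congrArg (·⁻¹) h2
    simpa using h3
  have hconj : ∀ g : M, g ∈ Cfsg.pPrimeCore 2 M → (∀ x, x ∈ (S : Subgroup M) → g * x * g⁻¹ ∈ (S : Subgroup M)) →
      ∀ x ∈ (S : Subgroup M), g * x * g⁻¹ = x := by
    intro g hgK hgS x hx
    by_cases hx1 : x = 1
    · rw [hx1]; group
    obtain ⟨n, hn, hnx, hny⟩ : ∃ n, Odd n ∧ x ^ n = 1 ∧ (g * x * g⁻¹) ^ n = 1 :=
      ⟨orderOf x, hSodd x hx, pow_orderOf_eq_one x, by rw [conj_pow, pow_orderOf_eq_one]; group⟩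
    have hy1 : g * x * g⁻¹ ≠ 1 := fun e1 => hx1 (by
      have := congrArg (fun t => g⁻¹ * t * g) e1
      simpa [mul_assoc] using this)
    have htr : ((x : G3) : M3).trace = (((g * x * g⁻¹ : M) : G3) : M3).trace := by
      show _ = ((((g : G3) * (x : G3) * (g : G3)⁻¹ : G3)) : M3).trace
      rw [Units.val_mul, Units.val_mul, Matrix.trace_units_conj]
    have hi : ∀ t : M, t ∈ (S : Subgroup M) → z * (t : G3) * z⁻¹ = (t : G3)⁻¹ := fun t ht => by
      have := congrArg Subtype.val (hS t ht)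
      simpa [hzv] using this
    rcases conj_eq_or_inv D hHM hM htight B hW hz hzu x.2 (hi x hx) hn (congrArg Subtype.val hnx :)
      (fun e1 => hx1 (Subtype.ext e1)) (g * x * g⁻¹).2 (hi _ (hgS x hx)) (congrArg Subtype.val hny :)
      (fun e1 => hy1 (Subtype.ext e1)) (congrArg Subtype.val (hab x hx _ (hgS x hx)) :) htr with h1 | h1
    · exact Subtype.ext h1
    · have h1' : g * x * g⁻¹ = x⁻¹ := Subtype.ext h1
      have h2 : Commute (g ^ 2) x := by
        have : g ^ 2 * x * (g ^ 2)⁻¹ = x := by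
          rw [show g ^ 2 * x * (g ^ 2)⁻¹ = g * (g * x * g⁻¹) * g⁻¹ by rw [pow_two]; group, h1', ← conj_inv, h1', inv_inv]
        exact mul_inv_eq_iff_eq_mul.1 this
      obtain ⟨k, hk⟩ := odd_core hgK
      have h3 : g = (g ^ 2) ^ (k + 1) := by
        rw [← pow_mul, show 2 * (k + 1) = orderOf g + 1 by omega, pow_succ, pow_orderOf_eq_one, one_mul]
      have h4 : Commute g x := h3 ▸ h2.pow_left _
      rw [h4.eq, mul_inv_cancel_right]
  obtain ⟨T, hT⟩ : ∃ T : Sylow s (Cfsg.pPrimeCore 2 M), T = S.subtype hSK := ⟨_, rfl⟩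
  have hP : Subgroup.normalizer ((T : Subgroup (Cfsg.pPrimeCore 2 M)) : Set (Cfsg.pPrimeCore 2 M)) ≤ Subgroup.centralizer ((T : Subgroup (Cfsg.pPrimeCore 2 M)) : Set (Cfsg.pPrimeCore 2 M)) := by
    intro g hg
    rw [Subgroup.mem_centralizer_iff]
    intro x hx
    have hmem : ∀ t : Cfsg.pPrimeCore 2 M, t ∈ (T : Subgroup (Cfsg.pPrimeCore 2 M)) ↔ (t : M) ∈ (S : Subgroup M) := fun t => by
      rw [hT, Sylow.coe_subtype, Subgroup.mem_subgroupOf]
    have h1 := hconj (g : M) g.2 (fun t ht => by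
      have := (Subgroup.mem_set_normalizer_iff.1 hg ⟨t, hSK ht⟩).1 ((hmem _).2 ht)
      exact (hmem _).1 this) (x : M) ((hmem x).1 hx)
    refine Subtype.ext ?_
    rw [mul_inv_eq_iff_eq_mul] at h1
    exact h1.symm
  refine ⟨(MonoidHom.transferSylow T hP).ker, MonoidHom.not_dvd_card_ker_transferSylow T hP, fun x ⟨j, hj⟩ => ?_⟩
  rw [MonoidHom.mem_ker]
  obtain ⟨i, hi⟩ := (IsPGroup.iff_orderOf.1 T.2) (MonoidHom.transferSylow T hP x)
  have h1 : orderOf (MonoidHom.transferSylow T hP x) ∣ 3 ^ j :=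
    orderOf_dvd_of_pow_eq_one (by rw [← map_pow, hj, map_one])
  refine orderOf_eq_one_iff.1 ?_
  rw [hi] at h1 ⊢
  exact Nat.Coprime.eq_one_of_dvd (Nat.Coprime.pow i j ((Nat.coprime_primes hs Nat.prime_three).2 (by omega))) h1

/-- the elements of three-power order of the core form a subgroup -/
theorem exists_three_core : ∃ T : Subgroup M, ∀ x, x ∈ T ↔ x ∈ Cfsg.pPrimeCore 2 M ∧ ∃ j : ℕ, x ^ 3 ^ j = 1 :=
  three_elements_subgroup (Cfsg.pPrimeCore 2 M) (fun x hx => odd_core hx)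
    fun s hs hs5 => core_complement D hHM hM htight hsmall B hz hzu hs hs5

/-- the centre contributes three elements -/
theorem centre_three {T : Subgroup M} (hT : ∀ x, x ∈ T ↔ x ∈ Cfsg.pPrimeCore 2 M ∧ ∃ j : ℕ, x ^ 3 ^ j = 1) :
    3 ≤ Nat.card {x : M // x ∈ T ∧ ∀ y : M, x * y = y * x} := by
  classical
  obtain ⟨θ, hθ⟩ := hr_not_fixed D
  have hN : (θ : F) * σ (θ : F) = 1 := by
    refine (hsmall ⟨_, F₀.mul_mem θ.2 (hr_bar_mem D θ.2)⟩ (by rw [map_mul, D.form.involutive, mul_comm])).resolve_left ?_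
    intro h0
    rcases mul_eq_zero.1 h0 with h1 | h1
    · exact hθ (by rw [h1, map_zero])
    · exact hθ (by rw [show (θ : F) = 0 by simpa using h1, map_zero])
  have hT' : (θ : F) + σ (θ : F) = 1 := by
    refine (hsmall ⟨_, F₀.add_mem θ.2 (hr_bar_mem D θ.2)⟩ (by rw [map_add, D.form.involutive, add_comm])).resolve_left ?_
    intro h0
    exact hθ (CharTwo.add_eq_zero.1 h0).symm
  have hθ3 : (θ : F) ^ 3 = 1 := by
    have h2 : (θ : F) * θ + θ + 1 = 0 := by
      linear_combination (θ : F) * hT' - hN + (θ : F) * (CharTwo.two_eq_zero : (2 : F) = 0)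
    linear_combination ((θ : F) - 1) * h2
  have hθ0 : (θ : F) ≠ 0 := fun h0 => hθ (by rw [h0, map_zero])
  have hθ1 : (θ : F) ≠ 1 := fun h0 => hθ (by rw [h0, map_one])
  obtain ⟨c, hc⟩ : ∃ c : G3, (c : M3) = (θ : F) • (1 : M3) :=
    ⟨Matrix.GeneralLinearGroup.mkOfDetNeZero _ (by
      rw [Matrix.det_smul, det_one, mul_one, Fintype.card_fin, hθ3]; exact one_ne_zero), rfl⟩
  have hcv : ∀ x, (c : M3) *ᵥ x = (θ : F) • x := fun x => by rw [hc, smul_mulVec, one_mulVec]
  have hcM : c ∈ M := hHM ⟨Subf.mem_subfieldSubgroup_of_image F₀ P hθ0 fun i => ⟨_, hcv _⟩,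
    mem_isoU.2 fun x y => by rw [hcv, hcv, D.form.smul_left, herm_smul_right D.form, ← mul_assoc, hN, one_mul],
    Units.ext (by
      show (c : M3).det = 1
      rw [hc, Matrix.det_smul, det_one, mul_one, Fintype.card_fin, hθ3])⟩
  obtain ⟨cM, hcM'⟩ : ∃ cM : M, cM = ⟨c, hcM⟩ := ⟨_, rfl⟩
  have hcomm : ∀ y : M, cM * y = y * cM := fun y => Subtype.ext (Units.ext (by
    rw [hcM']
    simp [hc, Matrix.smul_mul, Matrix.mul_smul]))
  have hc3 : cM ^ 3 = 1 := Subtype.ext (gl_ext_vec fun x => by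
    rw [hcM', SubgroupClass.coe_pow]
    show ((c ^ 3 : G3) : M3) *ᵥ x = ((1 : G3) : M3) *ᵥ x
    simp only [pow_succ, pow_zero, one_mul, gl_mul_mulVec, hcv, smul_smul, Units.val_one, one_mulVec]
    rw [show (θ : F) * ((θ : F) * (θ : F)) = (θ : F) ^ 3 by ring, hθ3, one_smul])
  have hc1 : cM ≠ 1 := fun e1 => by
    have := congrArg (fun g : M => ((g : G3) : M3) 0 0) e1
    rw [hcM'] at this
    simp [hc] at this
    exact hθ1 (by first | exact this | exact congrArg Subtype.val this | simpa using this)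
  haveI : (Subgroup.zpowers cM).Normal := ⟨fun x hx y => by
    obtain ⟨k, rfl⟩ := Subgroup.mem_zpowers_iff.1 hx
    rw [((Commute.zpow_left (hcomm y) k)).symm.eq, mul_inv_cancel_right]
    exact ⟨k, rfl⟩⟩
  have hord : orderOf cM = 3 := orderOf_eq_prime hc3 hc1
  have hle : Subgroup.zpowers cM ≤ Cfsg.pPrimeCore 2 M := CfsgLib.Coprime.le_pPrimeCore_of_not_dvd Nat.prime_two (by
    rw [Nat.card_zpowers, hord]; norm_num)
  refine le_trans (le_of_eq (by rw [Nat.card_zpowers, hord] : 3 = Nat.card (Subgroup.zpowers cM))) ?_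
  refine Nat.card_le_card_of_injective (fun x => ⟨x.1, (hT _).2 ⟨hle x.2, 1, ?_⟩, fun y => ?_⟩)
    fun a b hab => Subtype.ext (congrArg Subtype.val hab :)
  · rw [pow_one]
    obtain ⟨k, hk⟩ := Subgroup.mem_zpowers_iff.1 x.2
    rw [← hk, ← zpow_natCast, ← _root_.zpow_mul, mul_comm, _root_.zpow_mul, zpow_natCast, hc3, _root_.one_zpow]
  · obtain ⟨k, hk⟩ := Subgroup.mem_zpowers_iff.1 x.2
    rw [← hk]
    exact (Commute.zpow_left (hcomm y) k).eq

/-- rational products lie in the three-core -/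
theorem rat_product_mem {T : Subgroup M} (hT : ∀ x, x ∈ T ↔ x ∈ Cfsg.pPrimeCore 2 M ∧ ∃ j : ℕ, x ^ 3 ^ j = 1)
    {b : Fin 3 → F₀} (hb : hrForm D b b = 0) (heb : f (em F₀ P e) (em F₀ P b) = 1) :
    ∃ x : M, x ∈ T ∧ ∃ t : G3, Rt f (em F₀ P b) t ∧ (x : G3) = z * t := by
  obtain ⟨ee, hh, eh, he, we, wh, ew, hw, ww, wσ⟩ := B.em_facts
  have hW : f (em F₀ P w) (em F₀ P w) = 1 := (hsmall ⟨_, D.rat w w⟩ wσ).resolve_left ww
  have hu0 := em_ne_zero F₀ P B.e0
  have hzz := hzu.sq D.form ee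
  have hz' : z⁻¹ = z := inv_eq_of_mul_eq_one_right hzz
  obtain ⟨zM, hzM⟩ : ∃ zM : M, zM = ⟨z, hz⟩ := ⟨_, rfl⟩
  have hzv : ((zM : M) : G3) = z := by rw [hzM]
  have hb0 : b ≠ 0 := fun h0 => by rw [h0, em_zero, herm_zero_right D.form] at heb; exact zero_ne_one heb
  obtain ⟨k, hk, hkb⟩ := hr_transitive D hHM (by simp) B.ee hb B.e0 hb0
  have ht := hzu.conj (g := k) (hM hk).1
  rw [hkb] at ht
  obtain ⟨x, hx⟩ : ∃ x : M, x = zM * ⟨k, hk⟩ * zM⁻¹ * (⟨k, hk⟩ : M)⁻¹ := ⟨_, rfl⟩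
  have hxv : (x : G3) = z * (k * z * k⁻¹) := by
    rw [hx]
    simp only [Subgroup.coe_mul, Subgroup.coe_inv, hzv]
    rw [hz']
    group
  refine ⟨x, (hT x).2 ⟨hx ▸ hzM ▸ commutator_mem D hHM hM htight hsmall B hz hzu _, 1, Subtype.ext ?_⟩, k * z * k⁻¹, ht, hxv⟩
  rw [SubgroupClass.coe_pow, hxv, pow_one]
  exact prod_cube D.form ee (hr_em_iso D hb) heb hzu ht

include hthree

/-- no element of larger prime order of the core is inverted -/
theorem no_inverted {y : M} (hyK : y ∈ Cfsg.pPrimeCore 2 M) (hyv : z * (y : G3) * z⁻¹ = (y : G3)⁻¹) {s : ℕ}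
    (hs : s.Prime) (hs5 : 5 ≤ s) (hys : y ^ s = 1) (hy1 : y ≠ 1) : False := by
  classical
  obtain ⟨ee, hh, eh, he, we, wh, ew, hw, ww, wσ⟩ := B.em_facts
  have hW : f (em F₀ P w) (em F₀ P w) = 1 := (hsmall ⟨_, D.rat w w⟩ wσ).resolve_left ww
  have hu0 := em_ne_zero F₀ P B.e0
  have hzz := hzu.sq D.form ee
  have hz' : z⁻¹ = z := inv_eq_of_mul_eq_one_right hzz
  haveI : Fact s.Prime := ⟨hs⟩
  obtain ⟨T, hT⟩ := exists_three_core D hHM hM htight hsmall B hz hzu
  have hKn : (Cfsg.pPrimeCore 2 M).Normal := by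
    haveI := CfsgLib.Coprime.pPrimeCore_characteristic (G := M) 2
    infer_instance
  obtain ⟨hT27, hTexp⟩ := hthree (T.map M.subtype) (Subgroup.map_subtype_le _) (by
      refine IsPGroup.map ?_ _
      exact fun x => by
        obtain ⟨-, j, hj⟩ := (hT _).1 x.2
        exact ⟨j, Subtype.ext hj⟩) (by
      rintro g hg _ ⟨x, hx, rfl⟩
      obtain ⟨hxK, j, hj⟩ := (hT x).1 hx
      exact ⟨⟨g, hg⟩ * x * ⟨g, hg⟩⁻¹, (hT _).2 ⟨hKn.conj_mem x hxK _, j, by rw [conj_pow, hj]; group⟩, rfl⟩)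
  rw [Subgroup.card_map_of_injective (Subgroup.subtype_injective M)] at hT27
  have h3T := centre_three D hHM hM htight hsmall B hz hzu hT
  have hrat := fun b hb heb => rat_product_mem D hHM hM htight hsmall B hz hzu hT (b := b) hb heb
  -- it centralises the three-subgroup
  have hyT : ∀ t ∈ T, y * t * y⁻¹ = t := by
    haveI := Fintype.ofFinite T
    have hmap : ∀ t : T, y * (t : M) * y⁻¹ ∈ T := fun t => by
      obtain ⟨htK, j, hj⟩ := (hT _).1 t.2
      exact (hT _).2 ⟨hKn.conj_mem _ htK _, j, by rw [conj_pow, hj]; group⟩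
    let φ : Function.End T := fun t => ⟨_, hmap t⟩
    have hφ : ∀ (n : ℕ) (t : T), (((φ ^ n) t : T) : M) = y ^ n * (t : M) * (y ^ n)⁻¹ := by
      intro n
      induction n with
      | zero => intro t; show (t : M) = _; simp
      | succ n ih =>
        intro t
        rw [pow_succ']
        show y * (((φ ^ n) t : T) : M) * y⁻¹ = _
        rw [ih, pow_succ' y]
        group
    have hpow : φ ^ s ^ 1 = 1 := funext fun t => Subtype.ext (by
      rw [hφ, pow_one, hys]
      show _ = (t : M)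
      group)
    have hmod := Equiv.Perm.card_fixedPoints_modEq (p := s) (n := 1) hpow
    let C : Subgroup T := (Subgroup.centralizer ({y} : Set M)).subgroupOf T
    have hCiff : ∀ t : T, φ t = t ↔ t ∈ C := fun t => by
      rw [Subgroup.mem_subgroupOf, Subgroup.mem_centralizer_singleton_iff, Subtype.ext_iff]
      exact mul_inv_eq_iff_eq_mul.trans eq_comm
    have hcC : Nat.card C = Fintype.card φ.fixedPoints := by
      rw [Nat.card_eq_fintype_card]
      exact Fintype.card_congr (Equiv.subtypeEquivRight fun t => (hCiff t).symm)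
    have h3C : 3 ≤ Nat.card C := h3T.trans (Nat.card_le_card_of_injective
      (fun t => (⟨⟨t.1, t.2.1⟩, Subgroup.mem_subgroupOf.2 (Subgroup.mem_centralizer_singleton_iff.2 (t.2.2 y))⟩ : C))
      fun a b hab => Subtype.ext (congrArg (fun c : C => ((c : T) : M)) hab :))
    have hdC : Nat.card C ∣ Nat.card T := Subgroup.card_subgroup_dvd_card C
    rw [← hcC, ← Nat.card_eq_fintype_card] at hmod
    have heq : Nat.card C = Nat.card T := by
      have hle := Nat.le_of_dvd Nat.card_pos hdC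
      have hd := (Nat.modEq_iff_dvd' hle).1 hmod.symm
      by_contra hne
      have hdl : ∀ d, d ∈ Nat.divisors 27 → d = 1 ∨ d = 3 ∨ d = 9 ∨ d = 27 := by decide
      have a1 := hdl _ (Nat.mem_divisors.2 ⟨hT27, by norm_num⟩)
      have a2 := hdl _ (Nat.mem_divisors.2 ⟨hdC.trans hT27, by norm_num⟩)
      have hcases : Nat.card T - Nat.card C = 6 ∨ Nat.card T - Nat.card C = 18 ∨ Nat.card T - Nat.card C = 24 := by
        omega
      rcases hcases with e1 | e1 | e1 <;> rw [e1] at hd <;>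
        · have := Nat.le_of_dvd (by norm_num) hd
          interval_cases s <;> first | omega | (exact absurd hs (by decide))
    have htop := Subgroup.eq_top_of_card_eq C heq
    intro t ht
    exact congrArg Subtype.val ((hCiff ⟨t, ht⟩).2 (htop ▸ Subgroup.mem_top _))
  -- two lines are fixed
  obtain ⟨α, hα⟩ := exists_rat_trace D (d := ⟨-f (em F₀ P w) (em F₀ P w), F₀.neg_mem (D.rat w w)⟩)
    (by show σ (-f (em F₀ P w) (em F₀ P w)) = _; rw [map_neg, wσ])
  obtain ⟨b, hb⟩ : ∃ b, b = α • e + h + (1 : F₀) • w := ⟨_, rfl⟩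
  have hbb : hrForm D b b = 0 := hb ▸ RB.iso_vec D B (by
    rw [OneMemClass.coe_one, map_one, hα, one_mul, one_mul]; exact neg_add_cancel _)
  have hfeb : f (em F₀ P e) (em F₀ P b) = 1 ∧ f (em F₀ P w) (em F₀ P b) = 1 := by
    rw [hb, one_smul, em_add, em_add, em_smul]
    simp only [herm_add_right D.form, herm_smul_right D.form, ee, eh, ew, we, wh, hW, mul_zero, zero_add, add_zero,
      and_self]
  have hline : ∀ b : Fin 3 → F₀, hrForm D b b = 0 → f (em F₀ P e) (em F₀ P b) = 1 →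
      ((y : G3) : M3) *ᵥ (em F₀ P w - (f (em F₀ P w) (em F₀ P b)) • em F₀ P e) =
        em F₀ P w - (f (em F₀ P w) (em F₀ P b)) • em F₀ P e := by
    intro b hb heb
    obtain ⟨t, htT, t', ht', htv⟩ := hrat b hb heb
    obtain ⟨L, hL⟩ : ∃ L, L = em F₀ P w - (f (em F₀ P w) (em F₀ P b)) • em F₀ P e := ⟨_, rfl⟩
    rw [← hL]
    have hLu : f L (em F₀ P e) = 0 := by
      rw [hL, herm_sub_left D.form, D.form.smul_left, we, ee, mul_zero, sub_zero]
    have hLb : f L (em F₀ P b) = 0 := by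
      rw [hL, herm_sub_left D.form, D.form.smul_left, heb, mul_one, sub_self]
    have hLne : L ≠ 0 := fun h0 => by
      have := congrArg (fun x => f x (em F₀ P w)) (hL ▸ h0)
      simp only [herm_sub_left D.form, D.form.smul_left, hW, ew, mul_zero, sub_zero, herm_zero_left D.form] at this
      exact one_ne_zero this
    have hbe : f (em F₀ P b) (em F₀ P e) = 1 := by rw [D.form.herm, heb, map_one]
    refine shared_line D hHM hM htight B hW hz hzu (x := z * t') (htv ▸ t.2) ?_ ?_ hLu hLne ?_ y.2 hyv ?_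
    · rw [_root_.mul_inv_rev, hz', inv_eq_of_mul_eq_one_right (ht'.sq D.form (hr_em_iso D hb)), ← mul_assoc z z, hzz,
        one_mul]
    · rw [prod_apply D.form hzu ht', hLu, hLb]; simp
    · intro x' hx'
      rw [prod_apply D.form hzu ht', add_assoc, add_eq_left] at hx'
      have h1 := congrArg (fun x => f x (em F₀ P e)) hx'
      simp only [D.form.add_left, D.form.smul_left, ee, hbe, mul_zero, add_zero, mul_one,
        herm_zero_left D.form] at h1
      rw [h1, zero_smul, zero_add, zero_mul, add_zero, smul_eq_zero] at hx'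
      obtain ⟨k, hk⟩ := fixed_line D B hW (v := em F₀ P b) (by rw [heb]; exact one_ne_zero)
        (hx'.resolve_right hu0) h1
      exact ⟨k, by rw [hk, hL, heb, div_one]⟩
    · have h1 := congrArg Subtype.val (hyT t htT)
      simp only [Subgroup.coe_mul, Subgroup.coe_inv] at h1
      rw [mul_inv_eq_iff_eq_mul, htv] at h1
      exact h1.symm
  have l1 := hline h B.hh eh
  have l2 := hline b hbb hfeb.1
  rw [wh, zero_smul, sub_zero] at l1
  rw [hfeb.2, one_smul] at l2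
  obtain ⟨v, hvv, huv, hvx, l, hl, hlu, hlv, hyl, huniq⟩ := inverted_data D hHM hM htight B hW hz hzu y.2 hyv
    (hs.odd_of_ne_two (by omega)) (congrArg Subtype.val hys :) (fun e1 => hy1 (Subtype.ext e1))
  obtain ⟨k1, hk1⟩ := huniq _ l1
  obtain ⟨k2, hk2⟩ := huniq _ l2
  have h5 : (k2 - k1) • l = -em F₀ P e := by rw [sub_smul, ← hk1, ← hk2]; abel
  have h6 := congrArg (fun x => f x v) h5
  simp only [D.form.smul_left, hlv, mul_zero, herm_neg_left D.form] at h6
  exact huv (neg_eq_zero.1 h6.symm)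

/-- conjugates of a transvection differ from it by elements of order dividing three -/
theorem product_cube {g : G3} (hg : g ∈ M) : (z * (g * z * g⁻¹)) ^ 3 = 1 := by
  classical
  obtain ⟨ee, hh, eh, he, we, wh, ew, hw, ww, wσ⟩ := B.em_facts
  have hW : f (em F₀ P w) (em F₀ P w) = 1 := (hsmall ⟨_, D.rat w w⟩ wσ).resolve_left ww
  have hu0 := em_ne_zero F₀ P B.e0
  have hzz := hzu.sq D.form ee
  have hz' : z⁻¹ = z := inv_eq_of_mul_eq_one_right hzz
  obtain ⟨zM, hzM⟩ : ∃ zM : M, zM = ⟨z, hz⟩ := ⟨_, rfl⟩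
  have hzv : ((zM : M) : G3) = z := by rw [hzM]
  obtain ⟨T, hT⟩ := exists_three_core D hHM hM htight hsmall B hz hzu
  have hKn : (Cfsg.pPrimeCore 2 M).Normal := by
    haveI := CfsgLib.Coprime.pPrimeCore_characteristic (G := M) 2
    infer_instance
  obtain ⟨-, hTexp⟩ := hthree (T.map M.subtype) (Subgroup.map_subtype_le _) (by
      refine IsPGroup.map ?_ _
      exact fun x => by
        obtain ⟨-, j, hj⟩ := (hT _).1 x.2
        exact ⟨j, Subtype.ext hj⟩) (by
      rintro k hk _ ⟨x, hx, rfl⟩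
      obtain ⟨hxK, j, hj⟩ := (hT x).1 hx
      exact ⟨⟨k, hk⟩ * x * ⟨k, hk⟩⁻¹, (hT _).2 ⟨hKn.conj_mem x hxK _, j, by rw [conj_pow, hj]; group⟩, rfl⟩)
  obtain ⟨x, hx⟩ : ∃ x : M, x = zM * ⟨g, hg⟩ * zM⁻¹ * (⟨g, hg⟩ : M)⁻¹ := ⟨_, rfl⟩
  have hxv : (x : G3) = z * (g * z * g⁻¹) := by
    rw [hx]
    simp only [Subgroup.coe_mul, Subgroup.coe_inv, hzv]
    rw [hz']
    group
  have hxinv : zM * x * zM⁻¹ = x⁻¹ := Subtype.ext (by
    simp only [Subgroup.coe_mul, Subgroup.coe_inv, hzv, hxv, hz']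
    rw [_root_.mul_inv_rev, _root_.mul_inv_rev, _root_.mul_inv_rev, inv_inv, hz', ← mul_assoc z z, hzz, one_mul]
    group)
  have hxK : x ∈ Cfsg.pPrimeCore 2 M := hx ▸ hzM ▸ commutator_mem D hHM hM htight hsmall B hz hzu _
  have hxT : x ∈ T := by
    refine (hT x).2 ⟨hxK, (orderOf x).primeFactorsList.length, ?_⟩
    have hkey : orderOf x = 3 ^ (orderOf x).primeFactorsList.length := by
      refine Nat.eq_prime_pow_of_unique_prime_dvd (orderOf_pos _).ne' fun {s} hs hdvd => ?_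
      by_contra hs3
      have hso : Odd s := (odd_core hxK).of_dvd_nat hdvd
      have hs5 : 5 ≤ s := by
        by_contra hlt
        push Not at hlt
        interval_cases s <;> first | omega | (exact absurd hs (by decide)) | (exact absurd hso (by decide))
      haveI : Fact s.Prime := ⟨hs⟩
      obtain ⟨y, hy⟩ : ∃ y, y = x ^ (orderOf x / s) := ⟨_, rfl⟩
      have hord : orderOf y = s := by
        rw [hy, orderOf_pow_of_dvd (Nat.div_pos (Nat.le_of_dvd (orderOf_pos _) hdvd) hs.pos).ne'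
          (Nat.div_dvd_of_dvd hdvd), Nat.div_div_self hdvd (orderOf_pos _).ne']
      have hys : y ^ s = 1 := hord ▸ pow_orderOf_eq_one y
      have hy1 : y ≠ 1 := fun e1 => by rw [e1, orderOf_one] at hord; omega
      have hyinv : zM * y * zM⁻¹ = y⁻¹ := by rw [hy, ← conj_pow, hxinv, inv_pow]
      refine no_inverted D hHM hM htight hsmall hthree B hz hzu (y := y) (hy ▸ Subgroup.pow_mem _ hxK _) ?_ hs hs5 hys hy1
      have := congrArg Subtype.val hyinv
      simpa [hzv] using this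
    rw [← hkey, pow_orderOf_eq_one]
  have hfin := hTexp (x : G3) ⟨x, hxT, rfl⟩
  rwa [hxv] at hfin

omit B hz hzu

/-- the norms of the products of images of rational points with rational points are rational -/
theorem norm_rational_two {g : G3} (hg : g ∈ M) {a b : Fin 3 → F₀} (ha : hrForm D a a = 0) (hb : hrForm D b b = 0) :
    f ((g : M3) *ᵥ em F₀ P a) (em F₀ P b) * σ (f ((g : M3) *ᵥ em F₀ P a) (em F₀ P b)) ∈ F₀ := by
  obtain ⟨e, h, w, B⟩ := exists_rb D
  have ee := hr_em_iso D B.ee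
  have hu0 := em_ne_zero F₀ P B.e0
  obtain ⟨z, hz, hzu⟩ := exists_rt D hHM B.ee
  by_cases ha0 : a = 0
  · rw [ha0, em_zero, mulVec_zero, herm_zero_left D.form, zero_mul]; exact F₀.zero_mem
  by_cases hb0 : b = 0
  · rw [hb0, em_zero, herm_zero_right D.form, zero_mul]; exact F₀.zero_mem
  obtain ⟨k, hk, hkb⟩ := hr_transitive D hHM (by simp) hb B.ee hb0 B.e0
  obtain ⟨j, hj, hja⟩ := hr_transitive D hHM (by simp) B.ee ha B.e0 ha0
  obtain ⟨G, hG⟩ : ∃ G : G3, G = k * g * j := ⟨_, rfl⟩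
  have hGM : G ∈ M := hG ▸ M.mul_mem (M.mul_mem hk hg) hj
  obtain ⟨v, hv⟩ : ∃ v, v = (G : M3) *ᵥ em F₀ P e := ⟨_, rfl⟩
  have heq : f ((g : M3) *ᵥ em F₀ P a) (em F₀ P b) = f v (em F₀ P e) := by
    rw [hv, hG, gl_mul_mulVec, gl_mul_mulVec, hja, ← hkb, mem_isoU.1 (hM hk).1]
  rw [heq]
  by_cases hvu : f v (em F₀ P e) = 0
  · rw [hvu, zero_mul]; exact F₀.zero_mem
  have hzv := hzu.conj (g := G) (hM hGM).1
  rw [← hv] at hzv
  have hvv : f v v = 0 := by rw [hv, mem_isoU.1 (hM hGM).1, ee]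
  have hcube := product_cube D hHM hM htight hsmall hthree B hz hzu hGM
  obtain ⟨x, hx⟩ : ∃ x, x = z * (G * z * G⁻¹) := ⟨_, rfl⟩
  rw [← hx] at hcube
  obtain ⟨d, hd⟩ : ∃ d, d = f v (em F₀ P e) := ⟨_, rfl⟩
  rw [← hd] at hvu ⊢
  have huv : f (em F₀ P e) v = σ d := by rw [hd, ← D.form.herm]
  have h3 := congrArg (fun t : G3 => f ((t : M3) *ᵥ em F₀ P e) (em F₀ P e)) hcube
  simp only [pow_succ, pow_zero, one_mul, gl_mul_mulVec, Units.val_one, one_mulVec] at h3
  rw [hx] at h3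
  simp only [← gl_mul_mulVec z (G * z * G⁻¹), prod_apply D.form hzu hzv, D.form.add_left, D.form.smul_left, ee, hvv,
    ← hd, huv, mul_zero, add_zero, zero_add] at h3
  have h4 : (σ d * d) * ((σ d * d) * (σ d * d) + 1) = 0 := by
    linear_combination (norm := (ring_nf; simp [CharTwo.two_eq_zero, show (4 : F) = 0 by linear_combination 2 * (CharTwo.two_eq_zero : (2 : F) = 0)])) h3
  have h5 : d * σ d = 1 := by
    rcases mul_eq_zero.1 h4 with h5 | h5
    · exact absurd h5 (mul_ne_zero (by simpa using hvu) hvu)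
    · have h6 : (d * σ d + 1) * (d * σ d + 1) = 0 := by
        linear_combination h5 + d * σ d * (CharTwo.two_eq_zero : (2 : F) = 0)
      exact CharTwo.add_eq_zero.1 (by simpa using h6)
  rw [h5]
  exact F₀.one_mem

end CfsgLib.Perm.Trans.UnitThree.HSub
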