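import Cfsg.Agent.Lib.Perm.Trans.UnitThree.SubfPair
import Cfsg.Agent.Lib.Perm.Trans.UnitThree.Points
import Cfsg.Agent.Lib.Perm.Trans.UnitThree.SubfTwoCore
import Cfsg.Agent.Lib.Perm.Trans.UnitThree.SubfThree
import Cfsg.Agent.Lib.Perm.Asch.Forms.UProper2

/-!
# Subfield groups of odd degree are maximal in the three-dimensional special unitary group
-/

set_option autoImplicit false
set_option linter.all false

namespace CfsgLib.Perm.Trans.UnitThree.HSub

open scoped Matrix
open Matrix Cfsg Cfsg.Geo CfsgLib.Perm.Asch CfsgLib.Perm.Trans CfsgLib.Perm.Trans.Unit CfsgLib.Perm.Trans.UnitThree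
open CfsgLib.Perm.Trans.Subf (em lift em_add em_neg em_sub em_smul em_sum em_zero em_injective em_ne_zero exists_coords lift_em lift_mem ext_em)

attribute [local instance] CfsgLib.Perm.Trans.Unit.subfieldFintype

variable {F : Type*} [Field F] [Fintype F]

local notation "M3" => Matrix (Fin 3) (Fin 3) F
local notation "G3" => GL (Fin 3) F
local notation "V3" => Fin 3 → F

variable {σ : F ≃+* F} {f : (Fin 3 → F) → (Fin 3 → F) → F} {F₀ : Subfield F} {P : GL (Fin 3) F} {r : ℕ}

/-- over four elements the subfield has four elements -/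
theorem card_four [CharP F 2] (D : HermRat σ f F₀ P r)
    (hsmall : ∀ x : F₀, σ (x : F) = x → (x : F) = 0 ∨ (x : F) = 1) : Nat.card F₀ = 4 := by
  classical
  have hc2 : (2 : F) = 0 := CharTwo.two_eq_zero
  obtain ⟨θ, hθ⟩ := hr_not_fixed D
  have hθ0 : (θ : F) ≠ 0 := fun h0 => hθ (by rw [h0, map_zero])
  have hθ1 : (θ : F) ≠ 1 := fun h0 => hθ (by rw [h0, map_one])
  have hT : ∀ x : F₀, x ^ 2 = x ∨ x ^ 2 + x + 1 = 0 := by
    intro x
    rcases hsmall ⟨_, F₀.add_mem x.2 (hr_bar_mem D x.2)⟩ (by rw [map_add, D.form.involutive, add_comm]) with h | h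
    · left
      rcases hsmall x (CharTwo.add_eq_zero.1 h).symm with e | e
      · exact Subtype.ext (by push_cast; rw [e]; ring)
      · exact Subtype.ext (by push_cast; rw [e]; ring)
    · rcases hsmall ⟨_, F₀.mul_mem x.2 (hr_bar_mem D x.2)⟩ (by rw [map_mul, D.form.involutive, mul_comm]) with h' | h'
      · exfalso
        rcases mul_eq_zero.1 h' with e | e
        · replace h : (x : F) + σ (x : F) = 1 := h
          rw [e, map_zero, add_zero] at h; exact zero_ne_one h
        · replace h : (x : F) + σ (x : F) = 1 := h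
          rw [show (x : F) = 0 by simpa using e, map_zero, add_zero] at h; exact zero_ne_one h
      · right
        refine Subtype.ext ?_
        push_cast
        have e1 : σ (x : F) = 1 + x := by linear_combination h - (x : F) * hc2
        replace h' : (x : F) * σ (x : F) = 1 := h'
        rw [e1] at h'
        linear_combination h' + hc2
  obtain ⟨S, hS⟩ : ∃ S : Finset F₀, S = {0, 1, θ, θ + 1} := ⟨_, rfl⟩
  have hθq : θ ^ 2 + θ + 1 = 0 := (hT θ).resolve_left fun e => by
    have h1 : θ * (θ - 1) = 0 := by linear_combination e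
    rcases mul_eq_zero.1 h1 with h2 | h2
    · exact hθ0 (by rw [h2]; rfl)
    · exact hθ1 (by rw [sub_eq_zero.1 h2]; rfl)
  have hall : Finset.univ = S := by
    refine (Finset.eq_univ_of_forall fun x => ?_).symm
    rw [hS]
    have hc0 : (2 : F₀) = 0 := Subtype.ext hc2
    simp only [Finset.mem_insert, Finset.mem_singleton]
    rcases hT x with e | e
    · rcases mul_eq_zero.1 (show x * (x - 1) = 0 by linear_combination e) with h1 | h1
      · exact Or.inl h1
      · exact Or.inr (Or.inl (sub_eq_zero.1 h1))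
    · rcases mul_eq_zero.1 (show (x - θ) * (x - (θ + 1)) = 0 by
        linear_combination e + hθq - (θ * x + x + 1) * hc0) with h1 | h1
      · exact Or.inr (Or.inr (Or.inl (sub_eq_zero.1 h1)))
      · exact Or.inr (Or.inr (Or.inr (sub_eq_zero.1 h1)))
  have h1' : θ + 1 ≠ 0 := fun e => by
    have h2 : θ = 1 := by
      have hc0 : (2 : F₀) = 0 := Subtype.ext hc2
      linear_combination e - hc0
    exact hθ1 (by rw [h2]; rfl)
  rw [Nat.card_eq_fintype_card, ← Finset.card_univ, hall, hS]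
  have a1 : (0 : F₀) ∉ ({1, θ, θ + 1} : Finset F₀) := by
    simp only [Finset.mem_insert, Finset.mem_singleton, not_or]
    exact ⟨zero_ne_one, fun e => hθ0 (by rw [← e]; rfl), fun e => h1' e.symm⟩
  have a2 : (1 : F₀) ∉ ({θ, θ + 1} : Finset F₀) := by
    simp only [Finset.mem_insert, Finset.mem_singleton, not_or]
    exact ⟨fun e => hθ1 (by rw [← e]; rfl), fun e => hθ0 (by rw [show θ = 0 by linear_combination -e]; rfl)⟩
  have a3 : θ ∉ ({θ + 1} : Finset F₀) := by
    rw [Finset.mem_singleton]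
    intro e
    exact one_ne_zero (show (1 : F₀) = 0 by linear_combination -e)
  rw [Finset.card_insert_of_notMem a1, Finset.card_insert_of_notMem a2, Finset.card_insert_of_notMem a3,
    Finset.card_singleton]

/-- an element of order four in the rational group -/
theorem exists_order_four [CharP F 2] (D : HermRat σ f F₀ P r)
    (hsmall : ∀ x : F₀, σ (x : F) = x → (x : F) = 0 ∨ (x : F) = 1) :
    ∃ g ∈ subfieldSubgroup F₀ P ⊓ (isoU f ⊓ specialLinear (Fin 3) F), g ^ 4 = 1 ∧ g ^ 2 ≠ 1 := by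
  obtain ⟨e, h, w, B⟩ := exists_rb D
  obtain ⟨ee, hh, eh, he, we, wh, ew, hw, ww, wσ⟩ := B.em_facts
  have hW : f (em F₀ P w) (em F₀ P w) = 1 := (hsmall ⟨_, D.rat w w⟩ wσ).resolve_left ww
  obtain ⟨g, hg, h1, h2⟩ := exists_heis_two D B hW
  have hiso := mem_isoU.1 hg.2.1
  obtain ⟨u, hu⟩ : ∃ u, u = em F₀ P e := ⟨_, rfl⟩
  obtain ⟨H, hH⟩ : ∃ H, H = em F₀ P h := ⟨_, rfl⟩
  obtain ⟨E, hE⟩ : ∃ E, E = em F₀ P w := ⟨_, rfl⟩
  rw [← hu] at h1 ee
  rw [← hu, ← hE] at h2 we ew
  rw [← hE] at hW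
  rw [← hH] at hh
  rw [← hE, ← hH] at wh hw
  rw [← hu, ← hH] at eh he
  have hco : ∀ x, x = f x H • u + f x u • H + f x E • E := fun x => by
    conv_lhs => rw [B.vec_eq (z := x)]
    rw [← hu, ← hH, ← hE, hW, div_one]
  have hyu : f ((g : M3) *ᵥ H) u = 1 := by
    have := hiso H u
    rwa [h1, he] at this
  obtain ⟨l, m, hyl⟩ : ∃ l m : F, (g : M3) *ᵥ H = l • u + H + m • E :=
    ⟨f ((g : M3) *ᵥ H) H, f ((g : M3) *ᵥ H) E, by
      conv_lhs => rw [hco ((g : M3) *ᵥ H)]
      rw [hyu, one_smul]⟩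
  refine ⟨g, hg, gl_ext_vec fun x => ?_, fun e2 => ?_⟩
  · have h4z : (4 : F) = 0 := by linear_combination 2 * (CharTwo.two_eq_zero : (2 : F) = 0)
    have h6z : (6 : F) = 0 := by linear_combination 3 * (CharTwo.two_eq_zero : (2 : F) = 0)
    obtain ⟨a, b, c, hx⟩ : ∃ a b c : F, x = a • u + b • H + c • E := ⟨_, _, _, hco x⟩
    simp only [pow_succ, pow_zero, one_mul, gl_mul_mulVec, hx, mulVec_add, mulVec_smul, h1, h2, hyl, Units.val_one,
      one_mulVec]
    match_scalars <;> ring_nf <;> simp [h4z, h6z]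
  · rw [pow_two] at e2
    have hg1 : g ≠ 1 := fun e1 => by
      rw [e1, Units.val_one, one_mulVec, left_eq_add] at h2
      rw [h2, herm_zero_left D.form] at eh
      exact zero_ne_one eh
    obtain ⟨v, hv, hvv, hvx⟩ := rt_of_invol D (M := isoU f ⊓ specialLinear (Fin 3) F) le_rfl hg.2 e2 hg1
    have h3 := hvx E
    rw [h2, add_right_inj] at h3
    have h4 := congrArg (fun x => f x E) h3
    have h5 := congrArg (fun x => f x H) h3
    simp only [D.form.smul_left, ew, eh] at h4 h5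
    rw [D.form.herm v E] at h4
    have h6 : f E v = 0 := by
      rcases mul_eq_zero.1 h4.symm with e | e
      · exact e
      · simpa using e
    rw [h6, zero_mul] at h5
    exact one_ne_zero h5

variable {q : ℕ}

/-- subfield groups of odd prime degree -/
theorem subfield_odd_maximal (hF : Fintype.card F = q ^ 2) (hq : 3 ≤ q) (F₀ : Subfield F) (r : ℕ) (P : GL (Fin 3) F)
    (hr : r.Prime) (hrodd : Odd r) (hcard : Fintype.card F = Nat.card F₀ ^ r)
    (hrat : IsFormRationalStructure (hermForm 3 F q) F₀ 1 P) :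
    IsMaximalIn (GU 3 F q ⊓ specialLinear (Fin 3) F) (subfieldSubgroup F₀ P ⊓ (GU 3 F q ⊓ specialLinear (Fin 3) F)) := by
  classical
  obtain ⟨C⟩ := Unit.ctx_of_card (F := F) hF
  obtain ⟨σ, hσ, hf⟩ : ∃ σ : F ≃+* F, (∀ x, σ x = x ^ q) ∧ IsUnitaryForm σ (hermForm 3 F q) :=
    ⟨_, C.bar_eq, Unit.isUnitary_hermForm C (n := 3)⟩
  have hr2 : 2 < r := by
    have := hr.two_le
    rcases hrodd with ⟨j, hj⟩
    omega
  have D : HermRat σ (hermForm 3 F q) F₀ P r := ⟨hf, hr, hr2, hcard, fun a b => by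
    have := hrat (fun i => (a i : F)) (fun i => (b i : F)) (fun i => (a i).2) (fun i => (b i).2)
    rwa [one_mul] at this⟩
  have hbig : 4 < Fintype.card F := by
    rw [hF]
    calc 4 < 3 ^ 2 := by norm_num
      _ ≤ q ^ 2 := Nat.pow_le_pow_left hq 2
  have hne : F₀ ≠ ⊤ := fun h => by
    have h1 : 1 < Nat.card F₀ := Finite.one_lt_card
    have h2 : Nat.card F₀ = Fintype.card F := by
      rw [← Nat.card_eq_fintype_card (α := F), h]
      exact Nat.card_congr Subfield.topEquiv.toEquiv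
    have := Nat.pow_lt_pow_right h1 hr.one_lt
    rw [pow_one] at this
    omega
  refine isMaximalIn_of_full (fun hle => su_not_le_subfield C le_rfl hne P hle) fun M hHM hM hMH => ?_
  have hiso : M ≤ isoU (hermForm 3 F q) := hM.trans inf_le_left
  obtain ⟨g, hg, hgH⟩ := SetLike.not_le_iff_exists.1 hMH
  obtain ⟨a, b, haa, hbb, hirr⟩ : ∃ a b : Fin 3 → F₀, hrForm D a a = 0 ∧ hrForm D b b = 0 ∧
      hermForm 3 F q ((g : M3) *ᵥ em F₀ P a) (em F₀ P b) *
        σ (hermForm 3 F q ((g : M3) *ᵥ em F₀ P a) (em F₀ P b)) ∉ F₀ := by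
    by_contra hcon
    push Not at hcon
    exact hgH (rational_of_norms D (hiso hg) hcon)
  obtain ⟨δ, hδ, hδσ⟩ := exists_rat_trace_zero D
  have hδb : hrBar D δ = -δ := Subtype.ext (by rw [hrBar_coe, hδσ]; rfl)
  have hgv := (hr_rat_tv D hHM haa (c := δ) hδb).conj hiso hg
  have hvv : hermForm 3 F q ((g : M3) *ᵥ em F₀ P a) ((g : M3) *ᵥ em F₀ P a) = 0 := by
    rw [mem_isoU.1 (hiso hg), hr_em_iso D haa]
  have hb0 : b ≠ 0 := fun h0 => hirr (by rw [h0, em_zero, herm_zero_right D.form, zero_mul]; exact F₀.zero_mem)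
  by_cases hcase : (2 : F) ≠ 0 ∨ ∃ t : F₀, σ (t : F) = t ∧ (t : F) ≠ 0 ∧ (t : F) ≠ 1
  · refine top_of_full D hHM hiso hbig (em_ne_zero F₀ P hb0) (hr_em_iso D hbb)
      (full_of_pair D hHM hbb hvv hδ hδσ hgv (fun hN => hirr ?_) (hcase.imp id fun ⟨t, ht, ht0, ht1⟩ =>
        ⟨t, ht, ht0, ht1, ?_⟩))
    · rw [D.form.herm (em F₀ P b) ((g : M3) *ᵥ em F₀ P a), D.form.involutive, mul_comm] at hN
      exact hN
    · have := hr_rat_tv D hHM hbb (c := δ * t) (Subtype.ext (by
        rw [hrBar_coe]; push_cast; rw [map_mul, hδσ, ht]; ring))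
      simpa using this
  push Not at hcase
  obtain ⟨h2, hsm⟩ := hcase
  haveI : CharP F 2 := (CharP.charP_iff_prime_eq_zero Nat.prime_two).2 (by exact_mod_cast h2)
  have hsmall : ∀ x : F₀, σ (x : F) = x → (x : F) = 0 ∨ (x : F) = 1 := fun x hx =>
    or_iff_not_imp_left.2 (hsm x hx)
  have hδ1 : (δ : F) = 1 := (hsmall δ (by rw [hδσ, CharTwo.neg_eq])).resolve_left hδ
  by_cases htight : ∀ a : Fin 3 → F₀, hrForm D a a = 0 → a ≠ 0 →
      ∀ c : F, TvAt σ (hermForm 3 F q) M (em F₀ P a) c → c = 0 ∨ c = 1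
  · exfalso
    have hq2 : q = 2 ^ r := by
      have h1 : q ^ 2 = (2 ^ r) ^ 2 := by
        rw [← hF, hcard, card_four D hsmall, ← pow_mul, mul_comm r 2, pow_mul]
        norm_num
      exact Nat.pow_left_injective two_ne_zero h1
    have hq3 : q % 3 = 2 := by
      obtain ⟨j, hj⟩ := hrodd
      rw [hq2, hj, pow_succ, pow_mul, Nat.mul_mod, Nat.pow_mod]
      norm_num
    obtain ⟨g4, hg4, h4, h42⟩ := exists_order_four D hsmall
    exact hirr (norm_rational_two D hHM hM htight hsmall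
      (fun T hTM hT hn => three_group_small hF hq3 hM (irreducible D hHM) (hHM hg4) h4 h42 T hTM hT hn) hg haa hbb)
  push Not at htight
  obtain ⟨a₁, ha₁, ha₁0, c, hc, hc0, hc1⟩ := htight
  obtain ⟨hcσ, hcg⟩ := hc
  have hcF : c ∉ F₀ := fun hcm => by
    rcases hsmall ⟨c, hcm⟩ hcσ with e | e
    · exact hc0 e
    · exact hc1 e
  obtain ⟨e, h, w, B⟩ := exists_rb D
  obtain ⟨ee, hh, eh, he, we, wh, ew, hw, ww, wσ⟩ := B.em_facts
  have hut : UT (hermForm 3 F q) M (em F₀ P a₁) c := hcg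
  have hh0 : h ≠ 0 := fun h0 => by rw [h0, em_zero, herm_zero_right D.form] at eh; exact zero_ne_one eh
  obtain ⟨k, hk, hke⟩ := hr_transitive D hHM (by simp) ha₁ B.ee ha₁0 B.e0
  obtain ⟨k', hk', hkh⟩ := hr_transitive D hHM (by simp) ha₁ B.hh ha₁0 hh0
  have hue := hut.conj hiso hk
  have huh := hut.conj hiso hk'
  rw [hke] at hue
  rw [hkh] at huh
  obtain ⟨s, hs⟩ := exists_norm D.form hcσ
  have hv : UT (hermForm 3 F q) M (s • em F₀ P h) (δ : F) := (UT.smul_iff D).2 (by rw [hδ1, one_mul, hs]; exact huh)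
  refine top_of_full D hHM hiso hbig (em_ne_zero F₀ P B.e0) ee
    (full_of_pair D hHM B.ee (by rw [D.form.smul_left, herm_smul_right D.form, hh, mul_zero, mul_zero]) hδ hδσ hv
      ?_ (Or.inr ⟨c, hcσ, hc0, hc1, by rw [hδ1, one_mul]; exact hue⟩))
  rw [herm_smul_right D.form, eh, mul_one, D.form.involutive, mul_comm, hs]
  exact hcF

end CfsgLib.Perm.Trans.UnitThree.HSub
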