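import Cfsg.Agent.Lib.Perm.Trans.UnitThree.SubfPoints
import Cfsg.Agent.Lib.Perm.Trans.UnitSubfNorm
import Cfsg.Agent.Lib.Perm.Dickson.PairTwo

/-!
# Two centres with an irrational product in dimension three

A rational centre and a centre with irrational norm of the product give a full transvection group at the
rational point, unless the rational subfield of the fixed field has two elements and the transvection groups are
of order two.
-/

set_option autoImplicit false
set_option linter.all false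

namespace CfsgLib.Perm.Trans.UnitThree.HSub

open scoped Matrix
open Matrix Cfsg.Geo CfsgLib.Perm.Asch CfsgLib.Perm.Trans CfsgLib.Perm.Trans.Unit CfsgLib.Perm.Trans.UnitThree
open CfsgLib.Perm.Trans.Subf (em lift em_add em_neg em_sub em_smul em_sum em_zero em_injective em_ne_zero exists_coords lift_em lift_mem ext_em)

attribute [local instance] CfsgLib.Perm.Trans.Unit.subfieldFintype

variable {F : Type*} [Field F] [Fintype F]

local notation "M3" => Matrix (Fin 3) (Fin 3) F
local notation "G3" => GL (Fin 3) F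
local notation "V3" => Fin 3 → F

variable {σ : F ≃+* F} {f : (Fin 3 → F) → (Fin 3 → F) → F} {F₀ : Subfield F} {P : GL (Fin 3) F} {r : ℕ}
variable (D : HermRat σ f F₀ P r) {M : Subgroup (GL (Fin 3) F)}
variable (hHM : subfieldSubgroup F₀ P ⊓ (isoU f ⊓ specialLinear (Fin 3) F) ≤ M)
include D hHM

/-- two centres with irrational product -/
theorem full_of_pair {a : Fin 3 → F₀} (haa : hrForm D a a = 0) {v : V3} (hvv : f v v = 0) {δ : F₀}
    (hδ' : (δ : F) ≠ 0) (hδσ' : σ (δ : F) = -(δ : F)) (hv : UT f M v (δ : F))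
    (hirr : f (em F₀ P a) v * σ (f (em F₀ P a) v) ∉ F₀)
    (hextra : (2 : F) ≠ 0 ∨ ∃ t : F, σ t = t ∧ t ≠ 0 ∧ t ≠ 1 ∧ UT f M (em F₀ P a) ((δ : F) * t)) :
    ∀ c : F, σ c = -c → UT f M (em F₀ P a) c := by
  classical
  obtain ⟨E, hE⟩ : ∃ E, E = em F₀ P a := ⟨_, rfl⟩
  obtain ⟨w, hw⟩ : ∃ w, w = f E v := ⟨_, rfl⟩
  rw [← hE] at hextra ⊢
  rw [← hE, ← hw] at hirr
  have hw0 : w ≠ 0 := fun h0 => hirr (by rw [h0, zero_mul]; exact F₀.zero_mem)
  have hEE : f E E = 0 := hE ▸ hr_em_iso D haa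
  have hvE : f v E = σ w := by rw [hw, ← D.form.herm]
  have hσw : σ w ≠ 0 := by simpa using hw0
  let K : Subfield F := RingHom.eqLocusField (σ : F →+* F) (RingHom.id F)
  have hK : ∀ x, x ∈ K ↔ σ x = x := fun x => Iff.rfl
  obtain ⟨μ, hμ⟩ : ∃ μ, μ = (δ : F) * δ * (w * σ w) := ⟨_, rfl⟩
  have hμK : μ ∈ K := (hK _).2 (by rw [hμ, map_mul, map_mul, map_mul, hδσ', D.form.involutive]; ring)
  have hμ0 : (⟨μ, hμK⟩ : K) ∉ F₀.comap K.subtype := fun h => hirr (by
    have h' := F₀.div_mem (show μ ∈ F₀ from h) (F₀.mul_mem δ.2 δ.2)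
    rwa [hμ, mul_div_cancel_left₀ _ (mul_ne_zero hδ' hδ')] at h')
  obtain ⟨V, hV⟩ : ∃ V, V = ((δ : F) * σ w)⁻¹ • v := ⟨_, rfl⟩
  have hvV : v = ((δ : F) * σ w) • V := by
    rw [hV, smul_smul, mul_inv_cancel₀ (mul_ne_zero hδ' hσw), one_smul]
  have hVE : f V E = (δ : F)⁻¹ := by
    rw [hV, D.form.smul_left, hvE]
    field_simp
  have hVv : f V v = 0 := by rw [hV, D.form.smul_left, hvv, mul_zero]
  -- the elements of `M` acting on the plane
  let G : Subgroup (SpecialLinearGroup (Fin 2) K) :=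
    { carrier := {A | ∃ g ∈ M, (g : M3) *ᵥ E = (A.1 0 0 : F) • E + (A.1 1 0 : F) • V ∧
        (g : M3) *ᵥ V = (A.1 0 1 : F) • E + (A.1 1 1 : F) • V ∧
        ∀ x, f x E = 0 → f x v = 0 → (g : M3) *ᵥ x = x}
      one_mem' := ⟨1, M.one_mem, by simp, by simp, fun x _ _ => by simp⟩
      mul_mem' := by
        rintro A B ⟨g, hg, g1, g2, g3⟩ ⟨h, hh, h1, h2', h3⟩
        refine ⟨g * h, M.mul_mem hg hh, ?_, ?_, fun x hx hx' => by rw [gl_mul_mulVec, h3 x hx hx', g3 x hx hx']⟩
        all_goals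
          simp only [gl_mul_mulVec, h1, h2', mulVec_add, mulVec_smul, g1, g2, show (A * B).1 = A.1 * B.1 from rfl,
            Matrix.mul_apply, Fin.sum_univ_two]
          push_cast
          module
      inv_mem' := by
        rintro A ⟨g, hg, g1, g2, g3⟩
        have hdet : (A.1 0 0 : F) * (A.1 1 1 : F) - (A.1 0 1 : F) * (A.1 1 0 : F) = 1 := by
          have h := congrArg Subtype.val ((Matrix.det_fin_two A.1).symm.trans A.2)
          push_cast at h
          exact h
        refine ⟨g⁻¹, M.inv_mem hg, ?_, ?_, fun x hx hx' => ?_⟩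
        · have h : (g : M3) *ᵥ ((A.1 1 1 : F) • E + (-(A.1 1 0 : F)) • V) = E := by
            simp only [mulVec_add, mulVec_smul, g1, g2]
            match_scalars <;> first | linear_combination hdet | ring
          rw [show (A⁻¹).1 = !![A.1 1 1, -A.1 0 1; -A.1 1 0, A.1 0 0] from Matrix.adjugate_fin_two A.1]
          simp only [Matrix.of_apply, Matrix.cons_val', Matrix.cons_val_zero, Matrix.cons_val_one, Matrix.empty_val',
            Matrix.cons_val_fin_one]
          conv_lhs => rw [← h, gl_inv_mulVec]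
          push_cast
          rfl
        · have h : (g : M3) *ᵥ ((-(A.1 0 1 : F)) • E + (A.1 0 0 : F) • V) = V := by
            simp only [mulVec_add, mulVec_smul, g1, g2]
            match_scalars <;> first | linear_combination hdet | ring
          rw [show (A⁻¹).1 = !![A.1 1 1, -A.1 0 1; -A.1 1 0, A.1 0 0] from Matrix.adjugate_fin_two A.1]
          simp only [Matrix.of_apply, Matrix.cons_val', Matrix.cons_val_zero, Matrix.cons_val_one, Matrix.empty_val',
            Matrix.cons_val_fin_one]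
          conv_lhs => rw [← h, gl_inv_mulVec]
          push_cast
          rfl
        · conv_lhs => rw [← g3 x hx hx', gl_inv_mulVec] }
  have hup' : ∀ t : K, UT f M E ((δ : F) * (t : F)) → CfsgLib.Perm.Dickson.upS t ∈ G := by
    rintro t ⟨g, hg, hgx⟩
    refine ⟨g, hg, ?_, ?_, fun x hx _ => by rw [hgx, hx, mul_zero, zero_smul, add_zero]⟩
    · rw [hgx, hEE]; simp [CfsgLib.Perm.Dickson.upS]
    · rw [hgx, hVE]; simp [CfsgLib.Perm.Dickson.upS]
      match_scalars <;> field_simp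
  have hup : ∀ t ∈ F₀.comap K.subtype, CfsgLib.Perm.Dickson.upS t ∈ G := by
    intro t ht
    have htF : (t : F) ∈ F₀ := ht
    obtain ⟨c, hc⟩ : ∃ c : F₀, (c : F) = (δ : F) * t := ⟨⟨_, F₀.mul_mem δ.2 htF⟩, rfl⟩
    refine hup' t ?_
    rw [hE, ← hc]
    exact hr_rat_tv D hHM haa (c := c) (Subtype.ext (by
      rw [hrBar_coe, hc, map_mul, hδσ', (hK _).1 t.2]; push_cast; rw [hc]; ring))
  have hlo : CfsgLib.Perm.Dickson.loS (⟨μ, hμK⟩ : K) ∈ G := by
    obtain ⟨g, hg, hgx⟩ := hv
    refine ⟨g, hg, ?_, ?_, fun x _ hx => by rw [hgx, hx, mul_zero, zero_smul, add_zero]⟩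
    · rw [hgx, ← hw]; simp [CfsgLib.Perm.Dickson.loS]
      rw [hvV, hμ]
      match_scalars <;> ring
    · rw [hgx, hVv]; simp [CfsgLib.Perm.Dickson.loS]
  have hall : ∀ t : K, CfsgLib.Perm.Dickson.upS t ∈ G := by
    by_cases h2 : (2 : F) = 0
    · haveI : CharP K 2 := (CharP.charP_iff_prime_eq_zero Nat.prime_two).2 (K.subtype.injective (by rw [map_natCast, map_zero]; exact_mod_cast h2))
      obtain ⟨t, ht, ht0, ht1, hut⟩ := hextra.resolve_left (not_not_intro h2)
      exact CfsgLib.Perm.Dickson.all_upper_two D.prime (hr_fixed_card D K hK) hup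
        (hup' ⟨t, (hK t).2 ht⟩ hut) (fun h0 => ht0 (congrArg Subtype.val h0))
        (fun h0 => ht1 (congrArg Subtype.val h0)) hμ0 hlo
    · have h2K : (2 : K) ≠ 0 := fun h => h2 (by rw [← map_ofNat K.subtype, h, map_zero])
      exact CfsgLib.Perm.Dickson.all_upper_of_pair h2K D.prime
        (fun h => absurd h (by have := D.two_lt; omega)) (hr_fixed_card D K hK) hup hμ0 hlo
  intro c hc
  have hcK : c / (δ : F) ∈ K := (hK _).2 (by rw [map_div₀, hc, hδσ', neg_div_neg_eq])
  obtain ⟨k, hk⟩ : ∃ k, k = c / (δ : F) := ⟨_, rfl⟩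
  rw [← hk] at hcK
  have hck : c = (δ : F) * k := by rw [hk, mul_div_cancel₀ _ hδ']
  obtain ⟨g, hg, g1, g2, g3⟩ := hall (⟨k, hcK⟩ : K)
  refine ⟨g, hg, fun x => ?_⟩
  simp [CfsgLib.Perm.Dickson.upS] at g1 g2
  obtain ⟨α, hα⟩ : ∃ α, α = f x v / w := ⟨_, rfl⟩
  obtain ⟨β, hβ⟩ : ∃ β, β = (δ : F) * f x E := ⟨_, rfl⟩
  obtain ⟨y, hy⟩ : ∃ y, y = x - α • E - β • V := ⟨_, rfl⟩
  have hyE : f y E = 0 := by
    rw [hy, herm_sub_left D.form, herm_sub_left D.form, D.form.smul_left, D.form.smul_left, hEE, hVE, hβ]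
    field_simp
    ring
  have hyv : f y v = 0 := by
    rw [hy, herm_sub_left D.form, herm_sub_left D.form, D.form.smul_left, D.form.smul_left, hVv, ← hw, hα,
      div_mul_cancel₀ _ hw0]
    ring
  rw [show x = α • E + β • V + y by rw [hy]; abel, mulVec_add, mulVec_add, mulVec_smul, mulVec_smul, g1, g2,
    g3 y hyE hyv, D.form.add_left, D.form.add_left, D.form.smul_left, D.form.smul_left, hEE, hVE, hyE, hck]
  match_scalars <;> field_simp <;> ring

end CfsgLib.Perm.Trans.UnitThree.HSub
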