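import Cfsg.Agent.Lib.Perm.Trans.UnitSubf
import Cfsg.Agent.Lib.Perm.Trans.UnitThree.MonoSylow
import Cfsg.Agent.Lib.Perm.Trans.ThreeDim.UnitaryTv

/-!
# Rational points for subfield structures of odd degree in dimension three

An isometry whose products of images of rational points with rational points have rational norms is in the
subfield group.  A subgroup above the rational group with one full transvection group is everything.
-/

set_option autoImplicit false
set_option linter.all false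

namespace CfsgLib.Perm.Trans.UnitThree.HSub

open scoped Matrix
open Matrix Cfsg.Geo CfsgLib.Perm.Asch CfsgLib.Perm.Trans CfsgLib.Perm.Trans.Unit CfsgLib.Perm.Trans.UnitThree
open CfsgLib.Perm.Trans.Subf (em lift em_add em_neg em_sub em_smul em_sum em_zero em_injective em_ne_zero exists_coords lift_em lift_mem ext_em)

attribute [local instance] CfsgLib.Perm.Trans.Unit.subfieldFintype

variable {F : Type*} [Field F] [Fintype F]

local notation "M3" => Matrix (Fin 3) (Fin 3) F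
local notation "G3" => GL (Fin 3) F
local notation "V3" => Fin 3 → F

variable {σ : F ≃+* F} {f : (Fin 3 → F) → (Fin 3 → F) → F} {F₀ : Subfield F} {P : GL (Fin 3) F} {r : ℕ}

/-- a rational hyperbolic pair and a vector orthogonal to it, with coordinates -/
structure RB (D : HermRat σ f F₀ P r) (e h w : Fin 3 → F₀) : Prop where
  e0 : e ≠ 0
  ee : hrForm D e e = 0
  hh : hrForm D h h = 0
  eh : hrForm D e h = 1
  he : hrForm D h e = 1
  we : hrForm D w e = 0
  wh : hrForm D w h = 0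
  ww : hrForm D w w ≠ 0
  coords : ∀ x : Fin 3 → F₀, x = hrForm D x h • e + hrForm D x e • h + (hrForm D x w / hrForm D w w) • w

variable (D : HermRat σ f F₀ P r)
include D

theorem exists_rb : ∃ e h w : Fin 3 → F₀, RB D e h w := by
  have hf' := hrForm_unitary D
  obtain ⟨e, -, he0, hee⟩ := exists_isotropic hf' (W := ⊤) (by rw [finrank_top, Module.finrank_fin_fun]; norm_num)
  obtain ⟨h, w, hhh, heh, hhe, hwe, hwh, hww, hco⟩ := iso_coords hf' he0 hee
  exact ⟨e, h, w, he0, hee, hhh, heh, hhe, hwe, hwh, hww, hco⟩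

/-- products with the images of a basis determine the vector -/
theorem eq_zero_of_rat {z : V3} (hz : ∀ a : Fin 3 → F₀, f z (em F₀ P a) = 0) : z = 0 := by
  by_contra hz0
  obtain ⟨y, hy⟩ := (D.form.nondegenerate z hz0).2
  obtain ⟨a, rfl⟩ := exists_coords F₀ P y
  simp only [Fin.sum_univ_three, herm_add_right D.form, herm_smul_right D.form, hz, mul_zero, add_zero,
    ne_eq, not_true_eq_false] at hy

variable {e h w : Fin 3 → F₀} (B : RB D e h w)
include B

theorem RB.em_facts : f (em F₀ P e) (em F₀ P e) = 0 ∧ f (em F₀ P h) (em F₀ P h) = 0 ∧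
    f (em F₀ P e) (em F₀ P h) = 1 ∧ f (em F₀ P h) (em F₀ P e) = 1 ∧ f (em F₀ P w) (em F₀ P e) = 0 ∧
    f (em F₀ P w) (em F₀ P h) = 0 ∧ f (em F₀ P e) (em F₀ P w) = 0 ∧ f (em F₀ P h) (em F₀ P w) = 0 ∧
    f (em F₀ P w) (em F₀ P w) ≠ 0 ∧ σ (f (em F₀ P w) (em F₀ P w)) = f (em F₀ P w) (em F₀ P w) :=
  ⟨hr_em_zero D B.ee, hr_em_zero D B.hh, hr_em_one D B.eh, hr_em_one D B.he, hr_em_zero D B.we, hr_em_zero D B.wh,
    herm_swap_zero D.form (hr_em_zero D B.we), herm_swap_zero D.form (hr_em_zero D B.wh),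
    fun hh => B.ww (Subtype.ext hh), (D.form.herm _ _).symm⟩

theorem RB.vec_eq {z : V3} : z = f z (em F₀ P h) • em F₀ P e + f z (em F₀ P e) • em F₀ P h +
    (f z (em F₀ P w) / f (em F₀ P w) (em F₀ P w)) • em F₀ P w := by
  obtain ⟨ee, hh, eh, he, we, wh, ew, hw, ww, wσ⟩ := B.em_facts
  refine sub_eq_zero.1 (eq_zero_of_rat D fun a => ?_)
  rw [B.coords a, em_add, em_add, em_smul, em_smul, em_smul]
  simp only [herm_add_right D.form, herm_smul_right D.form, herm_sub_left D.form, D.form.add_left, D.form.smul_left,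
    ee, hh, eh, he, we, wh, ew, hw, div_mul_cancel₀ _ ww, mul_zero, mul_one, zero_add, add_zero, sub_self]

/-- the isotropic vectors over the basis -/
theorem RB.iso_vec {a b : F₀} (hab : (a : F) + σ (a : F) + (b : F) * σ (b : F) * f (em F₀ P w) (em F₀ P w) = 0) :
    hrForm D (a • e + h + b • w) (a • e + h + b • w) = 0 := by
  obtain ⟨ee, hh, eh, he, we, wh, ew, hw, ww, wσ⟩ := B.em_facts
  refine Subtype.ext ?_
  rw [hrForm_coe, em_add, em_add, em_smul, em_smul]
  simp only [herm_add_right D.form, herm_smul_right D.form, D.form.add_left, D.form.smul_left,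
    ee, hh, eh, he, we, wh, ew, hw, mul_zero, mul_one, zero_add, add_zero]
  push_cast
  linear_combination hab

omit B in
/-- the trace of the subfield is onto its fixed elements -/
theorem exists_rat_trace {d : F₀} (hd : σ (d : F) = d) : ∃ x : F₀, (x : F) + σ (x : F) = d := by
  obtain ⟨x, hx⟩ := exists_trace (hrForm_unitary D) (d := d) (Subtype.ext (by rw [hrBar_coe]; exact hd))
  exact ⟨x, by rw [← hrBar_coe D, ← hx]; rfl⟩

omit B in
theorem exists_rat_trace_zero : ∃ δ : F₀, (δ : F) ≠ 0 ∧ σ (δ : F) = -(δ : F) := by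
  obtain ⟨δ, hδ, hδσ⟩ := exists_trace_zero (hrForm_unitary D)
  exact ⟨δ, fun hh => hδ (Subtype.ext hh), by rw [← hrBar_coe D, hδσ]; rfl⟩

/-- an isotropic vector with rational norms of the products with rational points is rational -/
theorem RB.rational_vec {z : V3} (hzz : f z z = 0)
    (hN : ∀ b : Fin 3 → F₀, hrForm D b b = 0 → f z (em F₀ P b) * σ (f z (em F₀ P b)) ∈ F₀) :
    ∃ (t : F) (d : Fin 3 → F₀), z = t • em F₀ P d := by
  obtain ⟨ee, hh, eh, he, we, wh, ew, hw, ww, wσ⟩ := B.em_facts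
  obtain ⟨W, hW⟩ : ∃ W, W = f (em F₀ P w) (em F₀ P w) := ⟨_, rfl⟩
  rw [← hW] at ww wσ
  have hWF : W ∈ F₀ := hW ▸ D.rat w w
  obtain ⟨δ, hδ, hδσ⟩ := exists_rat_trace_zero D
  obtain ⟨ze, hze⟩ : ∃ ze, ze = f z (em F₀ P h) := ⟨_, rfl⟩
  obtain ⟨zh, hzh⟩ : ∃ zh, zh = f z (em F₀ P e) := ⟨_, rfl⟩
  obtain ⟨zw, hzw⟩ : ∃ zw, zw = f z (em F₀ P w) / W := ⟨_, rfl⟩
  have hz : z = ze • em F₀ P e + zh • em F₀ P h + zw • em F₀ P w := by
    rw [hze, hzh, hzw, hW]; exact B.vec_eq
  by_cases hh0 : zh = 0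
  · refine ⟨ze, e, ?_⟩
    have h1 : W * (zw * σ zw) = 0 := by
      have := hzz
      rw [hz, hh0] at this
      simp only [herm_add_right D.form, herm_smul_right D.form, D.form.add_left, D.form.smul_left, ← hW,
        ee, hh, eh, he, we, wh, ew, hw, mul_zero, zero_mul, zero_add, add_zero, map_zero] at this
      linear_combination this
    have h2 : zw = 0 := by simpa [ww] using h1
    rw [hz, hh0, h2, zero_smul, zero_smul, add_zero, add_zero]
  -- first step: the product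
  have hNe := hN h B.hh
  have hNh := hN e B.ee
  rw [← hze] at hNe
  rw [← hzh] at hNh
  obtain ⟨p, hp⟩ : ∃ p, p = ze * σ zh := ⟨_, rfl⟩
  have hpF : p ∈ F₀ := by
    have hiso : hrForm D (δ • e + h + (0 : F₀) • w) (δ • e + h + (0 : F₀) • w) = 0 :=
      RB.iso_vec D B (by rw [hδσ]; push_cast; simp)
    have hv := hN _ hiso
    rw [zero_smul, add_zero, em_add, em_smul, herm_add_right D.form, herm_smul_right D.form, ← hze, ← hzh, hδσ] at hv
    simp only [map_add, map_mul, map_neg, D.form.involutive, hδσ] at hv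
    have hd : p - σ p ∈ F₀ := by
      have h1 := F₀.sub_mem (F₀.sub_mem hv hNe) (F₀.mul_mem (F₀.neg_mem (F₀.mul_mem δ.2 δ.2)) hNh)
      have h2 : (δ : F) * (p - σ p) ∈ F₀ := by
        convert h1 using 1
        rw [hp, map_mul, D.form.involutive]
        ring
      have h3 := F₀.div_mem h2 δ.2
      rwa [mul_div_cancel_left₀ _ hδ] at h3
    have hn : p * σ p ∈ F₀ := by
      have h1 := F₀.mul_mem hNe hNh
      rwa [show ze * σ ze * (zh * σ zh) = p * σ p by rw [hp, map_mul, D.form.involutive]; ring] at h1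
    exact hr_mem_of_quad D hd hn (by ring)
  -- normalise
  obtain ⟨N, hNdef⟩ : ∃ N, N = zh * σ zh := ⟨_, rfl⟩
  rw [← hNdef] at hNh
  have hσh : σ zh ≠ 0 := by simpa using hh0
  have hN0 : N ≠ 0 := hNdef ▸ mul_ne_zero hh0 hσh
  obtain ⟨x, hx⟩ : ∃ x, x = ze / zh := ⟨_, rfl⟩
  have hxF : x ∈ F₀ := by
    have h1 := F₀.div_mem hpF hNh
    rwa [show p / N = x by rw [hp, hNdef, hx]; field_simp] at h1
  obtain ⟨c, hc⟩ : ∃ c, c = zw / zh := ⟨_, rfl⟩
  have hze' : ze = zh * x := by rw [hx, mul_div_cancel₀ _ hh0]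
  have hzw' : zw = zh * c := by rw [hc, mul_div_cancel₀ _ hh0]
  rw [hze', hzw', mul_smul, mul_smul, ← smul_add, ← smul_add] at hz
  have hzz' : x + σ x + W * (c * σ c) = 0 := by
    have h1 := hzz
    rw [hz, D.form.smul_left, herm_smul_right D.form, mul_eq_zero, mul_eq_zero] at h1
    have h2 := (h1.resolve_left hh0).resolve_left hσh
    simp only [herm_add_right D.form, herm_smul_right D.form, D.form.add_left, D.form.smul_left, ← hW,
      ee, hh, eh, he, we, wh, ew, hw, mul_zero, mul_one, zero_add, add_zero] at h2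
    linear_combination h2
  have hcc : c * σ c ∈ F₀ := by
    have h1 := F₀.div_mem (F₀.neg_mem (F₀.add_mem hxF (hr_bar_mem D hxF))) hWF
    rwa [show -(x + σ x) / W = c * σ c by rw [div_eq_iff ww]; linear_combination -hzz'] at h1
  have key : ∀ β : F₀, W * σ (β : F) * c - σ (W * σ (β : F) * c) ∈ F₀ := by
    intro β
    obtain ⟨α, hα⟩ := exists_rat_trace D (d := ⟨-((β : F) * σ (β : F) * W),
      F₀.neg_mem (F₀.mul_mem (F₀.mul_mem β.2 (hr_bar_mem D β.2)) hWF)⟩)
      (by show σ (-((β : F) * σ (β : F) * W)) = _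
          rw [map_neg, map_mul, map_mul, D.form.involutive, wσ]; ring)
    have hα' : (α : F) + σ (α : F) + (β : F) * σ (β : F) * W = 0 := by
      rw [hα]; exact neg_add_cancel _
    have val : ∀ a : F₀, (a : F) + σ (a : F) + (β : F) * σ (β : F) * W = 0 →
        (x + σ (a : F) + W * σ (β : F) * c) * σ (x + σ (a : F) + W * σ (β : F) * c) ∈ F₀ := by
      intro a ha
      have h1 := hN _ (RB.iso_vec D B (a := a) (b := β) (by rw [← hW]; exact ha))
      have h2 : f z (em F₀ P (a • e + h + β • w)) = zh * (x + σ (a : F) + W * σ (β : F) * c) := by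
        rw [hz, em_add, em_add, em_smul, em_smul]
        simp only [D.form.smul_left, herm_add_right D.form, herm_smul_right D.form, D.form.add_left, ← hW,
          ee, hh, eh, he, we, wh, ew, hw, mul_zero, mul_one, zero_add, add_zero]
        ring
      rw [h2, map_mul, mul_mul_mul_comm, ← hNdef] at h1
      have h3 := F₀.div_mem h1 hNh
      rwa [mul_div_cancel_left₀ _ hN0] at h3
    have v1 := val α hα'
    have v2 := val (α + δ) (by push_cast; rw [map_add, hδσ]; linear_combination hα')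
    push_cast [map_add, hδσ] at v2
    have hA : x + σ (α : F) ∈ F₀ := F₀.add_mem hxF (hr_bar_mem D α.2)
    have h1 := F₀.sub_mem (F₀.sub_mem v1 v2) (F₀.sub_mem (F₀.mul_mem hA (hr_bar_mem D hA))
      (F₀.mul_mem (F₀.sub_mem hA δ.2) (hr_bar_mem D (F₀.sub_mem hA δ.2))))
    have h2 : (δ : F) * (σ (W * σ (β : F) * c) - W * σ (β : F) * c) ∈ F₀ := by
      convert h1 using 1
      simp only [map_add, map_sub, map_mul, hδσ, map_neg, D.form.involutive, wσ]
      ring
    have h3 := F₀.neg_mem (F₀.div_mem h2 δ.2)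
    rwa [mul_div_cancel_left₀ _ hδ, neg_sub] at h3
  have hcF : c ∈ F₀ := by
    obtain ⟨θ, hθ⟩ := hr_not_fixed D
    have h1 := key 1
    have h2 := key θ
    rw [OneMemClass.coe_one, map_one, mul_one, map_mul, wσ] at h1
    rw [map_mul, map_mul, wσ, D.form.involutive] at h2
    have h3 := F₀.sub_mem h2 (F₀.mul_mem θ.2 h1)
    have h4 := F₀.div_mem h3 (F₀.mul_mem hWF (F₀.sub_mem (hr_bar_mem D θ.2) θ.2))
    rwa [show (W * σ (θ : F) * c - W * (θ : F) * σ c - θ * (W * c - W * σ c)) / (W * (σ (θ : F) - θ)) = c by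
      rw [div_eq_iff (mul_ne_zero ww (sub_ne_zero.2 hθ))]; ring] at h4
  refine ⟨zh, (⟨x, hxF⟩ : F₀) • e + h + (⟨c, hcF⟩ : F₀) • w, ?_⟩
  rw [em_add, em_add, em_smul, em_smul]
  exact hz

omit B in
/-- an isometry with rational norms is in the subfield group -/
theorem rational_of_norms {g : G3} (hg : g ∈ isoU f)
    (hN : ∀ a b : Fin 3 → F₀, hrForm D a a = 0 → hrForm D b b = 0 →
      f ((g : M3) *ᵥ em F₀ P a) (em F₀ P b) * σ (f ((g : M3) *ᵥ em F₀ P a) (em F₀ P b)) ∈ F₀) :
    g ∈ subfieldSubgroup F₀ P := by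
  obtain ⟨e, h, w, B⟩ := exists_rb D
  obtain ⟨ee, hh, eh, he, we, wh, ew, hw, ww, wσ⟩ := B.em_facts
  have hiso := mem_isoU.1 hg
  have line : ∀ a, hrForm D a a = 0 → ∃ (t : F) (d : Fin 3 → F₀), (g : M3) *ᵥ em F₀ P a = t • em F₀ P d :=
    fun a ha => RB.rational_vec D B (by rw [hiso, hr_em_iso D ha]) (fun b hb => hN a b ha hb)
  obtain ⟨W, hW⟩ : ∃ W, W = f (em F₀ P w) (em F₀ P w) := ⟨_, rfl⟩
  rw [← hW] at ww wσ
  have hWF : W ∈ F₀ := hW ▸ D.rat w w
  obtain ⟨α, hα⟩ := exists_rat_trace D (d := ⟨-W, F₀.neg_mem hWF⟩) (by show σ (-W) = -W; rw [map_neg, wσ])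
  have hα' : (α : F) + σ (α : F) + W = 0 := by rw [hα]; exact neg_add_cancel _
  have hσα : σ (α : F) ≠ 0 := fun h0 => ww (by
    have h1 : (α : F) = 0 := by simpa using h0
    rw [h1, map_zero, zero_add, zero_add] at hα'
    exact hα')
  obtain ⟨b, hb⟩ : ∃ b, b = α • e + h + (1 : F₀) • w := ⟨_, rfl⟩
  have hbb : hrForm D b b = 0 := hb ▸ RB.iso_vec D B (by rw [OneMemClass.coe_one, map_one, ← hW]; linear_combination hα')
  obtain ⟨l, e', he'⟩ := line e B.ee
  obtain ⟨m, h', hh'⟩ := line h B.hh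
  obtain ⟨n, b', hb'⟩ := line b hbb
  have hfb : f (em F₀ P e) (em F₀ P b) = 1 ∧ f (em F₀ P h) (em F₀ P b) = σ (α : F) := by
    rw [hb, one_smul, em_add, em_add, em_smul]
    simp only [herm_add_right D.form, herm_smul_right D.form, ee, eh, hh, he, ew, hw, mul_zero, mul_one, zero_add,
      add_zero, and_self]
  have e1 : l * σ m * f (em F₀ P e') (em F₀ P h') = 1 := by
    have := hiso (em F₀ P e) (em F₀ P h)
    rw [he', hh', eh, D.form.smul_left, herm_smul_right D.form] at this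
    linear_combination this
  have e2 : l * σ n * f (em F₀ P e') (em F₀ P b') = 1 := by
    have := hiso (em F₀ P e) (em F₀ P b)
    rw [he', hb', hfb.1, D.form.smul_left, herm_smul_right D.form] at this
    linear_combination this
  have e3 : m * σ n * f (em F₀ P h') (em F₀ P b') = σ (α : F) := by
    have := hiso (em F₀ P h) (em F₀ P b)
    rw [hh', hb', hfb.2, D.form.smul_left, herm_smul_right D.form] at this
    linear_combination this
  obtain ⟨A, hA⟩ : ∃ A, A = f (em F₀ P e') (em F₀ P h') := ⟨_, rfl⟩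
  obtain ⟨B', hB'⟩ : ∃ B', B' = f (em F₀ P e') (em F₀ P b') := ⟨_, rfl⟩
  obtain ⟨C, hC⟩ : ∃ C, C = f (em F₀ P h') (em F₀ P b') := ⟨_, rfl⟩
  rw [← hA] at e1
  rw [← hB'] at e2
  rw [← hC] at e3
  have hAF : A ∈ F₀ := hA ▸ D.rat e' h'
  have hBF : B' ∈ F₀ := hB' ▸ D.rat e' b'
  have hCF : C ∈ F₀ := hC ▸ D.rat h' b'
  have hm0 : m ≠ 0 := fun h0 => by simp [h0] at e1
  have hσm : σ m ≠ 0 := by simpa using hm0
  have hA0 : A ≠ 0 := fun h0 => by simp [h0] at e1
  have hB0 : B' ≠ 0 := fun h0 => by simp [h0] at e2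
  have hn0 : σ n ≠ 0 := fun h0 => by simp [h0] at e2
  have hC0 : C ≠ 0 := fun h0 => hσα (by rw [← e3, h0, mul_zero])
  have hlm : l / m ∈ F₀ := by
    have h1 := F₀.div_mem hCF (F₀.mul_mem hBF (hr_bar_mem D α.2))
    rwa [show C / (B' * σ (α : F)) = l / m by
      rw [div_eq_div_iff (mul_ne_zero hB0 hσα) hm0]
      linear_combination (-(C * m)) * e2 + (l * B') * e3] at h1
  have hl0 : l ≠ 0 := fun h0 => by simp [h0] at e1
  have hmm : m * σ m ∈ F₀ := by
    have h1 := F₀.inv_mem (F₀.mul_mem hlm hAF)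
    rwa [show (l / m * A)⁻¹ = m * σ m by
      refine inv_eq_of_mul_eq_one_right ?_
      field_simp
      linear_combination e1] at h1
  have hnm : n / m ∈ F₀ := by
    have h1 := hr_bar_mem D (F₀.div_mem (F₀.div_mem (hr_bar_mem D α.2) hCF) hmm)
    rwa [show σ (α : F) / C / (m * σ m) = σ n / σ m by rw [← e3]; field_simp, map_div₀, D.form.involutive,
      D.form.involutive] at h1
  let S : Submodule F₀ (Fin 3 → F₀) :=
    { carrier := {x | ∃ y, (g : M3) *ᵥ em F₀ P x = m • em F₀ P y}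
      add_mem' := fun {x x'} ⟨y, hy⟩ ⟨y', hy'⟩ => ⟨y + y', by rw [em_add, mulVec_add, hy, hy', em_add, smul_add]⟩
      zero_mem' := ⟨0, by rw [em_zero, mulVec_zero, smul_zero]⟩
      smul_mem' := fun k x ⟨y, hy⟩ => ⟨k • y, by rw [em_smul, mulVec_smul, hy, em_smul, smul_comm]⟩ }
  have heS : e ∈ S := ⟨(⟨l / m, hlm⟩ : F₀) • e', by rw [em_smul, smul_smul, mul_div_cancel₀ _ hm0]; exact he'⟩
  have hhS : h ∈ S := ⟨h', hh'⟩
  have hbS : b ∈ S := ⟨(⟨n / m, hnm⟩ : F₀) • b', by rw [em_smul, smul_smul, mul_div_cancel₀ _ hm0]; exact hb'⟩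
  have hwS : w ∈ S := by
    have : b - α • e - h = w := by rw [hb, one_smul]; abel
    exact this ▸ S.sub_mem (S.sub_mem hbS (S.smul_mem α heS)) hhS
  refine Subf.mem_subfieldSubgroup_of_image F₀ P hm0 fun i => ?_
  show Pi.single i 1 ∈ S
  rw [B.coords (Pi.single i 1)]
  exact S.add_mem (S.add_mem (S.smul_mem _ heS) (S.smul_mem _ hhS)) (S.smul_mem _ hwS)

omit B

variable {M : Subgroup (GL (Fin 3) F)} (hHM : subfieldSubgroup F₀ P ⊓ (isoU f ⊓ specialLinear (Fin 3) F) ≤ M)
include hHM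

/-- overgroups of the rational group are irreducible -/
theorem irreducible (W : Submodule F V3) (hW : ∀ g ∈ M, ∀ v ∈ W, (g : M3) *ᵥ v ∈ W) : W = ⊥ ∨ W = ⊤ := by
  refine or_iff_not_imp_left.2 fun hne => ?_
  obtain ⟨e, h, w, B⟩ := exists_rb D
  obtain ⟨z, hzW, hz0⟩ := Submodule.exists_mem_ne_zero_of_ne_bot hne
  obtain ⟨δ, hδ, hδσ⟩ := exists_rat_trace_zero D
  obtain ⟨ee, hh, eh, he, we, wh, ew, hw, ww, wσ⟩ := B.em_facts
  obtain ⟨α, hα⟩ := exists_rat_trace D (d := ⟨-f (em F₀ P w) (em F₀ P w), F₀.neg_mem (D.rat w w)⟩)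
    (by show σ (-f (em F₀ P w) (em F₀ P w)) = _; rw [map_neg, wσ])
  have hbb : hrForm D (α • e + h + (1 : F₀) • w) (α • e + h + (1 : F₀) • w) = 0 := RB.iso_vec D B (by
    rw [OneMemClass.coe_one, map_one, hα, one_mul, one_mul]; exact neg_add_cancel _)
  have hone : ∃ a : Fin 3 → F₀, hrForm D a a = 0 ∧ a ≠ 0 ∧ f z (em F₀ P a) ≠ 0 := by
    by_contra hcon
    push Not at hcon
    have h1 : ∀ a, hrForm D a a = 0 → f z (em F₀ P a) = 0 := fun a ha => by
      by_cases ha0 : a = 0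
      · rw [ha0, em_zero, herm_zero_right D.form]
      · exact hcon a ha ha0
    refine hz0 ?_
    have hb := h1 _ hbb
    rw [one_smul, em_add, em_add, em_smul, herm_add_right D.form, herm_add_right D.form, herm_smul_right D.form,
      h1 e B.ee, h1 h B.hh, mul_zero, zero_add, zero_add] at hb
    rw [B.vec_eq (z := z), h1 e B.ee, h1 h B.hh, hb, zero_div]
    simp
  obtain ⟨a, haa, ha0, hza⟩ := hone
  have haW : em F₀ P a ∈ W := by
    obtain ⟨g, hg, hgx⟩ := hr_rat_tv D hHM haa (c := δ) (Subtype.ext (by rw [hrBar_coe, hδσ]; rfl))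
    have h1 := W.sub_mem (hW g hg z hzW) hzW
    rwa [hgx, add_sub_cancel_left, Submodule.smul_mem_iff _ (mul_ne_zero hδ hza)] at h1
  have hall : ∀ b, hrForm D b b = 0 → em F₀ P b ∈ W := fun b hb => by
    by_cases hb0 : b = 0
    · rw [hb0, em_zero]; exact W.zero_mem
    · obtain ⟨g, hg, hgb⟩ := hr_transitive D hHM (by simp) haa hb ha0 hb0
      exact hgb ▸ hW g hg _ haW
  refine eq_top_iff.2 fun v _ => ?_
  have hwW : em F₀ P w ∈ W := by
    have h1 := hall _ hbb
    rw [one_smul, em_add, em_add, em_smul] at h1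
    rwa [Submodule.add_mem_iff_right] at h1
    exact W.add_mem (W.smul_mem _ (hall e B.ee)) (hall h B.hh)
  rw [B.vec_eq (z := v)]
  exact W.add_mem (W.add_mem (W.smul_mem _ (hall e B.ee)) (W.smul_mem _ (hall h B.hh))) (W.smul_mem _ hwW)

/-- a full transvection group gives everything -/
theorem top_of_full (hM : M ≤ isoU f) (hbig : 4 < Fintype.card F) {u : V3} (hu : u ≠ 0) (huu : f u u = 0)
    (hall : ∀ c : F, σ c = -c → UT f M u c) : isoU f ⊓ specialLinear (Fin 3) F ≤ M := by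
  refine isoU_inf_SL_le D.form (ThreeDim.hasTv_top_of_irreducible D.form hM (irreducible D hHM) hu huu
    fun c hc => ?_) (Or.inr hbig)
  obtain ⟨z, hz, hzx⟩ := hall c hc
  have h0 : (c • hv D.form u) ⬝ᵥ u = 0 := by rw [smul_dotProduct, hv_dot, huu, smul_zero]
  have e : tv u (c • hv D.form u) h0 = z := gl_ext_vec fun x => by
    rw [tv_mulVec, hzx, smul_dotProduct, hv_dot, smul_eq_mul]
  exact ⟨h0, e ▸ hz⟩

end CfsgLib.Perm.Trans.UnitThree.HSub
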