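import Cfsg.Agent.Lib.Perm.Trans.UnitThree.SubfTwoBase
import Cfsg.Agent.Lib.GW.Setting

/-!
# The rational group over four elements: products of transvections

The products of an involution with its conjugates are in the odd core by the Z*-theorem; for a prime at least
five the invariant Sylow subgroup is inverted and central in its normaliser in the core, so that the elements of
three-power order of the core form a subgroup.  If that subgroup is small the products have order dividing three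
and the norms are rational.
-/

set_option autoImplicit false
set_option linter.all false

namespace CfsgLib.Perm.Trans.UnitThree.HSub

open scoped Matrix
open Matrix Cfsg.Geo CfsgLib.Perm.Asch CfsgLib.Perm.Trans CfsgLib.Perm.Trans.Unit CfsgLib.Perm.Trans.UnitThree
open CfsgLib.Perm.Trans.Subf (em lift em_add em_neg em_sub em_smul em_sum em_zero em_injective em_ne_zero exists_coords lift_em lift_mem ext_em)

attribute [local instance] CfsgLib.Perm.Trans.Unit.subfieldFintype

variable {F : Type*} [Field F] [Fintype F] [CharP F 2]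

local notation "M3" => Matrix (Fin 3) (Fin 3) F
local notation "G3" => GL (Fin 3) F
local notation "V3" => Fin 3 → F

variable {σ : F ≃+* F} {f : (Fin 3 → F) → (Fin 3 → F) → F} {F₀ : Subfield F} {P : GL (Fin 3) F} {r : ℕ}

omit [Fintype F] in
/-- the action of a product of two transvections -/
theorem prod_apply (hf : IsUnitaryForm σ f) {u v : V3} {z z' : G3} (hz : Rt f u z) (hz' : Rt f v z') (y : V3) :
    ((z * z' : G3) : M3) *ᵥ y = y + f y v • v + (f y u + f y v * f v u) • u := by
  rw [gl_mul_mulVec, hz', hz, hf.add_left, hf.smul_left]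

omit [CharP F 2] in
theorem prod_trace (hf : IsUnitaryForm σ f) {u v : V3} {z z' : G3} (hz : Rt f u z) (hz' : Rt f v z') :
    ((z * z' : G3) : M3).trace = 3 + f v v + f u u + f v u * f u v := by
  have h1 : ∀ {w : V3} {g : G3}, Rt f w g → (g : M3) = 1 + vecMulVec w (hv hf w) := fun hg =>
    Matrix.ext_iff_mulVec.2 fun x => by
      rw [hg, add_mulVec, one_mulVec, vecMulVec_mulVec, op_smul_eq_smul, hv_dot]
  rw [Units.val_mul, h1 hz, h1 hz', add_mul, one_mul, mul_add, mul_one, vecMulVec_mul_vecMulVec,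
    vecMulVec_smul, Matrix.trace_add, Matrix.trace_add, Matrix.trace_add, Matrix.trace_one, Matrix.trace_smul,
    Matrix.trace_vecMulVec, Matrix.trace_vecMulVec, Matrix.trace_vecMulVec, dotProduct_comm v, dotProduct_comm u,
    dotProduct_comm u, hv_dot, hv_dot, hv_dot, hv_dot, Fintype.card_fin, smul_eq_mul]
  push_cast
  ring

variable (D : HermRat σ f F₀ P r) {M : Subgroup (GL (Fin 3) F)}
variable (hHM : subfieldSubgroup F₀ P ⊓ (isoU f ⊓ specialLinear (Fin 3) F) ≤ M)
variable (hM : M ≤ isoU f ⊓ specialLinear (Fin 3) F)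
variable (htight : ∀ a : Fin 3 → F₀, hrForm D a a = 0 → a ≠ 0 → ∀ c : F, TvAt σ f M (em F₀ P a) c → c = 0 ∨ c = 1)

include D hHM hM htight

variable {e h w : Fin 3 → F₀} (B : RB D e h w) (hW : f (em F₀ P w) (em F₀ P w) = 1)
variable {z : GL (Fin 3) F} (hz : z ∈ M) (hzu : Rt f (em F₀ P e) z)
include B hW hz hzu

/-- the data of an element inverted by the transvection -/
theorem inverted_data {y : G3} (hy : y ∈ M) (hinv : z * y * z⁻¹ = y⁻¹) {n : ℕ} (hn : Odd n) (hyn : y ^ n = 1)
    (hy1 : y ≠ 1) :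
    ∃ v, f v v = 0 ∧ f (em F₀ P e) v ≠ 0 ∧ Rt f v (z * y) ∧ ∃ l : V3, l ≠ 0 ∧ f l (em F₀ P e) = 0 ∧ f l v = 0 ∧
      (y : M3) *ᵥ l = l ∧ ∀ x : V3, (y : M3) *ᵥ x = x → ∃ k : F, x = k • l := by
  have hee := hr_em_iso D B.ee
  have hu0 := em_ne_zero F₀ P B.e0
  have hzz := hzu.sq D.form hee
  have hz' : z⁻¹ = z := inv_eq_of_mul_eq_one_right hzz
  rw [hz'] at hinv
  have hw2 : z * y * (z * y) = 1 := by rw [← mul_assoc, hinv, inv_mul_cancel]
  have hw1 : z * y ≠ 1 := fun e1 => by
    have hyz : y = z := by rw [← hz']; exact eq_inv_of_mul_eq_one_right e1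
    obtain ⟨k, hk⟩ := hn
    rw [hyz, hk, pow_succ, pow_mul, pow_two, hzz, one_pow, one_mul] at hyn
    exact hzu.ne_one D.form hu0 hyn
  obtain ⟨v, hv, hvv, hvx⟩ := rt_of_invol D hM (M.mul_mem hz hy) hw2 hw1
  have hyeq : z * (z * y) = y := by rw [← mul_assoc, hzz, one_mul]
  have huv : f (em F₀ P e) v ≠ 0 := fun h0 => by
    obtain ⟨k, hk⟩ := Submodule.mem_span_singleton.1 (eq_smul_of_orth D.form (by simp) hu0 hee hvv h0)
    have hk0 : k ≠ 0 := fun h1 => hv (by rw [← hk, h1, zero_smul])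
    exact hy1 (mul_eq_left.1 (centre_unique D hHM hM htight hz (M.mul_mem hz hy) hu0 hee hk0 hk.symm hzu hvx).symm)
  refine ⟨v, hvv, huv, hvx, em F₀ P w - (f (em F₀ P w) v / f (em F₀ P e) v) • em F₀ P e, ?_⟩
  obtain ⟨-, -, eh, -, we, wh, ew, -, -, -⟩ := B.em_facts
  have hlu : f (em F₀ P w - (f (em F₀ P w) v / f (em F₀ P e) v) • em F₀ P e) (em F₀ P e) = 0 := by
    rw [herm_sub_left D.form, D.form.smul_left, we, hee, mul_zero, sub_zero]
  have hlv : f (em F₀ P w - (f (em F₀ P w) v / f (em F₀ P e) v) • em F₀ P e) v = 0 := by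
    rw [herm_sub_left D.form, D.form.smul_left, div_mul_cancel₀ _ huv, sub_self]
  refine ⟨fun h0 => ?_, hlu, hlv, ?_, fun x hx => ?_⟩
  · have := congrArg (fun x => f x (em F₀ P w)) h0
    simp only [herm_sub_left D.form, D.form.smul_left, hW, ew, mul_zero, sub_zero, herm_zero_left D.form] at this
    exact one_ne_zero this
  · rw [← hyeq, prod_apply D.form hzu hvx, hlu, hlv]
    simp
  · rw [← hyeq, prod_apply D.form hzu hvx, add_assoc, add_eq_left] at hx
    have h1 := congrArg (fun x => f x (em F₀ P e)) hx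
    simp only [D.form.add_left, D.form.smul_left, hee, mul_zero, add_zero, herm_zero_left D.form, mul_eq_zero] at h1
    have hxv : f x v = 0 := h1.resolve_right fun h0 => huv (herm_swap_zero D.form h0)
    rw [hxv, zero_smul, zero_add, zero_mul, add_zero, smul_eq_zero] at hx
    exact fixed_line D B hW huv (hx.resolve_right hu0) hxv

/-- commuting inverted elements fix the same line -/
theorem shared_line {x y : G3} (hx : x ∈ M) (hinv : z * x * z⁻¹ = x⁻¹) {l : V3} (hxl : (x : M3) *ᵥ l = l)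
    (hlu : f l (em F₀ P e) = 0) (hl : l ≠ 0) (huniq : ∀ x' : V3, (x : M3) *ᵥ x' = x' → ∃ k : F, x' = k • l)
    (hy : y ∈ M) (hyinv : z * y * z⁻¹ = y⁻¹) (hc : x * y = y * x) : (y : M3) *ᵥ l = l := by
  obtain ⟨c, hyl⟩ := huniq ((y : M3) *ᵥ l) (by rw [← gl_mul_mulVec, hc, gl_mul_mulVec, hxl])
  have hzl : (z : M3) *ᵥ l = l := by rw [hzu, hlu, zero_smul, add_zero]
  have hzl' : ((z⁻¹ : G3) : M3) *ᵥ l = l := by
    conv_lhs => rw [← hzl, gl_inv_mulVec]
  have h1 : ((y⁻¹ : G3) : M3) *ᵥ l = c • l := by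
    rw [← hyinv, gl_mul_mulVec, gl_mul_mulVec, hzl', hyl, mulVec_smul, hzl]
  have h2 : (c * c) • l = (1 : F) • l := by
    have := congrArg (fun x => (y : M3) *ᵥ x) h1
    simp only [gl_mulVec_inv, mulVec_smul, hyl, smul_smul] at this
    rw [one_smul]
    exact this.symm
  have h3 := smul_left_injective F hl h2
  have hc1 : c = 1 := by
    have : (c + 1) * (c + 1) = 0 := by linear_combination h3 + (c + 1) * (CharTwo.two_eq_zero : (2 : F) = 0)
    exact CharTwo.add_eq_zero.1 (by simpa using this)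
  rw [hyl, hc1, one_smul]

/-- a conjugation preserving an inverted abelian group is trivial on it -/
theorem conj_eq_or_inv {x y : G3} (hx : x ∈ M) (hinv : z * x * z⁻¹ = x⁻¹) {n : ℕ} (hn : Odd n) (hxn : x ^ n = 1)
    (hx1 : x ≠ 1) (hy : y ∈ M) (hyinv : z * y * z⁻¹ = y⁻¹) (hyn : y ^ n = 1) (hy1 : y ≠ 1)
    (hc : x * y = y * x) (htr : ((x : M3)).trace = ((y : M3)).trace) : y = x ∨ y = x⁻¹ := by
  obtain ⟨u, hu⟩ : ∃ u, u = em F₀ P e := ⟨_, rfl⟩
  obtain ⟨v, hvv, huv, hvx, l, hl, hlu, hlv, hxl, huniq⟩ := inverted_data D hHM hM htight B hW hz hzu hx hinv hn hxn hx1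
  obtain ⟨v', hvv', huv', hvx', l', hl', hlu', hlv', hyl', huniq'⟩ :=
    inverted_data D hHM hM htight B hW hz hzu hy hyinv hn hyn hy1
  have hee := hr_em_iso D B.ee
  have hu0 := em_ne_zero F₀ P B.e0
  have hzz := hzu.sq D.form hee
  have hz' : z⁻¹ = z := inv_eq_of_mul_eq_one_right hzz
  have hxeq : z * (z * x) = x := by rw [← mul_assoc, hzz, one_mul]
  have hyeq : z * (z * y) = y := by rw [← mul_assoc, hzz, one_mul]
  obtain ⟨k, hk⟩ := huniq' l (shared_line D hHM hM htight B hW hz hzu hx hinv hxl hlu hl huniq hy hyinv hc)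
  have hk0 : k ≠ 0 := fun h0 => hl (by rw [hk, h0, zero_smul])
  have hlv'' : f l v' = 0 := by rw [hk, D.form.smul_left, hlv', mul_zero]
  rw [← hxeq, ← hyeq, prod_trace D.form hzu hvx, prod_trace D.form hzu hvx', hvv, hvv', hee] at htr
  rw [← hu] at hee hu0 hlu huv huv' hzu htr
  obtain ⟨d, hd⟩ : ∃ d, d = f u v := ⟨_, rfl⟩
  have hd0 : d ≠ 0 := hd ▸ huv
  have hvu : f v u = σ d := by rw [hd, ← D.form.herm]
  obtain ⟨p, hp⟩ : ∃ p, p = f v' u / σ d := ⟨_, rfl⟩
  have hσd : σ d ≠ 0 := by simpa using hd0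
  have hp0 : p ≠ 0 := hp ▸ div_ne_zero (fun h0 => huv' (herm_swap_zero D.form h0)) hσd
  have hNp : p * σ p = 1 := by
    have e1 : f v' u = p * σ d := by rw [hp, div_mul_cancel₀ _ hσd]
    have e2 : f u v' = σ p * d := by rw [D.form.herm, e1, map_mul, D.form.involutive]
    rw [e1, e2, hvu, ← hd] at htr
    refine mul_right_cancel₀ (mul_ne_zero hσd hd0) ?_
    linear_combination -htr
  obtain ⟨v1, hv1⟩ : ∃ v1, v1 = p⁻¹ • v' := ⟨_, rfl⟩
  have hv1x : Rt f v1 (z * y) := fun x' => by
    rw [hvx', hv1, herm_smul_right D.form, smul_smul, map_inv₀]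
    congr 2
    rw [show (σ p)⁻¹ * f x' v' * p⁻¹ = f x' v' * (p * σ p)⁻¹ by rw [mul_inv]; ring, hNp, inv_one, mul_one]
  have hv1u : f v1 u = σ d := by
    rw [hv1, D.form.smul_left, hp]
    have := fun h0 => huv' (herm_swap_zero D.form h0)
    field_simp
  have hlv1 : f l v1 = 0 := by rw [hv1, herm_smul_right D.form, hlv'', mul_zero]
  have hv1v1 : f v1 v1 = 0 := by rw [hv1, D.form.smul_left, herm_smul_right D.form, hvv', mul_zero, mul_zero]
  -- the difference is a multiple of `u`
  obtain ⟨s, hs⟩ : ∃ s : F, v1 = v + s • u := by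
    obtain ⟨t, ht⟩ : ∃ t, t = v1 - v := ⟨_, rfl⟩
    have h1 : f t u = 0 := by rw [ht, herm_sub_left D.form, hv1u, hvu, sub_self]
    have h2 : f t l = 0 := herm_swap_zero D.form (by rw [ht, herm_sub_right D.form, hlv1, hlv, sub_self])
    obtain ⟨-, -, eh, -, we, wh, ew, -, -, -⟩ := B.em_facts
    have hco := B.vec_eq (z := t)
    rw [hW, div_one, ← hu, h1, zero_smul, add_zero] at hco
    refine ⟨f t (em F₀ P h), ?_⟩
    have hz0 : f t (em F₀ P w) = 0 := by
      obtain ⟨k', hk'⟩ := fixed_line D B hW (hu ▸ huv) (hu ▸ hlu) hlv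
      have hk'0 : k' ≠ 0 := fun h0 => hl (by rw [hk', h0, zero_smul])
      have h3 := h2
      rw [hk', herm_smul_right D.form, herm_sub_right D.form, herm_smul_right D.form, ← hu, h1, mul_zero, sub_zero,
        mul_eq_zero] at h3
      exact h3.resolve_left (by simpa using hk'0)
    rw [hz0, zero_smul, add_zero] at hco
    rw [← hco, ht]
    abel
  have hsd : σ s * σ d = s * d := by
    have h0 := hv1v1
    rw [hs, D.form.add_left, herm_add_right D.form, herm_add_right D.form, D.form.smul_left, herm_smul_right D.form,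
      herm_smul_right D.form, D.form.smul_left, hvv, hee, hvu, ← hd, mul_zero, mul_zero, add_zero, zero_add,
      CharTwo.add_eq_zero] at h0
    exact h0
  have hcu := congrArg (fun g : G3 => (g : M3) *ᵥ u) hc
  simp only [gl_mul_mulVec] at hcu
  rw [← hxeq, ← hyeq] at hcu
  simp only [prod_apply D.form hzu hvx, prod_apply D.form hzu hv1x] at hcu
  have hcu2 := congrArg (fun x => f x v) hcu
  simp only [hs, D.form.add_left, D.form.smul_left, herm_add_right D.form, herm_smul_right D.form, hvv, hee, hvu,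
    ← hd, mul_zero, add_zero, zero_add] at hcu2
  have key : d * s * (d * s + d * σ d) = 0 := by
    refine (mul_eq_zero.1 (show d * (d * s * (d * s + d * σ d)) = 0 from ?_)).resolve_left hd0
    rw [hsd] at hcu2
    linear_combination -hcu2
  rcases mul_eq_zero.1 key with h0 | h0
  · left
    have hs0 : s = 0 := (mul_eq_zero.1 h0).resolve_left hd0
    rw [hs0, zero_smul, add_zero] at hs
    exact mul_left_cancel (Rt.eq (hs ▸ hv1x) hvx)
  · right
    have hs0 : s = σ d := by
      have : d * (s + σ d) = 0 := by rw [mul_add]; exact h0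
      exact CharTwo.add_eq_zero.1 ((mul_eq_zero.1 this).resolve_left hd0)
    have h4 := hvx.conj (hM hz).1
    rw [show (z : M3) *ᵥ v = v1 by rw [hs, hs0, hzu, hvu], show z * (z * x) * z⁻¹ = z * x⁻¹ by
      rw [← hinv]; group] at h4
    exact mul_left_cancel (Rt.eq hv1x h4)

end CfsgLib.Perm.Trans.UnitThree.HSub
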