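import Cfsg.Agent.Lib.Perm.Trans.UnitThree.SubfPoints
import Cfsg.Agent.Lib.Perm.Trans.UnitThree.EvenTv
import Cfsg.Agent.Lib.Perm.Trans.UnitThree.Involution
import Cfsg.Agent.Lib.Invol.IsolatedSylow

/-!
# Overgroups of the rational group over four elements with transvection groups of order two

All involutions are conjugate to rational transvections and two with one centre are equal, so that involutions
are isolated.  No element of prime order at least five commutes with an involution.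
-/

set_option autoImplicit false
set_option linter.all false

namespace CfsgLib.Perm.Trans.UnitThree.HSub

open scoped Matrix
open Matrix Cfsg.Geo CfsgLib.Perm.Asch CfsgLib.Perm.Trans CfsgLib.Perm.Trans.Unit CfsgLib.Perm.Trans.UnitThree
open CfsgLib.Perm.Trans.Subf (em lift em_add em_neg em_sub em_smul em_sum em_zero em_injective em_ne_zero exists_coords lift_em lift_mem ext_em)

attribute [local instance] CfsgLib.Perm.Trans.Unit.subfieldFintype

variable {F : Type*} [Field F] [Fintype F] [CharP F 2]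

local notation "M3" => Matrix (Fin 3) (Fin 3) F
local notation "G3" => GL (Fin 3) F
local notation "V3" => Fin 3 → F

variable {σ : F ≃+* F} {f : (Fin 3 → F) → (Fin 3 → F) → F} {F₀ : Subfield F} {P : GL (Fin 3) F} {r : ℕ}

/-- the transvection of a vector -/
def Rt (f : (Fin 3 → F) → (Fin 3 → F) → F) (v : Fin 3 → F) (z : GL (Fin 3) F) : Prop :=
  ∀ x, (z : Matrix (Fin 3) (Fin 3) F) *ᵥ x = x + f x v • v

omit [Fintype F] [CharP F 2] in
theorem Rt.eq {v : V3} {z w : G3} (h : Rt f v z) (h' : Rt f v w) : z = w :=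
  gl_ext_vec fun x => by rw [h, h']

omit [Fintype F] [CharP F 2] in
theorem Rt.conj {v : V3} {z g : G3} (h : Rt f v z) (hg : g ∈ isoU f) : Rt f ((g : M3) *ᵥ v) (g * z * g⁻¹) := fun x => by
  rw [gl_mul_mulVec, gl_mul_mulVec, h, mulVec_add, mulVec_smul, gl_mulVec_inv, ← mem_isoU.1 hg _ v, gl_mulVec_inv]

omit [Fintype F] in
theorem Rt.sq (hf : IsUnitaryForm σ f) {v : V3} {z : G3} (h : Rt f v z) (hvv : f v v = 0) : z * z = 1 :=
  gl_ext_vec fun x => by
    rw [gl_mul_mulVec, h, h, hf.add_left, hf.smul_left, hvv, mul_zero, add_zero, Units.val_one, one_mulVec,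
      add_assoc, ← add_smul, CharTwo.add_self_eq_zero, zero_smul, add_zero]

omit [CharP F 2] in
theorem Rt.ne_one (hf : IsUnitaryForm σ f) {v : V3} {z : G3} (h : Rt f v z) (hv : v ≠ 0) : z ≠ 1 := fun e => by
  obtain ⟨x, hx⟩ := (hf.nondegenerate v hv).1
  have := h x
  rw [e, Units.val_one, one_mulVec, left_eq_add, smul_eq_zero] at this
  exact this.elim hx hv

variable (D : HermRat σ f F₀ P r) {M : Subgroup (GL (Fin 3) F)}
variable (hHM : subfieldSubgroup F₀ P ⊓ (isoU f ⊓ specialLinear (Fin 3) F) ≤ M)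
variable (hM : M ≤ isoU f ⊓ specialLinear (Fin 3) F)
variable (htight : ∀ a : Fin 3 → F₀, hrForm D a a = 0 → a ≠ 0 → ∀ c : F, TvAt σ f M (em F₀ P a) c → c = 0 ∨ c = 1)

include D

theorem exists_nonorth {v : V3} (hv : v ≠ 0) : ∃ a : Fin 3 → F₀, hrForm D a a = 0 ∧ a ≠ 0 ∧ f (em F₀ P a) v ≠ 0 := by
  by_contra hcon
  push Not at hcon
  obtain ⟨e, h, w, B⟩ := exists_rb D
  obtain ⟨ee, hh, eh, he, we, wh, ew, hw, ww, wσ⟩ := B.em_facts
  obtain ⟨α, hα⟩ := exists_rat_trace D (d := ⟨-f (em F₀ P w) (em F₀ P w), F₀.neg_mem (D.rat w w)⟩)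
    (by show σ (-f (em F₀ P w) (em F₀ P w)) = _; rw [map_neg, wσ])
  have hbb : hrForm D (α • e + h + (1 : F₀) • w) (α • e + h + (1 : F₀) • w) = 0 := RB.iso_vec D B (by
    rw [OneMemClass.coe_one, map_one, hα, one_mul, one_mul]; exact neg_add_cancel _)
  have h1 : ∀ a, hrForm D a a = 0 → f v (em F₀ P a) = 0 := fun a ha => by
    by_cases ha0 : a = 0
    · rw [ha0, em_zero, herm_zero_right D.form]
    · exact herm_swap_zero D.form (hcon a ha ha0)
  have hb := h1 _ hbb
  rw [one_smul, em_add, em_add, em_smul, herm_add_right D.form, herm_add_right D.form, herm_smul_right D.form,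
    h1 e B.ee, h1 h B.hh, mul_zero, zero_add, zero_add] at hb
  refine hv ?_
  rw [B.vec_eq (z := v), h1 e B.ee, h1 h B.hh, hb, zero_div]
  simp

include hHM

theorem exists_rt {a : Fin 3 → F₀} (ha : hrForm D a a = 0) : ∃ z ∈ M, Rt f (em F₀ P a) z := by
  obtain ⟨z, hz, hzx⟩ := hr_rat_tv D hHM ha (c := 1) (Subtype.ext (by
    rw [hrBar_coe, OneMemClass.coe_one, map_one]; push_cast; rw [CharTwo.neg_eq]))
  exact ⟨z, hz, fun x => by rw [hzx, OneMemClass.coe_one, one_mul]⟩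

include hM

omit hHM in
/-- involutions are transvections of vectors -/
theorem rt_of_invol {z : G3} (hz : z ∈ M) (h2 : z * z = 1) (h1 : z ≠ 1) : ∃ v, v ≠ 0 ∧ f v v = 0 ∧ Rt f v z := by
  obtain ⟨u, c, hu, hc, huu, ⟨hσc, -⟩, hzx⟩ := involution_tv D.form (hM.trans inf_le_left) hz h2 h1
  obtain ⟨b, hb⟩ := exists_norm D.form hσc
  have hb0 : b ≠ 0 := fun h0 => hc (by rw [← hb, h0, zero_mul])
  refine ⟨b • u, smul_ne_zero hb0 hu, by rw [D.form.smul_left, herm_smul_right D.form, huu, mul_zero, mul_zero], fun x => ?_⟩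
  rw [hzx, ← hb, herm_smul_right D.form, smul_smul]
  congr 2
  ring

include htight

/-- two involutions with one centre are equal -/
theorem centre_unique {z z' : G3} (hz : z ∈ M) (hz' : z' ∈ M) {v v' : V3} {b : F} (hv : v ≠ 0) (hvv : f v v = 0)
    (hb : b ≠ 0) (hvb : v' = b • v) (hzv : Rt f v z) (hzv' : Rt f v' z') : z = z' := by
  have hiso := hM.trans inf_le_left
  obtain ⟨a, haa, ha0, hav⟩ := exists_nonorth D hv
  obtain ⟨t, ht, htx⟩ := exists_rt D hHM haa
  have hE : em F₀ P a ≠ 0 := em_ne_zero F₀ P ha0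
  have hEE := hr_em_iso D haa
  rcases conj_or_commuting ht hz (htx.sq D.form hEE) (hzv.sq D.form hvv) with ⟨g, hg, hgz⟩ | ⟨x, hx, hxx, hx1, hc1, hc2⟩
  · have h1 := htx.conj (hiso hg)
    rw [hgz] at h1
    obtain ⟨β, hβ, -⟩ := tv_eq D.form (c := 1) (d := 1) (u := (g : M3) *ᵥ em F₀ P a) hv hvv one_ne_zero
      (fun x => by rw [h1, one_mul]) (fun x => by rw [hzv, one_mul])
    have hβ0 : β ≠ 0 := fun h0 => hv (by rw [hβ, h0, zero_smul])
    have h2 := hzv'.conj (hiso (M.inv_mem hg))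
    rw [hvb, hβ, smul_smul, mulVec_smul, gl_inv_mulVec, inv_inv] at h2
    obtain ⟨c, hc⟩ : ∃ c, c = b * β * σ (b * β) := ⟨_, rfl⟩
    have h3 : TvAt σ f M (em F₀ P a) c := by
      refine ⟨by rw [hc, map_mul, D.form.involutive, mul_comm], g⁻¹ * z' * g, M.mul_mem (M.mul_mem (M.inv_mem hg) hz') hg,
        fun x => ?_⟩
      rw [h2, herm_smul_right D.form, smul_smul, hc]
      congr 2
      ring
    have hc0 : c ≠ 0 := hc ▸ mul_ne_zero (mul_ne_zero hb hβ0) (by simpa using And.intro hb hβ0)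
    have hc1 := (htight a haa ha0 c h3).resolve_left hc0
    have h4 : g⁻¹ * z' * g = t := gl_ext_vec fun x => by
      rw [h2, htx, herm_smul_right D.form, smul_smul, mul_right_comm, mul_comm (σ _), ← hc, hc1, one_mul]
    rw [← hgz, ← h4]
    group
  · exfalso
    obtain ⟨e, he, hee, hex⟩ := rt_of_invol D hM hx hxx hx1
    have k1 := orth_of_comm D.form hE hEE one_ne_zero one_ne_zero (fun y => by rw [htx, one_mul])
      (fun y => by rw [hex, one_mul]) hc1
    have k2 := orth_of_comm D.form hv hvv one_ne_zero one_ne_zero (fun y => by rw [hzv, one_mul])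
      (fun y => by rw [hex, one_mul]) hc2
    obtain ⟨k, hk⟩ := Submodule.mem_span_singleton.1 (eq_smul_of_orth D.form (by simp) hE hEE hee k1)
    rw [← hk, herm_smul_right D.form] at k2
    rcases mul_eq_zero.1 k2 with h0 | h0
    · exact he (by rw [← hk, show k = 0 by simpa using h0, zero_smul])
    · exact hav (herm_swap_zero D.form h0)

/-- rational transvections are isolated -/
theorem rt_isolated {z : G3} (hz : z ∈ M) {u : V3} (hu : u ≠ 0) (huu : f u u = 0) (hzu : Rt f u z) :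
    Cfsg.IsIsolatedInvolution (⟨z, hz⟩ : M) := by
  refine ⟨orderOf_eq_prime (Subtype.ext (by rw [pow_two]; exact hzu.sq D.form huu))
    (fun e => hzu.ne_one D.form hu (congrArg Subtype.val e)), fun g hg => ?_⟩
  have hiso := hM.trans inf_le_left
  have h1 := hzu.conj (hiso g.2)
  have hgu : ((g : G3) : M3) *ᵥ u ≠ 0 := fun h0 => hu (gl_mulVec_eq_zero.1 h0)
  have hgg : f (((g : G3) : M3) *ᵥ u) (((g : G3) : M3) *ᵥ u) = 0 := by rw [mem_isoU.1 (hiso g.2), huu]
  have hc : z * ((g : G3) * z * (g : G3)⁻¹) = ((g : G3) * z * (g : G3)⁻¹) * z := congrArg Subtype.val hg.eq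
  have k1 := orth_of_comm D.form hu huu one_ne_zero one_ne_zero (fun y => by rw [hzu, one_mul])
      (fun y => by rw [h1, one_mul]) hc
  obtain ⟨k, hk⟩ := Submodule.mem_span_singleton.1 (eq_smul_of_orth D.form (by simp) hu huu hgg k1)
  have hk0 : k ≠ 0 := fun h0 => hgu (by rw [← hk, h0, zero_smul])
  exact Subtype.ext (centre_unique D hHM hM htight hz (M.mul_mem (M.mul_mem g.2 hz) (M.inv_mem g.2)) hu huu hk0 hk.symm
    hzu h1).symm

omit htight hM hHM

variable {e h w : Fin 3 → F₀}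

/-- the fixed line of a product of two transvections -/
theorem fixed_line (B : RB D e h w) (hW : f (em F₀ P w) (em F₀ P w) = 1) {v y : V3} (huv : f (em F₀ P e) v ≠ 0)
    (hyu : f y (em F₀ P e) = 0) (hyv : f y v = 0) :
    ∃ k : F, y = k • (em F₀ P w - (f (em F₀ P w) v / f (em F₀ P e) v) • em F₀ P e) := by
  have hy := B.vec_eq (z := y)
  rw [hyu, hW, div_one, zero_smul, add_zero] at hy
  refine ⟨f y (em F₀ P w), ?_⟩
  have h1 : f y (em F₀ P h) = -(f y (em F₀ P w) * (f (em F₀ P w) v / f (em F₀ P e) v)) := by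
    have h2 := congrArg (fun x => f x v) hy
    simp only [hyv, D.form.add_left, D.form.smul_left] at h2
    field_simp
    linear_combination -h2
  conv_lhs => rw [hy, h1]
  module

/-- a rational Heisenberg element -/
theorem exists_heis_two (B : RB D e h w) (hW : f (em F₀ P w) (em F₀ P w) = 1) :
    ∃ g ∈ subfieldSubgroup F₀ P ⊓ (isoU f ⊓ specialLinear (Fin 3) F), (g : M3) *ᵥ em F₀ P e = em F₀ P e ∧
      (g : M3) *ᵥ em F₀ P w = em F₀ P w + em F₀ P e := by
  obtain ⟨ee, hh, eh, he, we, wh, ew, hw, -, -⟩ := B.em_facts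
  obtain ⟨γ, hγ⟩ := exists_rat_trace D (d := 1) (by rw [OneMemClass.coe_one, map_one])
  rw [OneMemClass.coe_one] at hγ
  obtain ⟨u, hu⟩ : ∃ u, u = em F₀ P e := ⟨_, rfl⟩
  obtain ⟨E, hE⟩ : ∃ E, E = em F₀ P w := ⟨_, rfl⟩
  rw [← hu, ← hE] at we ew ⊢
  rw [← hu] at ee
  rw [← hE] at hW
  obtain ⟨A, hA⟩ : ∃ A : M3, A = 1 + vecMulVec (E + (γ : F) • u) (hv D.form u) + vecMulVec u (hv D.form E) :=
    ⟨_, rfl⟩
  have happ : ∀ x, A *ᵥ x = x + f x u • (E + (γ : F) • u) + f x E • u := fun x => by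
    rw [hA, add_mulVec, add_mulVec, one_mulVec, vecMulVec_mulVec, vecMulVec_mulVec, op_smul_eq_smul,
      op_smul_eq_smul, hv_dot, hv_dot]
  have hiso : ∀ x y, f (A *ᵥ x) (A *ᵥ y) = f x y := by
    intro x y
    simp only [happ, D.form.add_left, herm_add_right D.form, D.form.smul_left, herm_smul_right D.form, ee, we, ew,
      hW, mul_zero, mul_one, add_zero, zero_add, ← D.form.herm]
    linear_combination (f u y * f x u) * hγ + (f x u * f u y + f x u * f E y + f x E * f u y) * (CharTwo.two_eq_zero : (2 : F) = 0)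
  have hdet : A.det = 1 := by
    have key : ∀ (v w φ ψ : V3), (1 + vecMulVec v φ + vecMulVec w ψ).det =
        (1 + φ ⬝ᵥ v) * (1 + ψ ⬝ᵥ w) - (φ ⬝ᵥ w) * (ψ ⬝ᵥ v) := by
      intro v w φ ψ
      let C : Matrix (Fin 3) (Fin 2) F := Matrix.of fun i j => if j = 0 then v i else w i
      let B : Matrix (Fin 2) (Fin 3) F := Matrix.of fun j i => if j = 0 then φ i else ψ i
      have hCB : 1 + vecMulVec v φ + vecMulVec w ψ = 1 + C * B := by
        rw [add_assoc]
        congr 1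
        ext i j
        simp [C, B, Matrix.mul_apply, vecMulVec_apply, Fin.sum_univ_two]
      rw [hCB, det_one_add_mul_comm, det_fin_two]
      simp [C, B, Matrix.mul_apply, Matrix.one_apply, dotProduct]
    rw [hA, key, hv_dot, hv_dot, hv_dot, hv_dot, D.form.add_left, D.form.add_left, D.form.smul_left,
      D.form.smul_left, ee, we, ew, hW]
    ring
  refine ⟨Matrix.GeneralLinearGroup.mkOfDetNeZero A (by rw [hdet]; exact one_ne_zero),
    ⟨?_, mem_isoU.2 hiso, Units.ext hdet⟩, ?_, ?_⟩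
  · refine Subf.mem_subfieldSubgroup_of_image F₀ P one_ne_zero fun i => ⟨Pi.single i 1 +
      hrForm D (Pi.single i 1) e • (w + γ • e) + hrForm D (Pi.single i 1) w • e, ?_⟩
    show A *ᵥ _ = _
    rw [one_smul, happ, em_add, em_add, em_smul, em_smul, em_add, em_smul, hrForm_coe, hrForm_coe, ← hu, ← hE]
  · show A *ᵥ u = u
    rw [happ, ee, ew, zero_smul, zero_smul, add_zero, add_zero]
  · show A *ᵥ E = E + u
    rw [happ, we, hW, zero_smul, add_zero, one_smul]

include hM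

/-- the squares of elements fixing a flag -/
theorem flag_sq (B : RB D e h w) (hW : f (em F₀ P w) (em F₀ P w) = 1) {g : G3} (hg : g ∈ M) {m : F}
    (h1 : (g : M3) *ᵥ em F₀ P e = em F₀ P e) (h2 : (g : M3) *ᵥ em F₀ P w = em F₀ P w + m • em F₀ P e) :
    TvAt σ f M (em F₀ P e) (m * σ m) := by
  obtain ⟨ee, hh, eh, he, we, wh, ew, hw, -, -⟩ := B.em_facts
  have hiso := mem_isoU.1 (hM hg).1
  obtain ⟨u, hu⟩ : ∃ u, u = em F₀ P e := ⟨_, rfl⟩
  obtain ⟨H, hH⟩ : ∃ H, H = em F₀ P h := ⟨_, rfl⟩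
  obtain ⟨E, hE⟩ : ∃ E, E = em F₀ P w := ⟨_, rfl⟩
  rw [← hu] at h1
  rw [← hu, ← hE] at h2 we ew
  rw [← hu] at ee ⊢
  rw [← hE] at hW
  rw [← hH] at hh
  rw [← hE, ← hH] at wh hw
  rw [← hu, ← hH] at eh he
  have hco : ∀ x, x = f x H • u + f x u • H + f x E • E := fun x => by
    conv_lhs => rw [B.vec_eq (z := x)]
    rw [← hu, ← hH, ← hE, hW, div_one]
  obtain ⟨y, hy⟩ : ∃ y, y = (g : M3) *ᵥ H := ⟨_, rfl⟩
  have k1 : f y u = 1 := by
    have := hiso H u
    rwa [← hy, h1, he] at this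
  have k2 : f y E = σ m := by
    have := hiso H E
    rw [← hy, h2, hw, herm_add_right D.form, herm_smul_right D.form, k1, mul_one, CharTwo.add_eq_zero] at this
    exact this
  obtain ⟨l, hl⟩ : ∃ l, l = f y H := ⟨_, rfl⟩
  have hyl : y = l • u + H + σ m • E := by
    conv_lhs => rw [hco y]
    rw [← hl, k1, k2, one_smul]
  refine ⟨by rw [map_mul, D.form.involutive, mul_comm], g * g, M.mul_mem hg hg, fun x => ?_⟩
  obtain ⟨a, b, c, hb, hx⟩ : ∃ a b c : F, b = f x u ∧ x = a • u + b • H + c • E := ⟨_, _, _, rfl, hco x⟩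
  rw [← hb, hx]
  simp only [gl_mul_mulVec, mulVec_add, mulVec_smul, h1, h2, ← hy, hyl]
  match_scalars <;> ring_nf <;> simp [CharTwo.two_eq_zero]

include hHM htight

/-- no element of prime order at least five commutes with an involution -/
theorem no_prime_comm (B : RB D e h w) (hW : f (em F₀ P w) (em F₀ P w) = 1) {z : G3} (hz : z ∈ M)
    (hzu : Rt f (em F₀ P e) z) {g : G3} (hg : g ∈ M) (hc : g * z = z * g) {s : ℕ} (hs : s.Prime) (hs5 : 5 ≤ s)
    (hgs : g ^ s = 1) : g = 1 := by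
  obtain ⟨ee, hh, eh, he, we, wh, ew, hw, -, -⟩ := B.em_facts
  have hiso := mem_isoU.1 (hM hg).1
  obtain ⟨u, hu⟩ : ∃ u, u = em F₀ P e := ⟨_, rfl⟩
  obtain ⟨H, hH⟩ : ∃ H, H = em F₀ P h := ⟨_, rfl⟩
  obtain ⟨E, hE⟩ : ∃ E, E = em F₀ P w := ⟨_, rfl⟩
  have hu0 : u ≠ 0 := hu ▸ em_ne_zero F₀ P B.e0
  have hE0 : E ≠ 0 := fun h0 => by rw [← hE, h0, herm_zero_left D.form] at hW; exact zero_ne_one hW
  obtain ⟨h0e, h0mem, hh1, hh2⟩ := exists_heis_two D B hW
  have h0M : h0e ∈ M := hHM h0mem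
  rw [← hu] at hzu ee hh1 hh2
  rw [← hE] at hW hh2
  rw [← hu, ← hE] at we ew
  rw [← hH] at hh
  rw [← hE, ← hH] at wh hw
  rw [← hu, ← hH] at eh he
  have hco : ∀ x, x = f x H • u + f x u • H + f x E • E := fun x => by
    conv_lhs => rw [B.vec_eq (z := x)]
    rw [← hu, ← hH, ← hE, hW, div_one]
  -- the point is fixed
  have h1 := hzu.conj (hM hg).1
  rw [show g * z * g⁻¹ = z by rw [hc, mul_inv_cancel_right]] at h1
  have hgu0 : (g : M3) *ᵥ u ≠ 0 := fun h0 => hu0 (gl_mulVec_eq_zero.1 h0)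
  obtain ⟨a, ha, hNa⟩ := tv_eq D.form (c := 1) (d := 1) hgu0 (by rw [hiso, ee]) one_ne_zero
    (fun x => by rw [hzu, one_mul]) (fun x => by rw [h1, one_mul])
  have hNa1 : a * σ a = 1 := by simpa using (hNa hu0).symm
  have ha0 : a ≠ 0 := fun h0 => by simp [h0] at hNa1
  obtain ⟨β, hβ⟩ : ∃ β, β = f ((g : M3) *ᵥ E) E := ⟨_, rfl⟩
  obtain ⟨n, hn⟩ : ∃ n, n = f ((g : M3) *ᵥ E) H := ⟨_, rfl⟩
  have hgE : (g : M3) *ᵥ E = n • u + β • E := by
    have h2 : f ((g : M3) *ᵥ E) u = 0 := by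
      have := hiso E u
      rw [ha, we, herm_smul_right D.form, mul_eq_zero] at this
      exact this.resolve_left (by simpa using ha0)
    conv_lhs => rw [hco ((g : M3) *ᵥ E)]
    rw [← hn, h2, ← hβ, zero_smul, add_zero]
  -- iterates
  have hpw : ∀ k : ℕ, ((g ^ k : G3) : M3) *ᵥ u = a ^ k • u ∧
      ∃ c : F, ((g ^ k : G3) : M3) *ᵥ E = c • u + β ^ k • E := by
    intro k
    induction k with
    | zero => exact ⟨by simp, 0, by simp⟩
    | succ k ih =>
      obtain ⟨i1, c, i2⟩ := ih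
      refine ⟨?_, a * c + β ^ k * n, ?_⟩
      · rw [pow_succ', gl_mul_mulVec, i1, mulVec_smul, ha, smul_smul, pow_succ]
      · rw [pow_succ', gl_mul_mulVec, i2, mulVec_add, mulVec_smul, mulVec_smul, ha, hgE, pow_succ]
        module
  have has : a ^ s = 1 := by
    have := (hpw s).1
    rw [hgs, Units.val_one, one_mulVec] at this
    exact (smul_left_injective F hu0 (show (1 : F) • u = a ^ s • u by rw [one_smul]; exact this)).symm
  have hβs : β ^ s = 1 := by
    obtain ⟨-, c, hc'⟩ := hpw s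
    rw [hgs, Units.val_one, one_mulVec] at hc'
    have := congrArg (fun x => f x E) hc'
    simp only [D.form.add_left, D.form.smul_left, ew, hW, mul_zero, mul_one, zero_add] at this
    exact this.symm
  have hβ0 : β ≠ 0 := fun h0 => by rw [h0, zero_pow hs.ne_zero] at hβs; exact zero_ne_one hβs
  -- the ratio has order dividing three
  obtain ⟨k, hk⟩ : ∃ k, k = a / β := ⟨_, rfl⟩
  have hconj : ((g * h0e * g⁻¹ : G3) : M3) *ᵥ E = E + k • u ∧ ((g * h0e * g⁻¹ : G3) : M3) *ᵥ u = u := by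
    have e1 : ((g⁻¹ : G3) : M3) *ᵥ u = a⁻¹ • u := by
      conv_rhs => rw [← gl_inv_mulVec g u, ha, mulVec_smul, smul_smul, inv_mul_cancel₀ ha0, one_smul]
    have e2 : ((g⁻¹ : G3) : M3) *ᵥ E = β⁻¹ • E + (-(n / (β * a))) • u := by
      conv_lhs => rw [show E = (g : M3) *ᵥ (β⁻¹ • E + (-(n / (β * a))) • u) by
        rw [mulVec_add, mulVec_smul, mulVec_smul, hgE, ha]
        match_scalars <;> field_simp <;> ring, gl_inv_mulVec]
    constructor
    · rw [gl_mul_mulVec, gl_mul_mulVec, e2, mulVec_add, mulVec_smul, mulVec_smul, hh2, hh1, mulVec_add, mulVec_smul,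
        mulVec_smul, mulVec_add, hgE, ha, hk]
      match_scalars <;> field_simp <;> ring
    · rw [gl_mul_mulVec, gl_mul_mulVec, e1, mulVec_smul, hh1, mulVec_smul, ha, smul_smul, inv_mul_cancel₀ ha0,
        one_smul]
  have hk0 : k ≠ 0 := hk ▸ div_ne_zero ha0 hβ0
  have hvals : ∀ m, (∃ x ∈ M, (x : M3) *ᵥ u = u ∧ (x : M3) *ᵥ E = E + m • u) → m * σ m = 0 ∨ m * σ m = 1 := by
    rintro m ⟨x, hx, hx1, hx2⟩
    exact htight e B.ee B.e0 _ (flag_sq D hM B (hE ▸ hW) hx (hu ▸ hx1) (by rw [← hu, ← hE]; exact hx2))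
  have hgh : g * h0e * g⁻¹ ∈ M := M.mul_mem (M.mul_mem hg h0M) (M.inv_mem hg)
  have hkk : k * σ k = 1 := (hvals k ⟨_, hgh, hconj.2, hconj.1⟩).resolve_left
    (mul_ne_zero hk0 (by simpa using hk0))
  have hk1 := hvals (k + 1) ⟨_, M.mul_mem hgh h0M, by rw [gl_mul_mulVec, hh1, hconj.2], by
    rw [gl_mul_mulVec, hh2, mulVec_add, hconj.1, hconj.2, add_smul, one_smul, add_assoc]⟩
  have h2z : (2 : F) = 0 := CharTwo.two_eq_zero
  have hk3 : k ^ 3 = 1 := by
    rcases hk1 with h0 | h0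
    · rcases mul_eq_zero.1 h0 with h' | h'
      · rw [CharTwo.add_eq_zero.1 h', one_pow]
      · rw [map_eq_zero, CharTwo.add_eq_zero] at h'
        rw [h', one_pow]
    · rw [map_add, map_one] at h0
      linear_combination (k * k - k) * h0 - (k * k - k) * hkk - (k - 1) * hkk
  have hks : k ^ s = 1 := by rw [hk, div_pow, has, hβs, div_one]
  have hk11 : k = 1 := by
    have h3 : orderOf k ∣ 3 := orderOf_dvd_of_pow_eq_one hk3
    have h4 : orderOf k ∣ s := orderOf_dvd_of_pow_eq_one hks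
    have : Nat.gcd 3 s = 1 := (Nat.coprime_primes Nat.prime_three hs).2 (by omega)
    exact orderOf_eq_one_iff.1 (Nat.dvd_one.1 (this ▸ Nat.dvd_gcd h3 h4))
  have hab : β = a := ((div_eq_one_iff_eq hβ0).1 (hk ▸ hk11)).symm
  rw [hab] at hgE
  -- the fourth power is scalar
  obtain ⟨y, hy⟩ : ∃ y, y = (g : M3) *ᵥ H := ⟨_, rfl⟩
  have hyu : f y u = a := by
    have := hiso H u
    rw [← hy, ha, he, herm_smul_right D.form] at this
    calc f y u = (a * σ a) * f y u := by rw [hNa1, one_mul]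
      _ = a * (σ a * f y u) := by ring
      _ = a := by rw [this, mul_one]
  obtain ⟨l, m, hyl⟩ : ∃ l m, y = l • u + a • H + m • E :=
    ⟨f y H, f y E, by conv_lhs => rw [hco y, hyu]⟩
  have h4 : ∀ x, ((g ^ 4 : G3) : M3) *ᵥ x = a ^ 4 • x := fun x => by
    have e1 : ∀ x, ((g ^ 4 : G3) : M3) *ᵥ x = (g : M3) *ᵥ ((g : M3) *ᵥ ((g : M3) *ᵥ ((g : M3) *ᵥ x))) := fun x => by
      simp only [pow_succ, pow_zero, one_mul, gl_mul_mulVec]
    obtain ⟨p, q, r', hx⟩ : ∃ p q r' : F, x = p • u + q • H + r' • E := ⟨_, _, _, hco x⟩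
    rw [e1, hx]
    simp only [mulVec_add, mulVec_smul, ha, hgE, ← hy, hyl]
    have h4z : (4 : F) = 0 := by linear_combination 2 * h2z
    have h6z : (6 : F) = 0 := by linear_combination 3 * h2z
    match_scalars <;> ring_nf <;> simp [h4z, h6z]
  have hdet := congrArg Units.val (hM (M.pow_mem hg 4)).2
  rw [Matrix.GeneralLinearGroup.val_det_apply, show ((g ^ 4 : G3) : M3) = a ^ 4 • (1 : M3) from
    Matrix.ext_iff_mulVec.2 fun x => by rw [h4, smul_mulVec, one_mulVec], Matrix.det_smul, det_one, mul_one,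
    Fintype.card_fin, ← pow_mul, Units.val_one] at hdet
  have ha1 : a = 1 := by
    have h3 : orderOf a ∣ 4 * 3 := orderOf_dvd_of_pow_eq_one hdet
    have h4 : orderOf a ∣ s := orderOf_dvd_of_pow_eq_one has
    have : Nat.gcd (4 * 3) s = 1 := Nat.Coprime.mul_left
      ((Nat.Coprime.pow_left 2 ((Nat.coprime_primes Nat.prime_two hs).2 (by omega)) : Nat.Coprime (2 ^ 2) s))
      ((Nat.coprime_primes Nat.prime_three hs).2 (by omega))
    exact orderOf_eq_one_iff.1 (Nat.dvd_one.1 (this ▸ Nat.dvd_gcd h3 h4))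
  have hg4 : g ^ 4 = 1 := gl_ext_vec fun x => by rw [h4, ha1, one_pow, one_smul, Units.val_one, one_mulVec]
  have h3 : orderOf g ∣ 4 := orderOf_dvd_of_pow_eq_one hg4
  have h5 : orderOf g ∣ s := orderOf_dvd_of_pow_eq_one hgs
  have : Nat.gcd 4 s = 1 := (Nat.Coprime.pow_left 2 ((Nat.coprime_primes Nat.prime_two hs).2 (by omega)) : Nat.Coprime (2 ^ 2) s)
  exact orderOf_eq_one_iff.1 (Nat.dvd_one.1 (this ▸ Nat.dvd_gcd h3 h5))

end CfsgLib.Perm.Trans.UnitThree.HSub
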